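import Cfsg.Agent.Lib.Co3Inv.NbrCheck

/-!
Recognition of the third Conway group: the radical of an element of the class outside the radical, and its
transvection outside the first normalizer.
-/

set_option autoImplicit false

namespace Cfsg.Agent.Co3Inv

open Cfsg.Agent.PermCert

theorem okP_inB {g : ℕ} (h : inB g = true) : okP g = true := by
  simp only [inB, Bool.and_eq_true] at h
  exact h.1.1.1

theorem tmC_ok {S : ℕ} (hS : S < 32) : okP (tmC S) = true ∧ kP (tmC S) = kS S ∧ qP (tmC S) = qS S ∧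
    pP (tmC S) (tmC S) = oneP ∧ (tmC S = oneP → S = 0) ∧ ∀ T < 32, pP (tmC S) (tmC T) = tmC (S ^^^ T) := by
  have h := allBelow_spec _ _ chk_tm.1 S hS
  simp only [Bool.and_eq_true, Bool.or_eq_true, beq_iff_eq, Nat.beq_eq, Bool.not_eq_true'] at h
  obtain ⟨⟨⟨⟨⟨⟨h1, -⟩, h3⟩, h4⟩, h5⟩, h6⟩, h7⟩ := h
  refine ⟨h1, h4, h5, h3, fun he => h6.resolve_right (fun h => ?_), fun T hT => ?_⟩
  · rw [he] at h; simp at h
  · have := allBelow_spec _ _ h7 T hT; rwa [Nat.beq_eq] at this

theorem xor_lt_32 {a b : ℕ} (ha : a < 32) (hb : b < 32) : a ^^^ b < 32 :=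
  Nat.xor_lt_two_pow (n := 5) ha hb

theorem foldl5_xor (m : ℕ) : (List.range 5).foldl (fun acc k => bif m.testBit k then acc ^^^ bdom k else acc) 0 < 32 := by
  have h : ∀ k ∈ List.range 5, bdom k < 32 := by decide +kernel
  suffices key : ∀ (l : List ℕ), (∀ k ∈ l, bdom k < 32) → ∀ acc < 32,
      l.foldl (fun acc k => bif m.testBit k then acc ^^^ bdom k else acc) acc < 32 from key _ h 0 (by norm_num)
  intro l
  induction l with
  | nil => exact fun _ acc h => h
  | cons k l ih =>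
    intro hl acc ha
    rw [List.foldl_cons]
    refine ih (fun j hj => hl j (List.mem_cons_of_mem _ hj)) _ ?_
    cases m.testBit k
    · exact ha
    · exact xor_lt_32 ha (hl k List.mem_cons_self)

/-- The symmetric matrix with given coordinates in the basis of the common part. -/
def dcom (m : ℕ) : ℕ := (List.range 5).foldl (fun acc k => bif m.testBit k then acc ^^^ bdom k else acc) 0

theorem dcom_facts : ((∀ S < 32, ∃ m < 32, dcom m = S) ∧ (∀ i < 32, ∀ j < 32, dcom i = dcom j → i = j)) ∧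
    dcom 0 = 0 ∧ dcom 1 = 12 ∧ ∀ i < 5, dcom (2 ^ i) = bdom i := by decide +kernel

theorem dcom_lt (m : ℕ) : dcom m < 32 := foldl5_xor m

theorem dcom_xor (a b : ℕ) : dcom (a ^^^ b) = dcom a ^^^ dcom b := linFold_xor _ _ a b

theorem enumT_sound (f : ℕ → ℕ) (hlt : ∀ S < 32, f S < 64)
    (hadd : ∀ a < 32, ∀ b < 32, f (a ^^^ b) = f a ^^^ f b) (h12 : f 12 = 41)
    (hinj : ∀ a < 32, ∀ b < 32, f a = f b → a = b)
    (hq : ∀ S < 32, qS S = qS (f S)) (hk : ∀ S < 32, kS S = kS (f S))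
    (heq : ∀ g ∈ bGens, ∃ M, glB M = true ∧ ∀ S < 32, aS M (f S) = f (cjT g S)) :
    ∀ fuel k, k + fuel = 5 → enumT fuel ((List.range (2 ^ k)).map fun j => f (dcom j)) = true →
      ∃ M, glB M = true ∧ ∀ S < 32, f S = aS M S := by
  intro fuel
  induction fuel with
  | zero =>
    intro k hk5 he
    obtain rfl : k = 5 := by omega
    have htab : ∀ j < 32, ((List.range (2 ^ 5)).map fun j => f (dcom j)).getD j 0 = f (dcom j) := fun j hj => by
      rw [List.getD_eq_getElem _ _ (by simpa using hj), List.getElem_map, List.getElem_range]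
    simp only [enumT, Bool.or_eq_true, List.any_eq_true, Bool.not_eq_true'] at he
    have hp : ∀ i < 5, 2 ^ i < 32 := fun i hi => lt_of_lt_of_le (Nat.pow_lt_pow_right (by norm_num) hi) le_rfl
    rcases he with ⟨M, hM, hMi⟩ | ⟨g, hg, hno⟩
    · refine ⟨M, (gl_spec hM).1, fun S hS => ?_⟩
      obtain ⟨m, hm, rfl⟩ := dcom_facts.1.1 S hS
      suffices key : ∀ n ≤ 5, ∀ m < 2 ^ n, f (dcom m) = aS M (dcom m) from key 5 le_rfl m hm
      intro n
      induction n with
      | zero =>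
        intro _ m hm
        rw [show m = 0 by simpa using hm, dcom_facts.2.1, aS_zero]
        have h00 := hadd 0 (by norm_num) 0 (by norm_num)
        rwa [Nat.xor_self, Nat.xor_self] at h00
      | succ n ih =>
        intro hn m hm
        by_cases hlt' : m < 2 ^ n
        · exact ih (by omega) m hlt'
        · have hlo : m - 2 ^ n < 2 ^ n := by rw [pow_succ] at hm; omega
          have hd : m = 2 ^ n ^^^ (m - 2 ^ n) := by rw [← xor_pow (show n < 6 by omega) hlo]; omega
          rw [hd, dcom_xor, hadd _ (dcom_lt _) _ (dcom_lt _), aS_xor, ih (by omega) _ hlo]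
          congr 1
          have h2 := allBelow_spec _ _ hMi n (by omega)
          rw [Nat.beq_eq, htab _ (hp n (by omega))] at h2
          rw [h2, dcom_facts.2.2.2 n (by omega)]
    · exfalso
      obtain ⟨M, hM, hMe⟩ := heq g hg
      have hlin : ∀ S < 32, lin5 ((List.range (2 ^ 5)).map fun j => f (dcom j)) S = f S := by
        intro S hS
        obtain ⟨m, hm, rfl⟩ := dcom_facts.1.1 S hS
        rw [lin5]
        cases hfind : (List.range 32).find? fun m' => Nat.beq
            ((List.range 5).foldl (fun acc k => bif m'.testBit k then acc ^^^ bdom k else acc) 0) (dcom m)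
        · rw [List.find?_eq_none] at hfind
          exact absurd (Nat.beq_refl (dcom m)) (by simpa [dcom] using hfind m (List.mem_range.2 hm))
        · rename_i m'
          have h1 := List.find?_some hfind
          have h2 := List.mem_range.1 (List.mem_of_find?_eq_some hfind)
          rw [Nat.beq_eq] at h1
          rw [Option.map_some, Option.getD_some, htab m' h2]
          exact congrArg f h1
      refine Bool.eq_false_iff.1 hno (List.any_eq_true.2 ⟨M, mem_glL hM, ?_⟩)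
      refine enum_sound.allBelow_of_forall _ _ fun i hi => ?_
      have hb : bdom i < 32 := by rw [← dcom_facts.2.2.2 i hi]; exact foldl5_xor _
      have hc : cjT g (bdom i) < 32 := by
        have := List.all_eq_true.1 chk_bGens g hg
        simp only [Bool.and_eq_true] at this
        have h2 := allBelow_spec _ _ this.2 _ hb
        simp only [Bool.and_eq_true, Nat.blt_eq] at h2
        exact h2.1
      rw [Nat.beq_eq, htab _ (hp i hi), dcom_facts.2.2.2 i hi, hMe _ hb, hlin _ hc]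
  | succ fuel ih =>
    intro k hk5 he
    have hk' : k < 5 := by omega
    have hp64 : 2 ^ k < 32 := lt_of_lt_of_le (Nat.pow_lt_pow_right (by norm_num) hk') le_rfl
    have hge : ∀ j < 2 ^ k, 2 ^ k + j < 32 := fun j hj => by
      have : 2 ^ (k + 1) ≤ 2 ^ 5 := Nat.pow_le_pow_right (by norm_num) hk'
      rw [pow_succ] at this
      omega
    have h := allBelow_spec _ _ (show _ = true from he) (f (dcom (2 ^ k))) (hlt _ (dcom_lt _))
    simp only [Bool.or_eq_true, Bool.and_eq_true, Bool.not_eq_true', List.any_eq_true, List.mem_map,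
      List.mem_range, Nat.beq_eq, List.length_map, List.length_range] at h
    have hxor : ∀ j < 2 ^ k, f (dcom j) ^^^ f (dcom (2 ^ k)) = f (dcom (2 ^ k + j)) := fun j hj => by
      rw [xor_pow (show k < 6 by omega) hj, dcom_xor, hadd _ (dcom_lt _) _ (dcom_lt _), Nat.xor_comm]
    have hnext : ((List.range (2 ^ k)).map fun j => f (dcom j)) ++
        ((List.range (2 ^ k)).map fun j => f (dcom j)).map (fun w => w ^^^ f (dcom (2 ^ k))) =
        (List.range (2 ^ (k + 1))).map fun j => f (dcom j) := by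
      rw [pow_succ, Nat.mul_two, List.range_add, List.map_append, List.map_map, List.map_map]
      exact congrArg _ (List.map_congr_left fun j hj => hxor j (List.mem_range.1 hj))
    rcases h with ((⟨hk0, hne⟩ | ⟨w, ⟨j, hj, rfl⟩, hw⟩) | hfail) | h
    · exfalso
      obtain rfl : k = 0 := by
        rcases Nat.eq_zero_or_pos k with h0 | h0
        · exact h0
        · exact absurd hk0 (Nat.one_lt_two_pow h0.ne').ne'
      rw [pow_zero, dcom_facts.2.2.1, h12] at hne
      simp at hne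
    · have := dcom_facts.1.2 j (lt_trans hj hp64) _ hp64 (hinj _ (dcom_lt _) _ (dcom_lt _) hw)
      omega
    · exfalso
      rw [Bool.eq_false_iff] at hfail
      apply hfail
      refine enum_sound.allBelow_of_forall _ _ fun j hj => ?_
      rw [List.getD_eq_getElem _ _ (by simpa using hj), List.getElem_map, List.getElem_range, hxor j hj]
      simp only [Bool.and_eq_true, beq_iff_eq]
      exact ⟨hq _ (dcom_lt _), hk _ (dcom_lt _)⟩
    · rw [hnext] at h
      exact ih (k + 1) (by omega) h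

namespace Crd

variable {G : Type*} [Group G] {S : Setup G} (D : Crd S)

theorem exists_gl41 {a : ℕ} (ha : a < 64) (hk : kS a = true) : ∃ M, glB M = true ∧ aS M 41 = a := by
  have h := allBelow_spec _ _ chk_glWords.2.1 a ha
  simp only [hk, Bool.not_true, Bool.false_or, List.any_eq_true, Nat.beq_eq] at h
  obtain ⟨p, hp, hpa⟩ := h
  have hg := (gl_spec (glWord_mem hp)).1
  exact ⟨p.1, hg, by rw [aS_eq hg (by norm_num), hpa]⟩

/-- An element carrying one element of the class in the radical into the radical normalizes it. -/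
theorem normal_of_K {y : S.X} {a b : ℕ} (ha : a < 64) (hb : b < 64) (hk : kS a = true)
    (h : y * D.P.N.θ a * y⁻¹ = D.P.N.θ b) : ∃ M, glB M = true ∧ D.P.N.Mp y M := by
  have hkb : kS b = true := by
    rw [← D.P.N.K_eq b hb, ← h, S.Kx_conj, D.P.N.K_eq a ha]; exact hk
  obtain ⟨A, hA, hA'⟩ := exists_gl41 ha hk
  obtain ⟨B, hB, hB'⟩ := exists_gl41 hb hkb
  have e1 : D.P.L A * S.ebar * (D.P.L A)⁻¹ = D.P.N.θ a := by
    rw [← D.P.N.e_eq, D.P.L_maps A hA 41 (by norm_num), hA']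
  have e2 : D.P.L B * S.ebar * (D.P.L B)⁻¹ = D.P.N.θ b := by
    rw [← D.P.N.e_eq, D.P.L_maps B hB 41 (by norm_num), hB']
  set x := (D.P.L B)⁻¹ * y * D.P.L A with hx
  have hxe : x * S.ebar = S.ebar * x := by
    apply mul_left_cancel (a := D.P.L B)
    apply mul_right_cancel (b := (D.P.L A)⁻¹ * y⁻¹)
    calc D.P.L B * (x * S.ebar) * ((D.P.L A)⁻¹ * y⁻¹) =
        y * (D.P.L A * S.ebar * (D.P.L A)⁻¹) * y⁻¹ := by rw [hx]; group
      _ = D.P.L B * S.ebar * (D.P.L B)⁻¹ := by rw [e1, h, e2]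
      _ = D.P.L B * (S.ebar * x) * ((D.P.L A)⁻¹ * y⁻¹) := by rw [hx]; group
  obtain ⟨i, hi, hi'⟩ := D.P.N.stab x hxe
  have hm : D.P.N.Mp x (s6.getD i 0) := fun c hc => by rw [hi' c hc, aS_eq (s6_gl i hi) hc]
  refine ⟨mm (mm B (s6.getD i 0)) (gInv A), (mm_gl (mm_gl hB (s6_gl i hi)).1 (gInv_spec hA).1).1, ?_⟩
  have := D.P.N.mp_mul (mm_gl hB (s6_gl i hi)).1 (gInv_spec hA).1
    (D.P.N.mp_mul hB (s6_gl i hi) (D.P.L_maps B hB) hm) (D.P.N.mp_inv hA (D.P.L_maps A hA))
  rwa [show D.P.L B * x * (D.P.L A)⁻¹ = y by rw [hx]; group] at this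

theorem cbL_mem {x : ℕ} (hx : okP x = true) (hc : cP x bN = true) : x ∈ cbL := by
  have hM : mm (x / 64) (bN / 64) = mm (bN / 64) (x / 64) := by
    rw [cP, Nat.beq_eq] at hc
    have h := congrArg (· / 64) hc
    simp only [pP] at h
    rw [(code_div (xor_lt_64 (Nat.mod_lt _ (by norm_num)) (aS_lt _))).1,
      (code_div (xor_lt_64 (Nat.mod_lt _ (by norm_num)) (aS_lt _))).1] at h
    exact h
  have h := List.all_eq_true.1 chk_cb_all (x / 64) (mem_glL hx)
  rw [hM, Nat.beq_refl, Bool.not_true, Bool.false_or] at h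
  have h' := allBelow_spec _ _ h (x % 64) (Nat.mod_lt _ (by norm_num))
  rw [show 64 * (x / 64) + x % 64 = x by omega, hc, Bool.not_true, Bool.false_or, List.any_eq_true] at h'
  obtain ⟨u, hu, hux⟩ := h'
  rwa [← Nat.eq_of_beq_eq_true hux]

theorem phi_comm {x y : ℕ} (hx : okP x = true) (hy : okP y = true) (h : cP x y = true) :
    D.φ x * D.φ y = D.φ y * D.φ x := (D.P.φ_comm hx hy).2 h

theorem mp_pow_cb {x : ℕ} (hx : x ∈ cbL) {y : S.X} {i : ℕ} (hi : i < 6)
    (hm : D.P.N.Mp (y⁻¹ * D.φ x * y) (s6.getD i 0)) : mm (s6.getD i 0) (s6.getD i 0) = 273 := by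
  have h := List.all_eq_true.1 chk_cb.1 x hx
  simp only [Bool.and_eq_true, Nat.beq_eq] at h
  obtain ⟨⟨ok, -⟩, h8⟩ := h
  refine D.P.mp_pow_eight hi hm ?_
  have o2 := Spl.okP_pP ok ok
  have o4 := Spl.okP_pP o2 o2
  have e : D.φ x * D.φ x * (D.φ x * D.φ x) * (D.φ x * D.φ x * (D.φ x * D.φ x)) = 1 := by
    unfold φ
    rw [D.P.φ_mul ok ok, D.P.φ_mul o2 o2, D.P.φ_mul o4 o4, h8, D.P.φ_one]
  calc _ = y⁻¹ * (D.φ x * D.φ x * (D.φ x * D.φ x) * (D.φ x * D.φ x * (D.φ x * D.φ x))) * y := by group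
    _ = 1 := by rw [e]; group

/-- The common part of the radical of the chosen element with the normalizer. -/
theorem exists_common [Finite G] : ∃ (y : S.X) (f : ℕ → ℕ), f 12 = 41 ∧ (∀ T < 32, f T < 64) ∧
    ∀ T < 32, y * D.P.N.θ (f T) * y⁻¹ = D.φ (tmC T) := by
  classical
  have hb := tmC_ok (show 12 < 32 by norm_num)
  rw [chk_tm.2.1] at hb
  have hKb : S.Kx (D.φ bN) := by rw [(D.invol_spec hb.1 hb.2.2.2.1).2]; exact chk_tm.2.2.1
  obtain ⟨y, hy⟩ := isConj_iff.1 hKb
  rw [← D.P.N.e_eq] at hy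
  -- no element of the class in the radical is shared
  have hshare : ∀ a < 64, ∀ s < 64, kS a = true → y * D.P.N.θ a * y⁻¹ ≠ D.P.N.θ s := by
    intro a ha s hs hk he
    obtain ⟨M, hM, hMy⟩ := D.normal_of_K ha hs hk he
    have h1 := hMy 41 (by norm_num)
    rw [hy] at h1
    have h2 : D.φ bN = D.φ (64 * 273 + aS M 41) := by
      rw [h1]; exact (D.P.φ_th (aS_lt _)).symm
    have h3 := D.P.φ_inj hb.1 (Spl.okP_code chk_glL.2.2.2.1 (aS_lt _)) h2
    have h4 := congrArg (fun c => Nat.beq (c / 64) 273) h3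
    try dsimp only at h4
    rw [(code_div (aS_lt _)).1, Nat.beq_refl] at h4
    have h5 := chk_tm.2.2.2.2.2
    rw [h4] at h5
    exact Bool.noConfusion h5
  have hlen := chk_cb.2.1
  have hel : ∀ i < 64, cbL.getD i 0 ∈ cbL := fun i hi => by
    rw [List.getD_eq_getElem _ _ (by rw [hlen]; exact hi)]; exact List.getElem_mem _
  have hspec : ∀ x ∈ cbL, okP x = true ∧ cP x bN = true := fun x hx => by
    have h := List.all_eq_true.1 chk_cb.1 x hx
    simp only [Bool.and_eq_true] at h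
    exact h.1
  have hnodup : ∀ i < 64, ∀ j < 64, cbL.getD i 0 = cbL.getD j 0 → i = j := by
    have hstep : ∀ i < 63, cbL.getD i 0 < cbL.getD (i + 1) 0 := fun i hi => by
      have := allBelow_spec _ _ chk_cb.2.2 i hi
      simpa only [Nat.blt_eq] using this
    have hmono : ∀ d i, i + d + 1 < 64 → cbL.getD i 0 < cbL.getD (i + d + 1) 0 := by
      intro d
      induction d with
      | zero => exact fun i hi => hstep i (by omega)
      | succ d ih => exact fun i hi => (ih i (by omega)).trans (hstep (i + d + 1) (by omega))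
    intro i hi j hj he
    rcases lt_trichotomy i j with h | h | h
    · have := hmono (j - i - 1) i (by omega)
      rw [show i + (j - i - 1) + 1 = j by omega] at this
      omega
    · exact h
    · have := hmono (i - j - 1) j (by omega)
      rw [show j + (i - j - 1) + 1 = i by omega] at this
      omega
  let d : ℕ → S.X := fun x => y⁻¹ * D.φ x * y
  have hdcomm : ∀ x ∈ cbL, d x * S.ebar = S.ebar * d x := fun x hx => by
    have h1 := D.phi_comm (hspec x hx).1 hb.1 (hspec x hx).2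
    rw [← hy, D.P.N.e_eq] at h1
    calc d x * S.ebar = y⁻¹ * (D.φ x * (y * S.ebar * y⁻¹)) * y := by simp only [d]; group
      _ = y⁻¹ * (y * S.ebar * y⁻¹ * D.φ x) * y := by rw [h1]
      _ = S.ebar * d x := by simp only [d]; group
  have hact : ∀ x ∈ cbL, ∃ j < 6, D.P.N.Mp (d x) (s6.getD j 0) ∧
      mm (s6.getD j 0) (s6.getD j 0) = 273 := fun x hx => by
    obtain ⟨j, hj, hj'⟩ := D.P.N.stab (d x) (hdcomm x hx)
    have hm : D.P.N.Mp (d x) (s6.getD j 0) := fun a ha => by rw [hj' a ha, aS_eq (s6_gl j hj) ha]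
    exact ⟨j, hj, hm, D.mp_pow_cb hx hj hm⟩
  -- products of two elements
  have hmulmem : ∀ x ∈ cbL, ∀ z ∈ cbL, pP x z ∈ cbL ∧ d (pP x z) = d x * d z := fun x hx z hz => by
    obtain ⟨ox, cx⟩ := hspec x hx
    obtain ⟨oz, cz⟩ := hspec z hz
    have e : D.φ (pP x z) = D.φ x * D.φ z := (D.P.φ_mul ox oz).symm
    refine ⟨cbL_mem (Spl.okP_pP ox oz) ?_, by simp only [d]; rw [e]; group⟩
    refine (D.P.φ_comm (Spl.okP_pP ox oz) hb.1).1 ?_
    show D.φ (pP x z) * D.φ bN = D.φ bN * D.φ (pP x z)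
    rw [e, mul_assoc, D.phi_comm oz hb.1 cz, ← mul_assoc, D.phi_comm ox hb.1 cx, mul_assoc]
  have hone : ∀ x ∈ cbL, ∀ z ∈ cbL, ¬ D.P.N.Mp (d x) 273 → ¬ D.P.N.Mp (d z) 273 →
      D.P.N.Mp (d x * d z) 273 := by
    intro x hx z hz hni hnk
    obtain ⟨u, hu, hmu, hu2⟩ := hact x hx
    obtain ⟨v, hv, hmv, hv2⟩ := hact z hz
    have hun : Nat.beq (s6.getD u 0) 273 = false :=
      Bool.eq_false_iff.2 fun h => hni (by rw [← Nat.eq_of_beq_eq_true h]; exact hmu)
    have hvn : Nat.beq (s6.getD v 0) 273 = false :=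
      Bool.eq_false_iff.2 fun h => hnk (by rw [← Nat.eq_of_beq_eq_true h]; exact hmv)
    have hprod := D.P.N.mp_mul (s6_gl u hu) (s6_gl v hv) hmu hmv
    by_cases he : s6.getD u 0 = s6.getD v 0
    · rwa [← he, hu2] at hprod
    · exfalso
      obtain ⟨hm, hd⟩ := hmulmem x hx z hz
      obtain ⟨w, hw, hmw, hw2⟩ := hact _ hm
      rw [hd] at hmw
      rw [D.P.N.mp_unique (s6_gl w hw) (mm_gl (s6_gl u hu) (s6_gl v hv)).1 hmw hprod] at hw2
      have hch := allBelow_spec _ _ (allBelow_spec _ _ chk_s6_mul.1 u hu) v hv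
      rw [hun, hvn, hu2, hv2, hw2, show Nat.beq (s6.getD u 0) (s6.getD v 0) = false from
        Bool.eq_false_iff.2 fun h => he (Nat.eq_of_beq_eq_true h)] at hch
      simp at hch
  -- the shared part has at least 32 elements
  let A : Finset (Fin 64) := Finset.univ.filter fun a => ∃ x ∈ cbL, D.φ x = y * D.P.N.θ a * y⁻¹
  have hA : ∀ x ∈ cbL, D.P.N.Mp (d x) 273 → ∃ a ∈ A, D.φ x = y * D.P.N.θ (a : Fin 64) * y⁻¹ := fun x hx h => by
    obtain ⟨a, ha, hax⟩ := D.P.N.mem_of_trivial h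
    have e : D.φ x = y * D.P.N.θ a * y⁻¹ := by rw [hax]; simp only [d]; group
    exact ⟨⟨a, ha⟩, Finset.mem_filter.2 ⟨Finset.mem_univ _, x, hx, e⟩, e⟩
  have hA32 : 32 ≤ A.card := by
    let r0 : ℕ := if h : ∃ x ∈ cbL, ¬ D.P.N.Mp (d x) 273 then h.choose else 0
    have key : ∀ i : Fin 64, ∃ ba : Bool × A,
        (ba.1 = true → D.φ (cbL.getD i 0) = y * D.P.N.θ (ba.2 : Fin 64) * y⁻¹) ∧
        (ba.1 = false → D.φ (cbL.getD i 0) * D.φ r0 = y * D.P.N.θ (ba.2 : Fin 64) * y⁻¹) := by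
      intro i
      by_cases h : D.P.N.Mp (d (cbL.getD i 0)) 273
      · obtain ⟨a, ha, hax⟩ := hA _ (hel i i.2) h
        exact ⟨(true, ⟨a, ha⟩), fun _ => hax, fun hf => Bool.noConfusion hf⟩
      · have hex : ∃ x ∈ cbL, ¬ D.P.N.Mp (d x) 273 := ⟨_, hel i i.2, h⟩
        obtain ⟨hr, hr'⟩ := hex.choose_spec
        have ht := hone _ (hel i i.2) _ hr h hr'
        obtain ⟨hm, hd⟩ := hmulmem _ (hel i i.2) _ hr
        rw [← hd] at ht
        obtain ⟨a, ha, hax⟩ := hA _ hm ht
        refine ⟨(false, ⟨a, ha⟩), fun hf => Bool.noConfusion hf, fun _ => ?_⟩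
        simp only [r0, dif_pos hex]
        rw [← hax]
        exact D.P.φ_mul (hspec _ (hel i i.2)).1 (hspec _ hr).1
    choose F hF1 hF2 using key
    have hFinj : Function.Injective F := by
      intro i j hij
      have hd : D.φ (cbL.getD i 0) = D.φ (cbL.getD j 0) := by
        cases hb' : (F i).1
        · refine mul_right_cancel (b := D.φ r0) ?_
          rw [hF2 i hb', hF2 j (hij ▸ hb'), hij]
        · rw [hF1 i hb', hF1 j (hij ▸ hb'), hij]
      exact Fin.ext (hnodup i i.2 j j.2 (D.P.φ_inj (hspec _ (hel i i.2)).1 (hspec _ (hel j j.2)).1 hd))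
    have := Fintype.card_le_of_injective F hFinj
    simp at this
    omega
  -- its codes
  have hcode : ∀ a : A, ∃ x ∈ cbL, D.φ x = y * D.P.N.θ (a : Fin 64) * y⁻¹ := fun a => (Finset.mem_filter.1 a.2).2
  choose c hc hcφ using hcode
  have hcinj : Function.Injective c := fun a b h => by
    have h1 := hcφ a
    rw [h, hcφ b, mul_left_inj, mul_right_inj] at h1
    exact Subtype.ext (Fin.ext (D.P.N.th_eq (b : Fin 64).2 (a : Fin 64).2 h1).symm)
  have hallowed : ∀ a, (Nat.beq (pP (c a) (c a)) oneP && !(Nat.beq (c a / 64) 273 && kS (c a % 64))) = true := by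
    intro a
    have hok := (hspec _ (hc a)).1
    simp only [Bool.and_eq_true, Nat.beq_eq, Bool.not_eq_true', Bool.and_eq_false_iff]
    refine ⟨D.P.φ_inj (Spl.okP_pP hok hok) (by decide +kernel) ?_, ?_⟩
    · rw [← D.P.φ_mul hok hok, D.P.φ_one]
      show D.φ (c a) * D.φ (c a) = 1
      rw [hcφ a, show y * D.P.N.θ (a : Fin 64) * y⁻¹ * (y * D.P.N.θ (a : Fin 64) * y⁻¹) =
        y * (D.P.N.θ (a : Fin 64) * D.P.N.θ (a : Fin 64)) * y⁻¹ by group, D.P.N.th_sq (a : Fin 64).2, mul_one,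
        mul_inv_cancel]
    · suffices hne : ¬ (Nat.beq (c a / 64) 273 = true ∧ kS (c a % 64) = true) by
        cases h1 : Nat.beq (c a / 64) 273
        · exact Or.inl rfl
        · cases h2 : kS (c a % 64)
          · exact Or.inr rfl
          · exact absurd ⟨h1, h2⟩ hne
      rintro ⟨h1, h2⟩
      have hs : c a % 64 < 64 := Nat.mod_lt _ (by norm_num)
      have e : D.φ (c a) = D.P.N.θ (c a % 64) := by
        rw [← D.P.φ_th hs]
        exact congrArg D.P.φ (by have := Nat.eq_of_beq_eq_true h1; omega)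
      have hka : kS (a : Fin 64) = true := by
        rw [← D.P.N.K_eq _ (a : Fin 64).2, ← S.Kx_conj y, ← hcφ a, e, D.P.N.K_eq _ hs]; exact h2
      exact hshare _ (a : Fin 64).2 _ hs hka (by rw [← hcφ a, e])
  have htm : ∀ a, c a ∈ tmL := by
    intro a
    have h := List.all_eq_true.1 chk_allowed _ (hc a)
    rw [hallowed a] at h
    simp only [Bool.not_true, Bool.false_or, Bool.or_eq_true, List.any_eq_true, Nat.beq_eq, Nat.blt_eq] at h
    rcases h with ⟨t, ht, rfl⟩ | h
    · exact ht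
    · exfalso
      rw [List.countP_eq_length_filter] at h
      have hsub : (Finset.univ.image c) ⊆ (cbL.filter fun v =>
          Nat.beq (pP v v) oneP && !(Nat.beq (v / 64) 273 && kS (v % 64)) && cP (c a) v).toFinset := by
        intro v hv
        simp only [Finset.mem_image] at hv
        obtain ⟨b, -, rfl⟩ := hv
        rw [List.mem_toFinset, List.mem_filter, hallowed b, Bool.true_and]
        refine ⟨hc b, (D.P.φ_comm (hspec _ (hc a)).1 (hspec _ (hc b)).1).1 ?_⟩
        show D.φ (c a) * D.φ (c b) = D.φ (c b) * D.φ (c a)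
        rw [hcφ a, hcφ b, show ∀ p q : S.X, y * p * y⁻¹ * (y * q * y⁻¹) = y * (p * q) * y⁻¹ from
          fun p q => by group, show ∀ p q : S.X, y * p * y⁻¹ * (y * q * y⁻¹) = y * (p * q) * y⁻¹ from
          fun p q => by group, D.P.N.th_comm (a : Fin 64).2 (b : Fin 64).2]
      have h1 := (Finset.card_le_card hsub).trans (List.toFinset_card_le _)
      rw [Finset.card_image_of_injective _ hcinj, Finset.card_univ, Fintype.card_coe] at h1
      omega
  have himg : Finset.univ.image c = tmL.toFinset := by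
    refine Finset.eq_of_subset_of_card_le (fun v hv => ?_) ?_
    · simp only [Finset.mem_image] at hv
      obtain ⟨b, -, rfl⟩ := hv
      exact List.mem_toFinset.2 (htm b)
    · rw [Finset.card_image_of_injective _ hcinj, Finset.card_univ, Fintype.card_coe]
      exact (List.toFinset_card_le _).trans (le_of_eq_of_le (by decide +kernel : tmL.length = 32) hA32)
  have hex : ∀ T, T < 32 → ∃ a < 64, y * D.P.N.θ a * y⁻¹ = D.φ (tmC T) := by
    intro T hT
    have hm : tmC T ∈ tmL.toFinset := by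
      rw [List.mem_toFinset, tmC, List.getD_eq_getElem _ _ (by
        rw [(by decide +kernel : tmL.length = 32)]; exact hT)]
      exact List.getElem_mem _
    rw [← himg, Finset.mem_image] at hm
    obtain ⟨b, -, hb'⟩ := hm
    exact ⟨(b : Fin 64), (b : Fin 64).2, by rw [← hcφ b, hb']⟩
  choose g hg hgy using hex
  refine ⟨y, fun T => if h : T < 32 then g T h else 0, ?_, fun T hT => ?_, fun T hT => ?_⟩
  · simp only [show 12 < 32 by norm_num, dif_pos]
    refine D.P.N.th_eq (hg _ _) (by norm_num) ?_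
    have h1 := hgy 12 (by norm_num)
    rw [chk_tm.2.1, ← hy, mul_left_inj, mul_right_inj] at h1
    exact h1
  · simp only [hT, dif_pos]; exact hg T hT
  · simp only [hT, dif_pos]; exact hgy T hT

theorem exists_nbr [Finite G] : Nonempty (Nbr D) := by
  obtain ⟨y, f, h12, hlt, hf⟩ := D.exists_common
  have hadd : ∀ a < 32, ∀ b < 32, f (a ^^^ b) = f a ^^^ f b := fun a ha b hb => by
    refine D.P.N.th_eq (hlt _ (xor_lt_32 ha hb)) (xor_lt_64 (hlt a ha) (hlt b hb)) ?_
    have e : y * D.P.N.θ (f (a ^^^ b)) * y⁻¹ = y * (D.P.N.θ (f a) * D.P.N.θ (f b)) * y⁻¹ := by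
      rw [hf _ (xor_lt_32 ha hb), show y * (D.P.N.θ (f a) * D.P.N.θ (f b)) * y⁻¹ =
        y * D.P.N.θ (f a) * y⁻¹ * (y * D.P.N.θ (f b) * y⁻¹) by group, hf a ha, hf b hb,
        ← (tmC_ok ha).2.2.2.2.2 b hb]
      exact (D.P.φ_mul (tmC_ok ha).1 (tmC_ok hb).1).symm
    rw [← D.P.N.hom _ (hlt a ha) _ (hlt b hb)]
    exact mul_left_cancel (mul_right_cancel e)
  have hspec : ∀ T < 32, qS T = qS (f T) ∧ kS T = kS (f T) := fun T hT => by
    have h := D.invol_spec (tmC_ok hT).1 (tmC_ok hT).2.2.2.1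
    rw [← hf T hT, S.qx_conj, S.Kx_conj, D.P.N.q_eq _ (hlt T hT), D.P.N.K_eq _ (hlt T hT),
      (tmC_ok hT).2.1, (tmC_ok hT).2.2.1] at h
    exact ⟨h.1.symm, Bool.eq_iff_iff.2 h.2.symm⟩
  have hinj : ∀ a < 32, ∀ b < 32, f a = f b → a = b := fun a ha b hb h => by
    have h1 : D.φ (tmC a) = D.φ (tmC b) := by rw [← hf a ha, ← hf b hb, h]
    have h2 : tmC (a ^^^ b) = oneP := by
      rw [← (tmC_ok ha).2.2.2.2.2 b hb, ← D.P.φ_inj (tmC_ok ha).1 (tmC_ok hb).1 h1]
      exact (tmC_ok ha).2.2.2.1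
    exact Nat.xor_eq_zero_iff.1 ((tmC_ok (xor_lt_32 ha hb)).2.2.2.2.1 h2)
  have heq : ∀ g ∈ bGens, ∃ M, glB M = true ∧ ∀ T < 32, aS M (f T) = f (cjT g T) := by
    intro g hg
    have h := List.all_eq_true.1 chk_bGens g hg
    simp only [Bool.and_eq_true] at h
    have hok := okP_inB h.1
    have hc : ∀ T < 32, cjT g T < 32 ∧ tmC (cjT g T) = pP (pP g (tmC T)) (iP g) := fun T hT => by
      have h2 := allBelow_spec _ _ h.2 T hT
      simpa only [Bool.and_eq_true, Nat.blt_eq, Nat.beq_eq] using h2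
    have hz : ∀ T < 32, y⁻¹ * D.φ g * y * D.P.N.θ (f T) * (y⁻¹ * D.φ g * y)⁻¹ = D.P.N.θ (f (cjT g T)) := by
      intro T hT
      apply mul_left_cancel (a := y)
      apply mul_right_cancel (b := y⁻¹)
      calc y * (y⁻¹ * D.φ g * y * D.P.N.θ (f T) * (y⁻¹ * D.φ g * y)⁻¹) * y⁻¹ =
          D.φ g * (y * D.P.N.θ (f T) * y⁻¹) * (D.φ g)⁻¹ := by group
        _ = D.φ (tmC (cjT g T)) := by
          rw [hf T hT, (hc T hT).2]
          unfold φ
          rw [← D.P.φ_mul (Spl.okP_pP hok (tmC_ok hT).1) (Spl.okP_iP hok), ← D.P.φ_mul hok (tmC_ok hT).1,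
            ← D.P.φ_inv hok]
        _ = _ := (hf _ (hc T hT).1).symm
    have hk12 : kS (f 12) = true := by rw [← (hspec 12 (by norm_num)).2]; exact chk_tm.2.2.2.1
    obtain ⟨M, hM, hMz⟩ := D.normal_of_K (hlt 12 (by norm_num)) (hlt _ (hc 12 (by norm_num)).1) hk12
      (hz 12 (by norm_num))
    exact ⟨M, hM, fun T hT => D.P.N.th_eq (aS_lt _) (hlt _ (hc T hT).1)
      (by rw [← hMz _ (hlt T hT), hz T hT])⟩
  obtain ⟨M0, hM0, hf0⟩ := enumT_sound f hlt hadd h12 hinj (fun T hT => (hspec T hT).1)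
    (fun T hT => (hspec T hT).2) heq 5 0 rfl (by
      rw [show (List.range (2 ^ 0)).map (fun j => f (dcom j)) = [0] from ?_]
      · exact chk_enumT
      · show [f (dcom 0)] = [0]
        have h00 := hadd 0 (by norm_num) 0 (by norm_num)
        rw [Nat.xor_self, Nat.xor_self] at h00
        rw [dcom_facts.2.1, h00])
  set v := y * D.P.L M0 with hv
  have hT : ∀ T < 32, v * D.P.N.θ T * v⁻¹ = D.φ (tmC T) := fun T hT => by
    rw [← hf T hT, hf0 T hT, ← D.P.L_maps M0 hM0 T (by omega), hv]; group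
  set τ := v * D.P.N.θ 32 * v⁻¹ with hτ
  have hτ2 : τ * τ = 1 := by
    rw [hτ, show ∀ p : S.X, v * p * v⁻¹ * (v * p * v⁻¹) = v * (p * p) * v⁻¹ from fun p => by group,
      D.P.N.th_sq (by norm_num), mul_one, mul_inv_cancel]
  have hτq : S.qx τ = true := by
    rw [hτ, S.qx_conj, D.P.N.q_eq _ (by norm_num)]; decide +kernel
  refine ⟨⟨τ, hτ2, hτq, fun c hc => ?_⟩⟩
  have hok := okP_inB hc
  have hcs : 64 * (c / 64) + c % 64 = c := by omega
  have h := allBelow_spec _ _ (List.all_eq_true.1 chk_sigM (c / 64) (mem_glL hok)) (c % 64)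
    (Nat.mod_lt _ (by norm_num))
  rw [hcs, hc] at h
  simp only [Bool.not_true, Bool.false_or, Bool.and_eq_true, Nat.blt_eq, Nat.beq_eq] at h
  obtain ⟨⟨⟨hM', hbasis⟩, hd⟩, hres⟩ := h
  set M' := sigM c
  set n := D.φ c with hn
  have hconj : ∀ T < 32, aS M' T < 32 → tmC (aS M' T) = pP (pP c (tmC T)) (iP c) →
      v⁻¹ * n * v * D.P.N.θ T * (v⁻¹ * n * v)⁻¹ = D.P.N.θ (aS M' T) := by
    intro T hT' hlt' he
    apply mul_left_cancel (a := v)
    apply mul_right_cancel (b := v⁻¹)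
    calc v * (v⁻¹ * n * v * D.P.N.θ T * (v⁻¹ * n * v)⁻¹) * v⁻¹ = n * (v * D.P.N.θ T * v⁻¹) * n⁻¹ := by group
      _ = D.φ (tmC (aS M' T)) := by
        rw [hT T hT', he, hn]
        unfold φ
        rw [← D.P.φ_mul (Spl.okP_pP hok (tmC_ok hT').1) (Spl.okP_iP hok), ← D.P.φ_mul hok (tmC_ok hT').1,
          ← D.P.φ_inv hok]
      _ = _ := (hT _ hlt').symm
  have hk : ∀ k < 5, 2 ^ k < 32 ∧ aS M' (2 ^ k) < 32 ∧
      v⁻¹ * n * v * D.P.N.θ (2 ^ k) * (v⁻¹ * n * v)⁻¹ = D.P.N.θ (aS M' (2 ^ k)) := fun k hk => by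
    have hp : 2 ^ k < 32 := lt_of_lt_of_le (Nat.pow_lt_pow_right (by norm_num) hk) le_rfl
    have h2 := allBelow_spec _ _ hbasis k hk
    simp only [Bool.and_eq_true, Nat.blt_eq, Nat.beq_eq] at h2
    exact ⟨hp, h2.1, hconj _ hp h2.1 h2.2.symm⟩
  have h12' : v⁻¹ * n * v * D.P.N.θ 12 * (v⁻¹ * n * v)⁻¹ = D.P.N.θ (aS M' 12) := by
    rw [show (12 : ℕ) = 2 ^ 2 ^^^ 2 ^ 3 from rfl, aS_xor,
      ← D.P.N.hom _ (by norm_num) _ (by norm_num), ← D.P.N.hom _ (aS_lt _) _ (aS_lt _),
      ← (hk 2 (by norm_num)).2.2, ← (hk 3 (by norm_num)).2.2]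
    group
  obtain ⟨M, hM, hMz⟩ := D.normal_of_K (by norm_num) (aS_lt _) chk_tm.2.2.2.1 h12'
  have hMM : M = M' := by
    have h1 := List.all_eq_true.1 (List.all_eq_true.1 chk_faith M (mem_glL hM)) M' (mem_glL hM')
    simp only [Bool.or_eq_true, Nat.beq_eq, Bool.not_eq_true'] at h1
    refine h1.resolve_right ?_
    rw [Bool.not_eq_false, Nat.beq_eq]
    have e : ∀ k < 5, get 6 (get 36 imgTab M) k = get 6 (get 36 imgTab M') k := fun k hk' => by
      have h2 := hMz (2 ^ k) (by have := (hk k hk').1; omega)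
      rw [(hk k hk').2.2] at h2
      have h3 := D.P.N.th_eq (aS_lt _) (aS_lt _) h2.symm
      rwa [aS, aS, apS_pow _ (by omega), apS_pow _ (by omega)] at h3
    have e0 := e 0 (by norm_num); have e1 := e 1 (by norm_num); have e2 := e 2 (by norm_num)
    have e3 := e 3 (by norm_num); have e4 := e 4 (by norm_num)
    simp only [PermCert.get, Nat.shiftRight_eq_div_pow] at e0 e1 e2 e3 e4 ⊢
    norm_num at e0 e1 e2 e3 e4 ⊢
    omega
  have h32 := hMz 32 (by norm_num)
  rw [hMM] at h32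
  set e := aS M' 32 ^^^ 32 with he
  have hntn : n * τ * n⁻¹ = D.φ (tmC e) * τ := by
    calc n * τ * n⁻¹ = v * (v⁻¹ * n * v * D.P.N.θ 32 * (v⁻¹ * n * v)⁻¹) * v⁻¹ := by rw [hτ]; group
      _ = v * (D.P.N.θ e * D.P.N.θ 32) * v⁻¹ := by
        rw [h32, D.P.N.hom e (by omega) 32 (by norm_num), he, Nat.xor_assoc, Nat.xor_self, Nat.xor_zero]
      _ = _ := by rw [← hT e hd, hτ]; group
  have hcomm : τ * D.φ (tmC e) = D.φ (tmC e) * τ := by
    rw [← hT e hd, hτ, show ∀ p q : S.X, v * p * v⁻¹ * (v * q * v⁻¹) = v * (p * q) * v⁻¹ from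
      fun p q => by group, show ∀ p q : S.X, v * p * v⁻¹ * (v * q * v⁻¹) = v * (p * q) * v⁻¹ from
      fun p q => by group, D.P.N.th_comm (show e < 64 by omega) (by norm_num)]
  calc τ * n * τ = τ * (n * τ * n⁻¹) * n := by group
    _ = τ * (D.φ (tmC e) * τ) * n := by rw [hntn]
    _ = D.φ (tmC e) * (τ * τ) * n := by rw [← mul_assoc, hcomm]; group
    _ = D.φ (tmC e) * D.φ c := by rw [hτ2, mul_one]
    _ = D.φ (actX c) := by rw [← hres]; exact D.P.φ_mul (tmC_ok hd).1 hok

end Crd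

end Cfsg.Agent.Co3Inv
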