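import Cfsg.Agent.Lib.Co3Inv.Residue
import Cfsg.Agent.Lib.Co3Inv.NbrExists

/-!
Recognition of the third Conway group: `Sp₆(2)` inside the quotient of the centralizer of `z`.
-/

set_option autoImplicit false

namespace Cfsg.Agent.Co3Inv

/-- `Sp₆(2)` embeds in `C(z)/⟨z⟩` with the centralizer of the image of `e` in its image. -/
theorem Setup.exists_sp62_of_nbr {G : Type*} [Group G] [Finite G] (S : Setup G)
    (hnbr : ∀ D : Crd S, Nonempty (Nbr D)) :
    ∃ η : Sp62 →* S.X, Function.Injective η ∧ η e₀ = S.ebar ∧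
      ∀ g, g * S.ebar = S.ebar * g → g ∈ η.range := by
  obtain ⟨D⟩ := S.exists_crd
  obtain ⟨N⟩ := hnbr D
  exact N.exists_sp62

/-- `Sp₆(2)` embeds in `C(z)/⟨z⟩` with the centralizer of the image of `e` in its image. -/
theorem Setup.exists_sp62 {G : Type*} [Group G] [Finite G] (S : Setup G) :
    ∃ η : Sp62 →* S.X, Function.Injective η ∧ η e₀ = S.ebar ∧
      ∀ g, g * S.ebar = S.ebar * g → g ∈ η.range :=
  S.exists_sp62_of_nbr fun D => D.exists_nbr

end Cfsg.Agent.Co3Inv
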