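import Cfsg.Agent.Lib.Co3Inv.Swap
import Cfsg.Agent.Lib.Co3Inv.Exists
import Cfsg.Agent.Lib.CoThreeClosed.Main

/-!
Recognition of the third Conway group: the centralizer of `z` is the non-split double cover of `Sp₆(2)`, given a
copy of `Sp₆(2)` in its quotient containing the centralizer of the image of `e`.
-/

set_option autoImplicit false

namespace Cfsg.Agent.Co3Inv

open Cfsg.Agent.PermCert

set_option linter.unusedSectionVars false

namespace Setup

variable {G : Type*} [Group G] [Finite G] (S : Setup G)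

theorem card_Zz : Nat.card S.Zz = 2 := by
  rw [Nat.card_congr (Subgroup.subgroupOfEquivOfLe (Subgroup.zpowers_le.2 (S.mem_Cz.2 rfl))).toEquiv,
    Nat.card_zpowers]
  exact orderOf_eq_prime (by rw [pow_two]; exact S.z_sq) S.z_ne

theorem Zz_le_center : S.Zz ≤ Subgroup.center S.Cz := fun n hn => Subgroup.mem_center_iff.2 fun g => by
  obtain ⟨k, hk⟩ := hn
  refine Subtype.ext ?_
  show (g : G) * n = n * g
  rw [show (n : G) = S.z ^ k from hk.symm]
  exact (Commute.zpow_right (show Commute (g : G) S.z from S.z_comm g) k).eq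

theorem orderOf_ebar : orderOf S.ebar = 2 := by
  refine orderOf_eq_prime (by rw [pow_two]; exact (S.Kx_sq S.Kx_ebar).1) fun h => ?_
  rw [← S.hb_e, ← S.hb_zero, S.hb_eq_iff (by norm_num) (by norm_num)] at h
  exact absurd h (by decide +kernel)

/-- The centralizer of the image of `e` has order 384. -/
theorem card_cent_ebar : Nat.card (Subgroup.centralizer ({S.ebar} : Set S.X)) = 384 := by
  obtain ⟨a, -, ha, -⟩ := S.exists_swap
  set C := Subgroup.centralizer ({S.ebar} : Set S.X)
  set P := C.comap (QuotientGroup.mk' S.Zz) with hPdef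
  have hP : ∀ x : S.Cz, x ∈ P ↔ (∃ n < 384, S.h n = x) ∨ (x : G) * S.e = S.e * x * S.z := fun x => by
    rw [hPdef, Subgroup.mem_comap]
    exact Iff.trans Subgroup.mem_centralizer_singleton_iff (S.comm_ebar_iff x)
  let f : Bool × Fin 384 → P := fun p =>
    ⟨bif p.1 then a * ⟨S.h p.2, S.mem_Cz.2 (S.h_comm p.2).2⟩ else ⟨S.h p.2, S.mem_Cz.2 (S.h_comm p.2).2⟩, by
      rcases p with ⟨_ | _, n, hn⟩
      · exact (hP _).2 (Or.inl ⟨n, hn, rfl⟩)
      · refine (hP _).2 (Or.inr ?_)
        show (a : G) * S.h n * S.e = S.e * (a * S.h n) * S.z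
        rw [mul_assoc (a : G), (S.h_comm n).1, ← mul_assoc, ha, mul_assoc _ S.z, ← (S.h_comm n).2]
        group⟩
  have hmix : ∀ n m : ℕ, (a : G) * S.h n ≠ S.h m := fun n m e => S.z_ne (by
    have h1 : (a : G) * S.e = S.e * a := by
      have h3 : (a : G) = S.h m * (S.h n)⁻¹ := by rw [← e, mul_inv_cancel_right]
      rw [h3]
      exact (Commute.mul_left (show Commute (S.h m) S.e from (S.h_comm m).1)
        (show Commute (S.h n) S.e from (S.h_comm n).1).inv_left).eq
    rw [ha] at h1
    exact mul_left_cancel (a := S.e * a) (by rw [h1, mul_one]))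
  have hf : Function.Bijective f := by
    refine ⟨fun p q hpq => ?_, fun x => ?_⟩
    · have e : ((f p : S.Cz) : G) = ((f q : S.Cz) : G) := by rw [hpq]
      rcases p with ⟨_ | _, n, hn⟩ <;> rcases q with ⟨_ | _, m, hm⟩
      · obtain rfl := S.h_inj hn hm (by simpa [f] using e); rfl
      · exact absurd (by simpa [f] using e.symm) (hmix m n)
      · exact absurd (by simpa [f] using e) (hmix n m)
      · obtain rfl := S.h_inj hn hm (mul_left_cancel (a := (a : G)) (by simpa [f] using e)); rfl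
    · rcases (hP x.1).1 x.2 with ⟨n, hn, e⟩ | h
      · exact ⟨(false, ⟨n, hn⟩), Subtype.ext (Subtype.ext e)⟩
      · have h1 : ((a : G)⁻¹ * (x.1 : G)) * S.e = S.e * ((a : G)⁻¹ * (x.1 : G)) := by
          refine mul_left_cancel (a := (a : G)) ?_
          rw [← mul_assoc, mul_inv_cancel_left, h, ← mul_assoc (a : G) S.e, ha]
          rw [mul_assoc (S.e * a) S.z, ← mul_assoc S.z, ← show (a : G)⁻¹ * S.z = S.z * (a : G)⁻¹ from
            (Commute.inv_left (show Commute (a : G) S.z from S.z_comm a)).eq, mul_assoc (a : G)⁻¹,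
            ← mul_assoc, mul_inv_cancel_right, mul_assoc, ← S.z_comm x.1]
        have h2 : ((a : G)⁻¹ * (x.1 : G)) * S.z = S.z * ((a : G)⁻¹ * (x.1 : G)) :=
          S.z_comm (a⁻¹ * x.1)
        obtain ⟨n, hn, e⟩ := S.exists_h h1 h2
        exact ⟨(true, ⟨n, hn⟩), Subtype.ext (Subtype.ext (show (a : G) * S.h n = _ by rw [e, mul_inv_cancel_left]))⟩
  have hcard : Nat.card P = 768 := by
    rw [← Nat.card_congr (Equiv.ofBijective f hf), Nat.card_prod, Nat.card_eq_fintype_card (α := Bool),
      Nat.card_eq_fintype_card (α := Fin 384), Fintype.card_bool, Fintype.card_fin]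
  have h1 := C.card_mul_index
  have h2 := P.card_mul_index
  rw [hPdef, Subgroup.index_comap_of_surjective _ (QuotientGroup.mk'_surjective S.Zz), ← hPdef, hcard,
    Subgroup.card_eq_card_quotient_mul_card_subgroup S.Zz, S.card_Zz, ← h1] at h2
  have h3 : 768 = Nat.card C * 2 := by
    refine mul_right_cancel₀ (Subgroup.index_ne_zero_of_finite (H := C)) ?_
    rw [h2]; ring
  omega

/-- **The centralizer of `z`.** -/
theorem cent_z_of_sp62 (h : ∃ η : Sp62 →* S.X, Function.Injective η ∧ η e₀ = S.ebar ∧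
      ∀ g, g * S.ebar = S.ebar * g → g ∈ η.range) :
    Cfsg.IsNonsplitDoubleCover S.Cz (Matrix.symplecticGroup (Fin 3) (ZMod 2)) := by
  obtain ⟨η, hinj, -, hc⟩ := h
  obtain ⟨n, hn, hsq⟩ : ∃ n < 384, hQ n = true := by decide +kernel
  let x : S.Cz := ⟨S.h n, S.mem_Cz.2 (S.h_comm n).2⟩
  have hx : (x * x : S.Cz).1 = S.z := by
    show S.h n * S.h n = S.z
    rw [S.h_mul, show hT n n = 1 from Nat.eq_of_beq_eq_true hsq, S.h_one]
  refine CoThreeClosed.nonsplit_of_sub S.Zz S.card_Zz S.Zz_le_center (x := x) ?_ ?_ η.range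
    (MonoidHom.ofInjective hinj).symm S.orderOf_ebar
    (fun g hg => hc g (Subgroup.mem_centralizer_singleton_iff.1 hg)) S.card_cent_ebar
  · rw [Subgroup.mem_subgroupOf, hx]
    exact Subgroup.mem_zpowers _
  · exact fun e => S.z_ne (hx.symm.trans (congrArg Subtype.val e))

/-- The centralizer of `z` is the non-split double cover of `Sp₆(2)`. -/
theorem cent_z : Cfsg.IsNonsplitDoubleCover S.Cz (Matrix.symplecticGroup (Fin 3) (ZMod 2)) :=
  S.cent_z_of_sp62 S.exists_sp62

end Setup

end Cfsg.Agent.Co3Inv
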