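import Mathlib.Data.Nat.Bitwise

/-!
Recognition of the third Conway group, fusion of `e`: the quadratic models on 64 points of the group of
translations at a plane, and what is asserted about their automorphisms. A point has bit 0 for `e`, bits
1 to 3 for the coset of the plane in its centralizer, bits 4, 5 for the two translations.
-/

set_option autoImplicit false

namespace Cfsg.Agent.Co3Inv.FusedModel

/-- A linear function on three bits with values in two bits, by a code below 64. -/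
def lapp (L l : ℕ) : ℕ :=
  (bif l.testBit 0 then L % 4 else 0) ^^^ (bif l.testBit 1 then L / 4 % 4 else 0) ^^^
    (bif l.testBit 2 then L / 16 % 4 else 0)

/-- The swap of the two bits. -/
def swv (v : ℕ) : ℕ := v % 2 * 2 + v / 2 % 2

/-- The swap of bits 1 and 2 of three. -/
def swl (l : ℕ) : ℕ := l % 2 + 2 * swv (l / 2 % 4)

/-- The square of a coset of the plane in its centralizer. -/
def qu (l : ℕ) : ℕ := bif l.testBit 0 then 0 else l / 2 % 4

/-- The square of a point: `L` the shift of the first translation, `q` its square, `d` that of the product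
of the two. -/
def sqm (L q d k : ℕ) : ℕ :=
  let l := k / 2 % 8
  let e := k % 2
  qu l ^^^
    (bif k.testBit 4 then
      (bif k.testBit 5 then d ^^^ 3 * e ^^^ lapp L l ^^^ swv (lapp L (swl l))
      else q ^^^ e ^^^ lapp L l)
    else
      (bif k.testBit 5 then swv q ^^^ 2 * e ^^^ swv (lapp L (swl l)) else 0))

/-- The shift in the case of the outer automorphism. -/
def outerL : ℕ := 16

/-- The fixed coset of the map with number `c`. -/
def wc (c : ℕ) : ℕ := 2 ||| (c <<< 2)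

/-- An automorphism of a model moving `e` by the coset `wc c`. -/
structure TMap (L q d c : ℕ) (f : ℕ → ℕ) : Prop where
  lt : ∀ k < 64, f k < 64
  xor : ∀ k < 64, ∀ l < 64, f (k ^^^ l) = f k ^^^ f l
  inj : ∀ k < 64, ∀ l < 64, f k = f l → k = l
  sq : ∀ k < 64, sqm L q d (f k) = sqm L q d k
  e : f 1 = 1 ^^^ wc c
  fix : f (wc c) = wc c

/-- The points reached from `e`. -/
inductive Reach (f₁ f₂ f₃ : ℕ → ℕ) : ℕ → Prop
  | e : Reach f₁ f₂ f₃ 1
  | one {k : ℕ} : Reach f₁ f₂ f₃ k → Reach f₁ f₂ f₃ (f₁ k)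
  | two {k : ℕ} : Reach f₁ f₂ f₃ k → Reach f₁ f₂ f₃ (f₂ k)
  | three {k : ℕ} : Reach f₁ f₂ f₃ k → Reach f₁ f₂ f₃ (f₃ k)

/-- The word with exponents the bits of `m`, the first map applied first. -/
def word (f₁ f₂ f₃ : ℕ → ℕ) (m k : ℕ) : ℕ :=
  let k₁ := bif m.testBit 0 then f₁ k else k
  let k₂ := bif m.testBit 1 then f₂ k₁ else k₁
  bif m.testBit 2 then f₃ k₂ else k₂

/-- What holds in the model of the inner case. -/
structure Facts (f₁ f₂ f₃ : ℕ → ℕ) : Prop where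
  fix₁ : f₁ 16 = 16 ∧ f₁ 32 = 32
  fix₂ : f₂ 16 = 16 ∧ f₂ 32 = 32
  fix₃ : f₃ 16 = 16 ∧ f₃ 32 = 32
  comm : ∀ k < 64, f₁ (f₂ k) = f₂ (f₁ k) ∧ f₁ (f₃ k) = f₃ (f₁ k) ∧ f₂ (f₃ k) = f₃ (f₂ k)
  pair : ∀ k < 64, (f₁ k = k ∧ f₂ k = k ∨ f₁ k = k ∧ f₃ k = k ∨ f₂ k = k ∧ f₃ k = k) → k % 16 = 0
  orbit : ∀ k < 64, k % 2 = 1 → sqm 0 0 0 k = 0 → Reach f₁ f₂ f₃ k
  move : ∀ m < 8, m ≠ 0 → ∀ k < 64, k % 2 = 1 → (word f₁ f₂ f₃ m k ^^^ k) % 16 ≠ 0

/-- The assertion about all models. -/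
def Cert : Prop :=
  ∀ L q d : ℕ, (L = 0 ∨ L = outerL) → q < 4 → d < 4 → ∀ f₁ f₂ f₃ : ℕ → ℕ,
    TMap L q d 1 f₁ → TMap L q d 2 f₂ → TMap L q d 3 f₃ →
    Reach f₁ f₂ f₃ 2 ∨ (L = 0 ∧ q < 2 ∧ (q = 0 → d = 0 ∧ Facts f₁ f₂ f₃))

end Cfsg.Agent.Co3Inv.FusedModel
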