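import Mathlib.Data.List.Range
import Mathlib.Algebra.Order.Ring.Nat
import Mathlib.Tactic.Common
import Mathlib.Data.List.Basic
import Cfsg.Agent.Lib.Co3Inv.FusedModel

/-!
Recognition of the third Conway group, fusion of `e`: the certificate of the quadratic models on 64 points.
-/

set_option autoImplicit false

namespace Cfsg.Agent.Co3Inv.FusedModel

/-- The squares of the points of the models, packed two bits each, one number for each model. -/
def sqTab : List ℕ := [
  260231626924862283032660608584952448256,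
  200150643225687339990283940662497379584,
  140131723699899571059404551328977519872,
  80050740000724628017027883406522451200,
  260231626896899345258768090899226952960,
  200150643197724402216391422976771884288,
  140131723671936633285512033643252024576,
  80050739972761690243135365720796955904,
  260231626948176773220239241707180918016,
  200150643249001830177862573784725849344,
  140131723723214061246983184451205989632,
  80050740024039118204606516528750920960,
  260231626920213835446346724021455422720,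
  200150643221038892403970056099000354048,
  140131723695251123473090666765480494336,
  80050739996076180430713998843025425664,
  80518971520479658942649101670123439360,
  140598121721517696879725179798479832320,
  199684245148360949032844800503872881920,
  259763395349398986969920878632229274880,
  80518971548224986305875095673520129280,
  140598121749263024242951173801876522240,
  199684245176106276396070794507269571840,
  259763395377144314333146872635625964800,
  80518971543794149130227734792351909120,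
  140598121744832187067303812920708302080,
  199684245171675439220423433626101351680,
  259763395372713477157499511754457744640,
  80518971571539476493453728795748599040,
  140598121772577514430529806924104992000,
  199684245199420766583649427629498041600,
  259763395400458804520725505757854434560]

/-- The square of a point by the table. -/
def sqT (T k : ℕ) : ℕ := T / 4 ^ k % 4

/-- The table of the model with given parameters. -/
def tabOf (i q d : ℕ) : ℕ := sqTab.getD (16 * i + 4 * q + d) 0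

theorem sqT_eq : ∀ i < 2, ∀ q < 4, ∀ d < 4, ∀ k < 64, sqT (tabOf i q d) k = sqm (16 * i) q d k := by
  decide +kernel

/-- Whether a partial table of a map with number `c` extends by the value `t`. -/
def extOK (T c : ℕ) (im : List ℕ) (i t : ℕ) : Bool :=
  ((List.range (2 ^ i)).all fun s =>
    Nat.beq (sqT T (im.getD s 0 ^^^ t)) (sqT T (2 ^ i + s)) &&
      (!Nat.beq (2 ^ i + s) 1 || Nat.beq (im.getD s 0 ^^^ t) (1 ^^^ wc c)) &&
      (!Nat.beq (2 ^ i + s) (wc c) || Nat.beq (im.getD s 0 ^^^ t) (wc c))) &&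
    !im.any fun v => Nat.beq v t

/-- The extensions of a partial table. -/
def grow (T c i : ℕ) (im : List ℕ) : List (List ℕ) :=
  ((List.range 64).filter (extOK T c im i)).map fun t => im ++ im.map (· ^^^ t)

/-- The partial tables of maps with number `c` on the first `2 ^ i` points. -/
def level (T c : ℕ) : ℕ → List (List ℕ)
  | 0 => [[0]]
  | i + 1 => (level T c i).flatMap (grow T c i)

/-- The tables of the maps with number `c`. -/
def tabs (T c : ℕ) : List (List ℕ) := level T c 6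

theorem two_pow_add_xor : ∀ i < 6, ∀ s < 32, s < 2 ^ i → 2 ^ i + s = 2 ^ i ^^^ s := by decide +kernel

theorem mem_tabs {i q d c : ℕ} {f : ℕ → ℕ} (hi : i < 2) (hq : q < 4) (hd : d < 4)
    (h : TMap (16 * i) q d c f) : (List.range 64).map f ∈ tabs (tabOf i q d) c := by
  have f0 : f 0 = 0 := by
    have h1 := h.xor 0 (by omega) 0 (by omega)
    simpa only [Nat.xor_self] using h1
  have key : ∀ n ≤ 6, (List.range (2 ^ n)).map f ∈ level (tabOf i q d) c n := by
    intro n
    induction n with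
    | zero => intro _; simp [level, f0, List.range_succ]
    | succ n ih =>
      intro hn
      have hp : 2 ^ (n + 1) ≤ 64 := le_trans (Nat.pow_le_pow_right (by omega) hn) (le_refl (2 ^ 6))
      rw [pow_succ] at hp
      have hget : ∀ s < 2 ^ n, ((List.range (2 ^ n)).map f).getD s 0 = f s := fun s hs => by
        rw [List.getD_eq_getElem _ _ (by simpa using hs), List.getElem_map, List.getElem_range]
      have hx : ∀ s < 2 ^ n, f s ^^^ f (2 ^ n) = f (2 ^ n + s) := fun s hs => by
        rw [two_pow_add_xor n (by omega) s (by omega) hs, h.xor _ (by omega) _ (by omega), Nat.xor_comm]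
      rw [level, List.mem_flatMap]
      refine ⟨_, ih (by omega), ?_⟩
      rw [grow, List.mem_map]
      refine ⟨f (2 ^ n), List.mem_filter.2 ⟨List.mem_range.2 (h.lt _ (by omega)), ?_⟩, ?_⟩
      · simp only [extOK, Bool.and_eq_true, List.all_eq_true, List.mem_range, Bool.not_eq_true',
          List.any_eq_false, Bool.or_eq_true, List.mem_map, Nat.beq_eq]
        refine ⟨fun s hs => ?_, ?_⟩
        · rw [hget s hs, hx s hs, sqT_eq i hi q hq d hd _ (h.lt _ (by omega)),
            sqT_eq i hi q hq d hd _ (by omega)]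
          refine ⟨⟨h.sq _ (by omega), ?_⟩, ?_⟩
          · by_cases e : 2 ^ n + s = 1
            · exact Or.inr (by rw [e, h.e])
            · exact Or.inl (Bool.eq_false_iff.2 fun w => e (Nat.eq_of_beq_eq_true w))
          · by_cases e : 2 ^ n + s = wc c
            · exact Or.inr (by rw [e, h.fix])
            · exact Or.inl (Bool.eq_false_iff.2 fun w => e (Nat.eq_of_beq_eq_true w))
        · rintro v ⟨s, hs, rfl⟩ w
          have := h.inj s (by omega) (2 ^ n) (by omega) w
          omega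
      · rw [pow_succ, Nat.mul_two, List.range_add, List.map_append, List.map_map, List.map_map]
        exact congrArg _ (List.map_congr_left fun s hs => hx s (List.mem_range.1 hs))
  exact key 6 le_rfl

/-- The map of a table. -/
def ofTab (a : List ℕ) (k : ℕ) : ℕ := a.getD k 0

theorem ofTab_map (f : ℕ → ℕ) {k : ℕ} (hk : k < 64) : ofTab ((List.range 64).map f) k = f k := by
  rw [ofTab, List.getD_eq_getElem _ _ (by simpa using hk), List.getElem_map, List.getElem_range]

/-- A list without the repetitions. -/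
def nodupOf : List ℕ → List ℕ
  | [] => []
  | x :: l => bif (nodupOf l).any (fun y => Nat.beq y x) then nodupOf l else x :: nodupOf l

theorem mem_of_mem_nodupOf {x : ℕ} : ∀ {l : List ℕ}, x ∈ nodupOf l → x ∈ l
  | [], h => h
  | y :: l, h => by
    rw [nodupOf] at h
    cases hb : (nodupOf l).any (fun z => Nat.beq z y) <;> rw [hb] at h
    · rcases List.mem_cons.1 h with rfl | h
      · exact List.mem_cons_self
      · exact List.mem_cons_of_mem _ (mem_of_mem_nodupOf h)
    · exact List.mem_cons_of_mem _ (mem_of_mem_nodupOf h)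

/-- The points reached from `e` by at most `n` steps. -/
def ball (g₁ g₂ g₃ : ℕ → ℕ) : ℕ → List ℕ
  | 0 => [1]
  | n + 1 => nodupOf (ball g₁ g₂ g₃ n ++ (ball g₁ g₂ g₃ n).map g₁ ++ (ball g₁ g₂ g₃ n).map g₂ ++
      (ball g₁ g₂ g₃ n).map g₃)

theorem reach_of_ball {f₁ f₂ f₃ g₁ g₂ g₃ : ℕ → ℕ} (e₁ : ∀ k < 64, g₁ k = f₁ k) (e₂ : ∀ k < 64, g₂ k = f₂ k)
    (e₃ : ∀ k < 64, g₃ k = f₃ k) (l₁ : ∀ k < 64, f₁ k < 64) (l₂ : ∀ k < 64, f₂ k < 64)
    (l₃ : ∀ k < 64, f₃ k < 64) : ∀ n k, k ∈ ball g₁ g₂ g₃ n → k < 64 ∧ Reach f₁ f₂ f₃ k := by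
  intro n
  induction n with
  | zero => intro k hk; rw [ball, List.mem_singleton] at hk; subst hk; exact ⟨by omega, .e⟩
  | succ n ih =>
    intro k hk
    rw [ball] at hk
    have hk' := mem_of_mem_nodupOf hk
    simp only [List.mem_append, List.mem_map] at hk'
    rcases hk' with ((h | ⟨x, hx, rfl⟩) | ⟨x, hx, rfl⟩) | ⟨x, hx, rfl⟩
    · exact ih k h
    · rw [e₁ x (ih x hx).1]; exact ⟨l₁ x (ih x hx).1, (ih x hx).2.one⟩
    · rw [e₂ x (ih x hx).1]; exact ⟨l₂ x (ih x hx).1, (ih x hx).2.two⟩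
    · rw [e₃ x (ih x hx).1]; exact ⟨l₃ x (ih x hx).1, (ih x hx).2.three⟩

/-- The facts of the inner case for tables. -/
def factsB (g₁ g₂ g₃ : ℕ → ℕ) : Bool :=
  let B := ball g₁ g₂ g₃ 3
  Nat.beq (g₁ 16) 16 && Nat.beq (g₁ 32) 32 && Nat.beq (g₂ 16) 16 && Nat.beq (g₂ 32) 32 &&
    Nat.beq (g₃ 16) 16 && Nat.beq (g₃ 32) 32 &&
    (List.range 64).all (fun k => Nat.beq (g₁ (g₂ k)) (g₂ (g₁ k)) && Nat.beq (g₁ (g₃ k)) (g₃ (g₁ k)) &&
      Nat.beq (g₂ (g₃ k)) (g₃ (g₂ k)) &&
      (Nat.beq (k % 16) 0 || !(Nat.beq (g₁ k) k && Nat.beq (g₂ k) k || Nat.beq (g₁ k) k && Nat.beq (g₃ k) k ||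
        Nat.beq (g₂ k) k && Nat.beq (g₃ k) k)) &&
      (!(Nat.beq (k % 2) 1 && Nat.beq (sqm 0 0 0 k) 0) || B.any (fun y => Nat.beq y k)) &&
      (!Nat.beq (k % 2) 1 || (List.range 8).all fun m =>
        Nat.beq m 0 || !Nat.beq ((word g₁ g₂ g₃ m k ^^^ k) % 16) 0))

/-- The check of a triple of tables in a model. -/
def tripleB (i q d : ℕ) (g₁ g₂ g₃ : ℕ → ℕ) : Bool :=
  (ball g₁ g₂ g₃ 4).any (fun y => Nat.beq y 2) ||
    (Nat.beq i 0 && Nat.blt q 2 && (!Nat.beq q 0 || (Nat.beq d 0 && factsB g₁ g₂ g₃)))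

/-- The check of a model. -/
def modelB (i q d : ℕ) : Bool :=
  let T := tabOf i q d
  (tabs T 1).all fun a => (tabs T 2).all fun b => (tabs T 3).all fun c =>
    tripleB i q d (ofTab a) (ofTab b) (ofTab c)

theorem chk_models : ∀ i < 2, ∀ q < 4, ∀ d < 4, modelB i q d = true := by decide +kernel

theorem word_congr {f₁ f₂ f₃ g₁ g₂ g₃ : ℕ → ℕ} (e₁ : ∀ k < 64, g₁ k = f₁ k) (e₂ : ∀ k < 64, g₂ k = f₂ k)
    (e₃ : ∀ k < 64, g₃ k = f₃ k) (l₁ : ∀ k < 64, f₁ k < 64) (l₂ : ∀ k < 64, f₂ k < 64) (m : ℕ) {k : ℕ}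
    (hk : k < 64) : word g₁ g₂ g₃ m k = word f₁ f₂ f₃ m k := by
  simp only [word]
  cases m.testBit 0 <;> cases m.testBit 1 <;> cases m.testBit 2 <;>
    simp (config := { maxDischargeDepth := 5 }) [cond, e₁, e₂, e₃, hk, l₁, l₂]

theorem facts_of_factsB {f₁ f₂ f₃ g₁ g₂ g₃ : ℕ → ℕ} (e₁ : ∀ k < 64, g₁ k = f₁ k)
    (e₂ : ∀ k < 64, g₂ k = f₂ k) (e₃ : ∀ k < 64, g₃ k = f₃ k) (l₁ : ∀ k < 64, f₁ k < 64)
    (l₂ : ∀ k < 64, f₂ k < 64) (l₃ : ∀ k < 64, f₃ k < 64) (h : factsB g₁ g₂ g₃ = true) :
    Facts f₁ f₂ f₃ := by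
  simp only [factsB, Bool.and_eq_true, List.all_eq_true, List.mem_range, Bool.or_eq_true, Bool.not_eq_true',
    Nat.beq_eq] at h
  obtain ⟨⟨⟨⟨⟨⟨a1, a2⟩, b1⟩, b2⟩, c1⟩, c2⟩, h⟩ := h
  refine ⟨⟨by rw [← e₁ 16 (by omega), a1], by rw [← e₁ 32 (by omega), a2]⟩,
    ⟨by rw [← e₂ 16 (by omega), b1], by rw [← e₂ 32 (by omega), b2]⟩,
    ⟨by rw [← e₃ 16 (by omega), c1], by rw [← e₃ 32 (by omega), c2]⟩, ?_, ?_, ?_, ?_⟩
  · intro k hk
    obtain ⟨⟨⟨⟨⟨h1, h2⟩, h3⟩, -⟩, -⟩, -⟩ := h k hk
    simp only [e₁, e₂, e₃, hk, l₁, l₂, l₃] at h1 h2 h3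
    exact ⟨h1, h2, h3⟩
  · intro k hk hp
    rcases (h k hk).1.1.2 with h4 | h4
    · exact h4
    · exfalso
      rw [← e₁ k hk, ← e₂ k hk, ← e₃ k hk] at hp
      simp only [Bool.eq_false_iff, ne_eq, Bool.or_eq_true, Bool.and_eq_true, Nat.beq_eq] at h4
      exact h4 (by tauto)
  · intro k hk h2 hs
    rcases (h k hk).1.2 with h4 | h4
    · exfalso; rw [h2, hs] at h4; simp at h4
    · obtain ⟨y, hy, e⟩ := List.any_eq_true.1 h4
      rw [← Nat.eq_of_beq_eq_true e]
      exact (reach_of_ball e₁ e₂ e₃ l₁ l₂ l₃ 3 y hy).2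
  · intro m hm hm0 k hk h2
    rcases (h k hk).2 with h4 | h4
    · rw [h2] at h4; simp at h4
    · rcases h4 m hm with h5 | h5
      · exact absurd h5 hm0
      · rw [← word_congr e₁ e₂ e₃ l₁ l₂ m hk]
        exact fun h6 => by rw [h6] at h5; simp at h5

/-- The certificate holds. -/
theorem cert : Cert := by
  intro L q d hL hq hd f₁ f₂ f₃ h₁ h₂ h₃
  obtain ⟨i, hi, rfl⟩ : ∃ i < 2, L = 16 * i := by
    rcases hL with rfl | rfl
    · exact ⟨0, by omega, rfl⟩
    · exact ⟨1, by omega, rfl⟩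
  have h := chk_models i hi q hq d hd
  simp only [modelB, List.all_eq_true] at h
  have ht := h _ (mem_tabs hi hq hd h₁) _ (mem_tabs hi hq hd h₂) _ (mem_tabs hi hq hd h₃)
  have e₁ := fun k (hk : k < 64) => ofTab_map f₁ hk
  have e₂ := fun k (hk : k < 64) => ofTab_map f₂ hk
  have e₃ := fun k (hk : k < 64) => ofTab_map f₃ hk
  simp only [tripleB, Bool.or_eq_true, Bool.and_eq_true, Bool.not_eq_true', List.any_eq_true, Nat.beq_eq,
    Nat.blt_eq] at ht
  rcases ht with ⟨y, hy, rfl⟩ | ⟨⟨rfl, hq2⟩, h3⟩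
  · exact Or.inl (reach_of_ball e₁ e₂ e₃ h₁.lt h₂.lt h₃.lt 4 _ hy).2
  · refine Or.inr ⟨rfl, hq2, fun hq0 => ?_⟩
    subst hq0
    rcases h3 with h3 | ⟨hd0, hf⟩
    · simp at h3
    · exact ⟨hd0, facts_of_factsB e₁ e₂ e₃ h₁.lt h₂.lt h₃.lt hf⟩

end Cfsg.Agent.Co3Inv.FusedModel
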