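import Cfsg.Agent.Lib.Co3Inv.Input
import Cfsg.Agent.Lib.Co3Inv.FusedModel

/-!
Recognition of the third Conway group, fusion of `e`: the centralizer `W` in `C_{M₁₂}(t)` of the plane
`⟨t, p⟩` in indices, and the elements of `C(e, z)`.
-/

set_option autoImplicit false
set_option maxRecDepth 100000
set_option synthInstance.maxSize 10000

namespace Cfsg.Agent.Co3Inv

open Cfsg
open Cfsg.Agent.M12Cent (T cm inv2 isR isP isY setup₀)
open FusedModel (lapp qu)
open Cfsg.Agent.PermCert (get)

/-- The index is in the centralizer of the plane. -/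
def inW (i : ℕ) : Bool := Nat.blt i 64 && cm i 6

/-- The indices of the plane. -/
def vi (v : ℕ) : ℕ :=
  bif v.testBit 0 then (bif v.testBit 1 then 9 else 1) else (bif v.testBit 1 then 6 else 0)

/-- The coset of the plane, three bits. -/
def lab (i : ℕ) : ℕ := get 8 155130677704329662520255676237413868455422209058632406912165918642203123569024599571049987106473156943665602691072 i

/-- Representatives of the cosets. -/
def rep (l : ℕ) : ℕ := [0, 34, 35, 2, 4, 33, 32, 3].getD l 0

/-- The shift made by an element. -/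
def inn (i : ℕ) : ℕ := get 8 5541515742549597819658630797967470185003469622099211275858617126760495017708191651313828891955044844328344506138624 i

/-- The index is in the class of `t`. -/
def isTc (i : ℕ) : Bool := Nat.beq i 1 || isP i || isY i

theorem lapp_lt : ∀ L < 64, ∀ l < 8, lapp L l < 4 := by decide +kernel

theorem lapp_add : ∀ L < 64, ∀ a < 8, ∀ b < 8, lapp L (a ^^^ b) = lapp L a ^^^ lapp L b := by
  decide +kernel

theorem lapp_xor : ∀ L < 64, ∀ M < 64, ∀ l < 8, lapp (L ^^^ M) l = lapp L l ^^^ lapp M l := by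
  decide +kernel

theorem qu_lt : ∀ l < 8, qu l < 4 := by decide +kernel

theorem chk_W : ∀ i < 64, inW i = true → ∀ j < 64, inW j = true →
    inW (T i j) = true ∧ lab (T i j) = lab i ^^^ lab j := by decide +kernel

theorem chk_W' : ∀ i < 64, inW i = true →
    lab i < 8 ∧ (∃ v < 4, i = T (rep (lab i)) (vi v)) ∧ T i i = vi (qu (lab i)) ∧ inn i < 64 := by
  decide +kernel

theorem chk_rep : ∀ l < 8, rep l < 64 ∧ inW (rep l) = true ∧ lab (rep l) = l := by decide +kernel

theorem chk_vi : ∀ v < 4, vi v < 64 ∧ inW (vi v) = true ∧ lab (vi v) = 0 ∧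
    ∀ w < 4, T (vi v) (vi w) = vi (v ^^^ w) ∧ (vi v = vi w → v = w) := by decide +kernel

theorem chk_split : ∀ l < 8, ∀ v < 4, ∀ l' < 8, ∀ v' < 4,
    T (rep l) (vi v) = T (rep l') (vi v') → l = l' ∧ v = v' := by decide +kernel

theorem chk_centralV : ∀ i < 64, inW i = true → ∀ v < 4, cm i (vi v) = true := by decide +kernel

theorem chk_inn : ∀ i < 64, inW i = true → ∀ l < 8,
    T i (rep l) = T (T (rep l) (vi (lapp (inn i) l))) i := by decide +kernel

theorem chk_inW : ∀ i < 192, cm i 6 = true → inW i = true := by decide +kernel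

namespace Inp

variable {G : Type*} [Group G] (I : Inp G)

theorem el_false (i : ℕ) : I.el false i = I.ι (setup₀.el i) := one_mul _

theorem el_true (i : ℕ) : I.el true i = I.e * I.ι (setup₀.el i) := rfl

theorem el_zero : I.el false 0 = 1 := by rw [el_false, setup₀.el_zero, map_one]

theorem el_e : I.el true 0 = I.e := by rw [el_true, setup₀.el_zero, map_one, mul_one]

theorem el_z : I.el false 1 = I.z := by rw [el_false, setup₀.el_one]

theorem el_comm_e (s : Bool) (i : ℕ) : I.el s i * I.e = I.e * I.el s i := by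
  cases s
  · rw [el_false, I.comm]
  · rw [el_true, mul_assoc, I.comm]

theorem el_mul (s : Bool) {i : ℕ} (hi : i < 192) (s' : Bool) {j : ℕ} (hj : j < 192) :
    I.el s i * I.el s' j = I.el (xor s s') (T i j) := by
  have h : I.ι (setup₀.el i) * I.ι (setup₀.el j) = I.ι (setup₀.el (T i j)) := by
    rw [← map_mul, setup₀.mul i hi j hj]
  cases s <;> cases s' <;> simp only [Bool.false_xor, Bool.true_xor, Bool.not_false, Bool.not_true,
    el_false, el_true]
  · exact h
  · rw [← mul_assoc, I.comm, mul_assoc, h]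
  · rw [mul_assoc, h]
  · rw [mul_assoc, ← mul_assoc (I.ι _), I.comm, mul_assoc, ← mul_assoc, I.e_sq, one_mul, h]

theorem el_inj {s : Bool} {i : ℕ} (hi : i < 192) {s' : Bool} {j : ℕ} (hj : j < 192)
    (h : I.el s i = I.el s' j) : s = s' ∧ i = j := by
  have key : ∀ a b, I.e * I.ι a ≠ I.ι b := fun a b h => I.not_mem (b * a⁻¹) (by
    rw [map_mul, map_inv, ← h, mul_inv_cancel_right])
  cases s <;> cases s' <;> simp only [el_false, el_true] at h
  · exact ⟨rfl, setup₀.inj i hi j hj (I.inj h)⟩
  · exact absurd h.symm (key _ _)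
  · exact absurd h (key _ _)
  · exact ⟨rfl, setup₀.inj i hi j hj (I.inj (mul_left_cancel h))⟩

theorem mem_ez {x : G} (he : x * I.e = I.e * x) (hz : x * I.z = I.z * x) :
    ∃ s : Bool, ∃ i < 192, I.el s i = x := by
  obtain ⟨m, rfl | rfl⟩ := I.split x he
  · obtain ⟨i, hi, rfl⟩ := (setup₀.mem m).1 (I.inj (by rw [map_mul, map_mul]; exact hz))
    exact ⟨false, i, hi, I.el_false i⟩
  · obtain ⟨i, hi, rfl⟩ := (setup₀.mem m).1 (I.inj (by
      rw [map_mul, map_mul]
      have h := hz
      rw [mul_assoc, ← mul_assoc I.z, I.comm setup₀.t, mul_assoc] at h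
      exact mul_left_cancel h))
    exact ⟨true, i, hi, rfl⟩

theorem el_comm_z (s : Bool) {i : ℕ} (hi : i < 192) : I.el s i * I.z = I.z * I.el s i := by
  rw [← el_z, el_mul _ _ hi _ (by norm_num), el_mul _ _ (by norm_num) _ hi, Bool.xor_comm]
  have h := PermCert.allBelow_spec _ _ M12Cent.chk_central.1 i hi
  rw [cm, Nat.beq_eq] at h
  rw [h]

theorem el_comm_iff {s : Bool} {i : ℕ} (hi : i < 192) {s' : Bool} {j : ℕ} (hj : j < 192) :
    I.el s i * I.el s' j = I.el s' j * I.el s i ↔ cm i j = true := by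
  rw [I.el_mul s hi s' hj, I.el_mul s' hj s hi, Bool.xor_comm, cm, Nat.beq_eq]
  exact ⟨fun h => (I.el_inj (M12Cent.T_lt hi hj) (M12Cent.T_lt hj hi) h).2, fun h => by rw [h]⟩

theorem tclass {i : ℕ} (hi : i < 192) (h : isTc i = true) : IsConj setup₀.t (setup₀.el i) := by
  simp only [isTc, Bool.or_eq_true, Nat.beq_eq] at h
  rcases h with (h | h) | h
  · rw [h, setup₀.el_one]
  · exact full_M12.pre.tP.trans (setup₀.conj_P ⟨i, hi, rfl, h⟩)
  · exact (setup₀.tY full_M12).trans (setup₀.conj_Y ⟨i, hi, rfl, h⟩)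

theorem rclass {i : ℕ} (hi : i < 192) (h : isR i = true) : IsConj setup₀.r (setup₀.el i) :=
  setup₀.conj_R ⟨i, hi, rfl, h⟩

theorem map_conj {m m' : Spor.M12} (h : IsConj m m') : IsConj (I.ι m) (I.ι m') := I.ι.map_isConj h

theorem not_conj_tc {i : ℕ} (hi : i < 192) (h : isTc i = true) : ¬ IsConj I.e (I.el false i) := by
  rw [el_false]; exact I.not_conj_of_tclass (tclass hi h)

theorem conj_a {i : ℕ} (hi : i < 192) (h : isR i = true) : IsConj I.a (I.el false i) := by
  rw [el_false]; exact I.map_conj (rclass hi h)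

/-- The order of the centralizer of `e`. -/
theorem card_cent : Nat.card (Subgroup.centralizer ({I.e} : Set G)) = 190080 := by
  have hm : ∀ p : Bool × Spor.M12, (bif p.1 then I.e else 1) * I.ι p.2 ∈ Subgroup.centralizer ({I.e} : Set G) := by
    rintro ⟨b, m⟩
    refine Subgroup.mem_centralizer_singleton_iff.2 ?_
    cases b
    · simp only [cond_false, one_mul, I.comm]
    · simp only [cond_true, mul_assoc, I.comm]
  have hb : Function.Bijective fun p => (⟨_, hm p⟩ : Subgroup.centralizer ({I.e} : Set G)) := by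
    refine ⟨fun p q h => ?_, fun ⟨x, hx⟩ => ?_⟩
    · have key : ∀ a b, I.e * I.ι a ≠ I.ι b := fun a b h => I.not_mem (b * a⁻¹) (by
        rw [map_mul, map_inv, ← h, mul_inv_cancel_right])
      obtain ⟨b, m⟩ := p
      obtain ⟨b', m'⟩ := q
      have h' := congrArg Subtype.val h
      cases b <;> cases b' <;> simp only [cond_false, cond_true, one_mul] at h'
      · rw [I.inj h']
      · exact absurd h'.symm (key _ _)
      · exact absurd h' (key _ _)
      · rw [I.inj (mul_left_cancel h')]
    · obtain ⟨m, rfl | rfl⟩ := I.split x (Subgroup.mem_centralizer_singleton_iff.1 hx)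
      · exact ⟨(false, m), Subtype.ext (one_mul _)⟩
      · exact ⟨(true, m), rfl⟩
  rw [← Nat.card_congr (Equiv.ofBijective _ hb), Nat.card_prod, Golay.card_sporM12]
  simp

end Inp

end Cfsg.Agent.Co3Inv
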