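import Cfsg.Agent.Lib.Co3Inv.FusedTau
import Cfsg.Agent.Lib.Co3Inv.FusedCert

/-!
Recognition of the third Conway group, fusion of `e`: when `e` is not conjugate to `a`, the translation can
be chosen an involution centralizing the plane's centralizer in `C_{M₁₂}(t)`, with three conjugates commuting
with it.
-/

set_option autoImplicit false
set_option maxRecDepth 100000
set_option synthInstance.maxSize 10000

namespace Cfsg.Agent.Co3Inv

open Cfsg
open Cfsg.Agent.M12Cent (T cm isR setup₀)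
open FusedModel (lapp qu swv swl sqm TMap Reach Facts)

theorem chk_inner : (∀ u < 4, isR (T (rep 1) (vi u)) = true) ∧
    (∀ c ∈ [1, 2, 3], (lab (rep (1 + 2 * c)) = 3 ∨ lab (rep (1 + 2 * c)) = 5 ∨ lab (rep (1 + 2 * c)) = 7) ∧
      lab (rep (1 + 2 * c)) = 1 + 2 * c) ∧
    (∀ l < 8, l % 2 = 1 → qu l = 0) ∧ inW 0 = true ∧ lab 0 = 0 ∧ qu 0 = 0 ∧ inn 0 = 0 ∧
    T 16 16 = 0 ∧ svv 1 = 1 ∧ permL svv svl 0 = 0 ∧ permL swv swl 0 = 0 ∧
    (∀ v < 4, svv v = v → v = 0 ∨ v = 1) ∧ swv 0 = 0 ∧ vi 1 = 1 := by decide +kernel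

namespace Inp

variable {G : Type*} [Group G] (I : Inp G)

/-- A frame over a translation with shift `0` or the outer one. -/
theorem exists_frame {n : G} {L : ℕ} (hL : L = 0 ∨ L = FusedModel.outerL) (S : I.Shift n 1 L) :
    ∃ F : I.Frame, F.n = n ∧ F.L = L := by
  obtain ⟨k, hk, A⟩ := I.exists_act_swap
  have S2 := A.shift pl_sw hk S
  obtain ⟨q, hq, hqq⟩ := S.sq_mem (by norm_num)
  have h2 : k * n * k⁻¹ * (k * n * k⁻¹) = I.vel (swv q) := by rw [conj_mul, hqq, A.V q hq]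
  obtain ⟨d, hd, hdd⟩ := (S.mul S2).sq_mem (by decide)
  exact ⟨⟨n, k * n * k⁻¹, L, q, d, hL, hq, hd, S, S2, hqq, h2, hdd⟩, rfl, rfl⟩

/-- A mover and its map. -/
structure Mv (F : I.Frame) (c : ℕ) (t : G) (f : ℕ → ℕ) : Prop where
  mover : I.Mover t (rep (1 + 2 * c))
  tmap : TMap F.L F.q F.d c f
  map : ∀ k < 64, ∀ x, F.Coset k x → F.Coset (f k) (t * x * t⁻¹)
  inR : ∀ x, I.InR x → I.InR (t * x * t⁻¹)
  conj : F.L = 0 → ∃ g : G, g * I.e = I.e * g ∧ t = g⁻¹ * F.n * g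

variable [Finite G]

theorem exists_mv (F : I.Frame) {c : ℕ} (hc : c ∈ [1, 2, 3]) : ∃ t f, I.Mv F c t f := by
  obtain ⟨hl, hlc⟩ := chk_inner.2.1 c hc
  have h8 : 1 + 2 * c < 8 := by fin_cases hc <;> norm_num
  obtain ⟨hr, hrW, -⟩ := chk_rep _ h8
  obtain ⟨g, m, hg, -, hm, M⟩ := I.exists_mover F.hL F.hn hr hrW hl
  obtain ⟨f, h1, h2, h3⟩ := M.exists_map F hr hrW (by fin_cases hc <;> norm_num) hlc
  exact ⟨g⁻¹ * m * g, f, M, h1, h2, h3, fun h0 => ⟨g, hg, by rw [hm h0]⟩⟩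

omit [Finite G] in
theorem reach_conj (F : I.Frame) {t₁ t₂ t₃ : G} {f₁ f₂ f₃ : ℕ → ℕ} (m₁ : I.Mv F 1 t₁ f₁)
    (m₂ : I.Mv F 2 t₂ f₂) (m₃ : I.Mv F 3 t₃ f₃) {k : ℕ} (h : Reach f₁ f₂ f₃ k) :
    k < 64 ∧ ∃ x, F.Coset k x ∧ IsConj I.e x := by
  have step : ∀ {c t f}, I.Mv F c t f → ∀ {j}, (j < 64 ∧ ∃ x, F.Coset j x ∧ IsConj I.e x) →
      (f j < 64 ∧ ∃ x, F.Coset (f j) x ∧ IsConj I.e x) := fun {c t f} M {j} ⟨hj, x, hx, hc⟩ =>
    ⟨M.tmap.lt j hj, _, M.map j hj x hx, hc.trans (M12Cent.isConj_conj t x)⟩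
  induction h with
  | e =>
    refine ⟨by norm_num, I.e, ⟨0, by norm_num, ?_⟩, IsConj.refl _⟩
    rw [I.vel_zero, mul_one, Frame.elt, show Nat.testBit (1 / 16) 0 = false from rfl,
      show Nat.testBit (1 / 16) 1 = false from rfl, show Nat.testBit 1 0 = true from rfl,
      show rep (1 / 2 % 8) = 0 from rfl, I.el_e]
    simp [Frame.tr]
  | one _ ih => exact step m₁ ih
  | two _ ih => exact step m₂ ih
  | three _ ih => exact step m₃ ih

/-- What the certificate gives. -/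
theorem cert_facts (hn : ¬ IsConj I.e I.a) (F : I.Frame) :
    F.L = 0 ∧ F.q < 2 ∧ (F.q = 0 → F.d = 0 ∧ ∃ t₁ t₂ t₃ f₁ f₂ f₃, I.Mv F 1 t₁ f₁ ∧ I.Mv F 2 t₂ f₂ ∧
      I.Mv F 3 t₃ f₃ ∧ Facts f₁ f₂ f₃) := by
  obtain ⟨t₁, f₁, m₁⟩ := I.exists_mv F (c := 1) (by simp)
  obtain ⟨t₂, f₂, m₂⟩ := I.exists_mv F (c := 2) (by simp)
  obtain ⟨t₃, f₃, m₃⟩ := I.exists_mv F (c := 3) (by simp)
  rcases FusedModel.cert F.L F.q F.d F.hL F.q_lt F.d_lt f₁ f₂ f₃ m₁.tmap m₂.tmap m₃.tmap with h | h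
  · obtain ⟨-, x, ⟨u, hu, rfl⟩, hc⟩ := I.reach_conj F m₁ m₂ m₃ h
    refine absurd ?_ hn
    have he : F.elt 2 * I.vel u = I.el false (T (rep 1) (vi u)) := by
      rw [Frame.elt, show Nat.testBit (2 / 16) 0 = false from rfl,
        show Nat.testBit (2 / 16) 1 = false from rfl, show Nat.testBit 2 0 = false from rfl,
        show (2 / 2 % 8 : ℕ) = 1 from rfl, ← I.elF (lt_192 (chk_rep 1 (by norm_num)).1)
          (lt_192 (chk_vi u hu).1)]
      simp [Frame.tr, vel]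
    rw [he] at hc
    exact hc.trans (I.conj_a (M12Cent.T_lt (lt_192 (chk_rep 1 (by norm_num)).1)
      (lt_192 (chk_vi u hu).1)) (chk_inner.1 u hu)).symm
  · exact ⟨h.1, h.2.1, fun hq => ⟨(h.2.2 hq).1, t₁, t₂, t₃, f₁, f₂, f₃, m₁, m₂, m₃, (h.2.2 hq).2⟩⟩

/-- An involution shifting `e` by `z` that centralizes `W` and `s`. -/
theorem exists_translation (hn : ¬ IsConj I.e I.a) {n₀ : G} (he : n₀ * I.e * n₀⁻¹ = I.e * I.z)
    (hz : n₀ * I.z * n₀⁻¹ = I.z) (hp : n₀ * I.el false 6 * n₀⁻¹ = I.el false 6) :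
    ∃ n : G, I.Shift n 1 0 ∧ n * n = 1 ∧ I.el false 16 * n = n * I.el false 16 := by
  have hV : ∀ u < 4, n₀ * I.vel u * n₀⁻¹ = I.vel u := by
    have h2 : n₀ * I.vel 2 * n₀⁻¹ = I.vel 2 := by rw [vel, chk_kinds.2.2.2.2.2.2.2.2.2]; exact hp
    intro u hu
    interval_cases u
    · rw [I.vel_zero, mul_one, mul_inv_cancel]
    · rw [I.vel_one]; exact hz
    · exact h2
    · rw [show I.vel 3 = I.vel 1 * I.vel 2 from (I.vel_mul (a := 1) (b := 2) (by norm_num) (by norm_num)).symm,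
        ← conj_mul, I.vel_one, hz, h2]
  obtain ⟨L, S⟩ := I.exists_shift hn he hV
  obtain ⟨k, hk, A⟩ := I.exists_act_swap
  have S2 := A.shift pl_sw hk S
  have S3 := (I.act_s).shift pl_sv (I.el_comm_e false 16) S2
  rw [show svv (swv 1) = 1 ^^^ swv 1 from by decide] at S3
  obtain ⟨s, i, hi, hiW, -, hinn⟩ := (S.mul S2).diff S3
  have hL := S.L_lt
  have hL2 := (pl_sw.perm L hL).1
  obtain ⟨j, hj, hjW, hjL⟩ := chk_gauge L hL ⟨i, hi, hiW, fun l hl => by
    rw [hinn, lapp_xor _ (pl_sv.perm _ hL2).1 _ (fused_xor_lt_64 hL hL2) l hl, lapp_xor _ hL _ hL2 l hl,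
      (pl_sv.perm _ hL2).2 l hl, (pl_sw.perm L hL).2 l hl, (pl_sw.perm L hL).2 _ (pl_sv.l_lt l hl),
      Nat.xor_comm]⟩
  have S' := S.mul (I.shift_el false hj hjW)
  rw [Nat.xor_zero] at S'
  obtain ⟨F, hFn, hFL⟩ := I.exists_frame hjL S'
  obtain ⟨hL0, hq, -⟩ := I.cert_facts hn F
  rw [hFL] at hL0
  rw [hL0] at S'
  obtain ⟨n₁, hn₁, hn₁2⟩ : ∃ n : G, I.Shift n 1 0 ∧ n * n = 1 := by
    rcases (show F.q = 0 ∨ F.q = 1 by omega) with h | h
    · exact ⟨n₀ * I.el false j, S', by rw [← hFn, F.sq_n, h, I.vel_zero]⟩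
    · refine ⟨n₀ * I.el false j * I.el true 0, ?_, ?_⟩
      · have := S'.mul (I.shift_el true (i := 0) (by norm_num) chk_inner.2.2.2.1)
        rwa [Nat.xor_zero, chk_inner.2.2.2.2.2.2.1, Nat.xor_zero] at this
      · have hm : n₀ * I.el false j * (n₀ * I.el false j) = I.vel 1 := by rw [← hFn, F.sq_n, h]
        rw [S'.sq_el (by norm_num) hm true (i := 0) (by norm_num) chk_inner.2.2.2.1, cond_true,
          chk_inner.2.2.2.2.1, (lapp_zero 0 (by norm_num)).1, chk_inner.2.2.2.2.2.1]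
        exact I.vel_zero
  -- the element `s` changes the translation by `1` or `z`
  have S16 := (I.act_s).shift pl_sv (I.el_comm_e false 16) hn₁
  rw [chk_inner.2.2.2.2.2.2.2.2.1, chk_inner.2.2.2.2.2.2.2.2.2.1] at S16
  obtain ⟨b, i', hi', hiW', heq, hinn'⟩ := S16.diff hn₁
  obtain ⟨u, hu, rfl⟩ := chk_center i' hi' hiW' (by rw [hinn', Nat.xor_self])
  have hsq := hn₁.sq_el (q := 0) (by norm_num) (by rw [hn₁2, I.vel_zero]) b hi' hiW'
  rw [← heq, conj_mul, hn₁2, mul_one, mul_inv_cancel, (chk_vi u hu).2.2.1,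
    (lapp_zero 0 (by norm_num)).1, chk_inner.2.2.2.2.2.1, Nat.xor_zero, Nat.xor_zero, Nat.xor_zero] at hsq
  cases b
  · set s16 := I.el false 16
    have hs2 : s16 * s16 = 1 := by
      rw [I.elF (by norm_num) (by norm_num), chk_inner.2.2.2.2.2.2.2.1, I.el_zero]
    have heq' : s16 * n₁ * s16⁻¹ = n₁ * I.vel u := heq
    have hu' := pl_sv.v_lt u hu
    have h2 : n₁ = n₁ * I.vel u * I.vel (svv u) := by
      calc n₁ = s16 * s16 * n₁ * (s16 * s16)⁻¹ := by rw [hs2]; group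
        _ = s16 * (s16 * n₁ * s16⁻¹) * s16⁻¹ := by group
        _ = _ := by rw [heq', ← conj_mul, heq', (I.act_s).V u hu]
    rw [mul_assoc, eq_comm, mul_eq_left, I.vel_mul hu hu', ← I.vel_zero] at h2
    have hfix : svv u = u := by
      have h3 := I.vel_inj (xor_lt_four _ hu _ hu') (by norm_num) h2
      rw [← Nat.xor_zero u]
      conv_rhs => rw [← h3]
      rw [Nat.xor_zero, ← Nat.xor_assoc, Nat.xor_self, Nat.zero_xor]
    rcases chk_inner.2.2.2.2.2.2.2.2.2.2.2.1 u hu hfix with rfl | rfl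
    · rw [I.vel_zero, mul_one] at heq'
      exact ⟨n₁, hn₁, hn₁2, mul_inv_eq_iff_eq_mul.1 heq'⟩
    · refine ⟨n₁ * I.vel 2, ?_, ?_, mul_inv_eq_iff_eq_mul.1 ?_⟩
      · have := hn₁.mul (I.shift_el false (i := vi 2) (chk_vi 2 (by norm_num)).1 (chk_vi 2 (by norm_num)).2.1)
        rwa [Nat.xor_zero, show inn (vi 2) = 0 by decide +kernel, Nat.xor_zero] at this
      · have hc : n₁ * I.vel 2 = I.vel 2 * n₁ := mul_inv_eq_iff_eq_mul.1 (hn₁.fixV 2 (by norm_num))
        calc n₁ * I.vel 2 * (n₁ * I.vel 2) = n₁ * (I.vel 2 * n₁) * I.vel 2 := by simp only [mul_assoc]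
          _ = n₁ * n₁ * (I.vel 2 * I.vel 2) := by rw [← hc]; simp only [mul_assoc]
          _ = 1 := by rw [hn₁2, I.vel_sq (by norm_num), one_mul]
      · rw [← conj_mul, heq', (I.act_s).V 2 (by norm_num), mul_assoc,
          I.vel_mul (by norm_num) (pl_sv.v_lt 2 (by norm_num))]
        rfl
  · simp only [cond_true] at hsq
    exact absurd (I.vel_inj (by norm_num) (by norm_num) (I.vel_zero.trans hsq)) (by norm_num)

/-- The data of the inner case. -/
structure Inner where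
  F : I.Frame
  L0 : F.L = 0
  q0 : F.q = 0
  d0 : F.d = 0
  comm_s : I.el false 16 * F.n = F.n * I.el false 16
  t₁ : G
  t₂ : G
  t₃ : G
  f₁ : ℕ → ℕ
  f₂ : ℕ → ℕ
  f₃ : ℕ → ℕ
  facts : Facts f₁ f₂ f₃
  m₁ : I.Mv F 1 t₁ f₁
  m₂ : I.Mv F 2 t₂ f₂
  m₃ : I.Mv F 3 t₃ f₃

theorem exists_inner (hn : ¬ IsConj I.e I.a) {n₀ : G} (he : n₀ * I.e * n₀⁻¹ = I.e * I.z)
    (hz : n₀ * I.z * n₀⁻¹ = I.z) (hp : n₀ * I.el false 6 * n₀⁻¹ = I.el false 6) : Nonempty I.Inner := by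
  obtain ⟨n, S, hn2, hs⟩ := I.exists_translation hn he hz hp
  obtain ⟨F, hFn, hFL⟩ := I.exists_frame (Or.inl rfl) S
  have hq : F.q = 0 := I.vel_inj F.q_lt (by norm_num) (by rw [← F.sq_n, hFn, hn2, I.vel_zero])
  obtain ⟨hd, t₁, t₂, t₃, f₁, f₂, f₃, m₁, m₂, m₃, hf⟩ := (I.cert_facts hn F).2.2 hq
  exact ⟨⟨F, hFL, hq, hd, hFn ▸ hs, t₁, t₂, t₃, f₁, f₂, f₃, hf, m₁, m₂, m₃⟩⟩

variable {I} in
/-- A mover commutes with the translation and is an involution. -/
theorem Inner.mv_spec (D : I.Inner) {c : ℕ} {t : G} {f : ℕ → ℕ} (hc : c ∈ [1, 2, 3]) (M : I.Mv D.F c t f)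
    (h16 : f 16 = 16) : t * t = 1 ∧ t * D.F.n = D.F.n * t ∧ ∀ k < 64, f (f k) = k := by
  set F := D.F with hF
  set n := F.n with hndef
  have hn2 : n * n = 1 := by rw [hndef, F.sq_n, D.q0, I.vel_zero]
  obtain ⟨g, -, ht⟩ := M.conj D.L0
  have ht2 : t * t = 1 := by rw [ht]; calc g⁻¹ * n * g * (g⁻¹ * n * g) = g⁻¹ * (n * n) * g := by group
                                           _ = 1 := by rw [hn2]; group
  have hti : t⁻¹ = t := inv_eq_of_mul_eq_one_right ht2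
  have hni : n⁻¹ = n := inv_eq_of_mul_eq_one_right hn2
  refine ⟨ht2, ?_, fun k hk => ?_⟩
  swap
  · refine F.coset_unique (M.tmap.lt _ (M.tmap.lt k hk)) hk ?_ F.coset_elt
    have h1 := M.map _ (M.tmap.lt k hk) _ (M.map k hk _ F.coset_elt)
    rwa [show t * (t * F.elt k * t⁻¹) * t⁻¹ = t * t * F.elt k * (t * t)⁻¹ by group, ht2, one_mul, inv_one,
      mul_one] at h1
  obtain ⟨hwl, hwlab⟩ := chk_inner.2.1 c hc
  have h8 : 1 + 2 * c < 8 := by fin_cases hc <;> norm_num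
  obtain ⟨hw, hwW, -⟩ := chk_rep _ h8
  set w := rep (1 + 2 * c) with hwdef
  obtain ⟨-, -, -, -, -, -, -, -, hCw, hW', hlw'⟩ := chk_wlab w hw hwW hwl
  have hw'eq : I.el false (T 1 w) = I.z * I.el false w := by
    rw [← I.el_z, I.elF (by norm_num) (lt_192 hw)]
  obtain ⟨g', m', -, -, hm', M'⟩ := I.exists_mover F.hL F.hn (inW_lt hW') hW' (by rw [hlw']; exact hwl)
  rw [hm' D.L0, ← hndef] at M'
  set t' := g'⁻¹ * n * g' with ht'
  have ht'2 : t' * t' = 1 := by rw [ht']; calc g'⁻¹ * n * g' * (g'⁻¹ * n * g') = g'⁻¹ * (n * n) * g' := by group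
                                                _ = 1 := by rw [hn2]; group
  have hnw : n * I.el false w * n⁻¹ = I.el false w := by
    rw [F.hn.conjW hw hwW, D.L0, (lapp_zero 0 (by norm_num)).2 _ (chk_W' w hw hwW).1, I.vel_zero, mul_one]
  have hzw : I.z * I.el false w = I.el false w * I.z := (I.el_comm_z false (lt_192 hw)).symm
  have ht'w : t' * I.el false w * t'⁻¹ = I.el false w := by
    have h1 : I.el false w = I.vel 1 * I.el false (T 1 w) := by
      rw [hw'eq, ← mul_assoc, I.vel_one, ← I.vel_one, I.vel_sq (by norm_num), one_mul]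
    conv_lhs => rw [h1]
    rw [← conj_mul, M'.fixV 1 (by norm_num), M'.fixw, ← h1]
  set y := n * t with hy
  have hye : y * I.e * y⁻¹ = I.e * I.el false (T 1 w) := by
    calc y * I.e * y⁻¹ = n * (t * I.e * t⁻¹) * n⁻¹ := by rw [hy]; group
      _ = _ := by rw [M.mover.moveE, ← conj_mul, F.hn.moveE, hnw, I.vel_one, hw'eq, mul_assoc]
  set cc := t'⁻¹ * y with hcc
  have hconj : ∀ x, cc * x * cc⁻¹ = t'⁻¹ * (y * x * y⁻¹) * t' := fun x => by rw [hcc]; group
  have hcV : ∀ u < 4, cc * I.vel u = I.vel u * cc := fun u hu => by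
    refine mul_inv_eq_iff_eq_mul.1 ?_
    rw [hconj]
    calc t'⁻¹ * (y * I.vel u * y⁻¹) * t' = t'⁻¹ * I.vel u * t' := by
          rw [hy, show n * t * I.vel u * (n * t)⁻¹ = n * (t * I.vel u * t⁻¹) * n⁻¹ by group,
            M.mover.fixV u hu, F.hn.fixV u hu]
      _ = _ := by
          conv_lhs => rw [← M'.fixV u hu]
          group
  obtain ⟨s, i, hi, hiW, hcel⟩ := I.cent_plane (x := cc) (by
      refine mul_inv_eq_iff_eq_mul.1 ?_
      rw [hconj, hye, ← M'.moveE]; group)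
    (by rw [← I.vel_one]; exact hcV 1 (by norm_num)) (hcV 2 (by norm_num))
  have hcw : cm i w = true := by
    refine (I.el_comm_iff (lt_192 hi) (lt_192 hw) (s := s) (s' := false)).1 ?_
    rw [hcel]
    refine mul_inv_eq_iff_eq_mul.1 ?_
    rw [hconj, hy, show n * t * I.el false w * (n * t)⁻¹ = n * (t * I.el false w * t⁻¹) * n⁻¹ by group,
      M.mover.fixw, hnw]
    conv_lhs => rw [← ht'w]
    group
  obtain ⟨hli, hlw⟩ := (⟨(chk_W' i hi hiW).1, (chk_W' w hw hwW).1⟩ : lab i < 8 ∧ lab w < 8)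
  have hqu : qu (lab i) = 0 := by
    rcases hCw i hi hiW hcw with h | h <;> rw [h]
    · exact chk_inner.2.2.2.2.2.1
    · exact chk_inner.2.2.1 _ hlw (by omega)
  have hfix : t' * I.el false i * t'⁻¹ = I.el false i := by
    obtain ⟨u, hu, heu⟩ := I.el_rep false hi hiW
    obtain ⟨u', hu', heu'⟩ := I.el_rep false hw hwW
    rcases hCw i hi hiW hcw with h | h
    · rw [h, show rep 0 = 0 from rfl, I.el_zero, one_mul] at heu
      rw [heu]; exact M'.fixV u hu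
    · rw [h] at heu
      have hwi : I.el false i = I.el false w * I.vel (u' ^^^ u) := by
        rw [heu, heu', mul_assoc, I.vel_mul hu' (xor_lt_four _ hu' _ hu), ← Nat.xor_assoc, Nat.xor_self,
          Nat.zero_xor]
      rw [hwi, ← conj_mul, ht'w, M'.fixV _ (xor_lt_four _ hu' _ hu)]
  have hw'c : I.el false (T 1 w) * I.el false i = I.el false i * I.el false (T 1 w) := by
    rw [hw'eq]
    have h1 : I.el false w * I.el false i = I.el false i * I.el false w :=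
      ((I.el_comm_iff (lt_192 hi) (lt_192 hw)).2 hcw).symm
    rw [mul_assoc, h1, ← mul_assoc, ← mul_assoc, I.el_comm_z false (lt_192 hi)]
  have hy2 : y * y = (bif s then I.el false (T 1 w) else 1) := by
    have hyc : y = t' * cc := by rw [hcc, mul_inv_cancel_left]
    have htc : t' * cc * t'⁻¹ = cc * (bif s then I.el false (T 1 w) else 1) := by
      rw [← hcel]
      cases s
      · rw [cond_false, mul_one]; exact hfix
      · rw [cond_true, I.el_true_eq, ← conj_mul, M'.moveE, hfix, mul_assoc, hw'c, ← mul_assoc]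
    have hcomm : (bif s then I.el false (T 1 w) else 1) * cc = cc * (bif s then I.el false (T 1 w) else 1) := by
      rw [← hcel]
      cases s
      · simp
      · rw [cond_true, I.el_true_eq, ← mul_assoc, I.el_comm_e, mul_assoc, hw'c, ← mul_assoc]
    have hc2 : cc * cc = 1 := by rw [← hcel, I.el_sq s hi hiW, hqu, I.vel_zero]
    calc y * y = t' * cc * t'⁻¹ * (t' * t') * cc := by rw [hyc]; group
      _ = _ := by rw [htc, ht'2, mul_one, mul_assoc, hcomm, ← mul_assoc, hc2, one_mul]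
  cases s
  · rw [cond_false, hy] at hy2
    calc t * n = (n * t)⁻¹ := by rw [mul_inv_rev, hti, hni]
      _ = n * t := inv_eq_of_mul_eq_one_right hy2
  · exfalso
    rw [cond_true, hy] at hy2
    have h1 : t * n * t⁻¹ = n * I.el false (T 1 w) := by
      rw [← hy2, hti]; simp only [← mul_assoc, hn2, one_mul]
    have e16 : F.elt 16 = n := by
      rw [Frame.elt, show Nat.testBit (16 / 16) 0 = true from rfl,
        show Nat.testBit (16 / 16) 1 = false from rfl, show Nat.testBit 16 0 = false from rfl,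
        show rep (16 / 2 % 8) = 0 from rfl, I.el_zero]
      simp [Frame.tr, hndef]
    have hmap := M.map 16 (by norm_num) _ F.coset_elt
    rw [h16, e16, h1] at hmap
    have hlT := (chk_W' _ (inW_lt hW') hW').1
    obtain ⟨hlt', hb, hlk, hvk⟩ := chk_point false (lab (T 1 w)) hlT 0 (by norm_num)
    simp only [Nat.mul_zero, Nat.zero_add, cond_false, Nat.add_zero] at hlt' hb hlk hvk
    have hC : F.Coset (16 ^^^ 2 * lab (T 1 w)) (n * I.el false (T 1 w)) := by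
      refine F.coset_mul (by norm_num) hlt' (e16 ▸ F.coset_elt) ?_
      obtain ⟨u, hu, he⟩ := I.el_rep false (inW_lt hW') hW'
      refine ⟨u, hu, ?_⟩
      rw [he, Frame.elt, hb, hlk, hvk]
      simp [Frame.tr]
    have h16' := F.coset_unique (by norm_num) (fused_xor_lt_64 (by norm_num) hlt') hmap hC
    have hne : ∀ l < 8, l % 2 = 1 → (16 : ℕ) ≠ 16 ^^^ 2 * l := by decide
    exact hne _ hlT (by rw [hlw', hwlab]; omega) h16'

end Inp

end Cfsg.Agent.Co3Inv
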