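import Mathlib.GroupTheory.Transfer
import Mathlib.Algebra.Group.TypeTags.Basic
import Mathlib.Data.ZMod.Basic
import Cfsg.Prelude.Def_Transfer

/-!
Recognition of the third Conway group, fusion of `e`: for a homomorphism of a subgroup onto a group of order
two, an involution in the subgroup generated by the elements of odd order fixes an even number of cosets on
which the homomorphism is not trivial.
-/

set_option autoImplicit false

namespace Cfsg.Agent.Co3Inv

open Cfsg

variable {G : Type*} [Group G] [Finite G]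

/-- The conjugate by the representative of the coset is in the subgroup and outside the kernel. -/
def OddCoset (H : Subgroup G) (ψ : H →* Multiplicative (ZMod 2)) (g : G) (x : G ⧸ H) : Prop :=
  ∃ h : x.out⁻¹ * g * x.out ∈ H, ψ ⟨_, h⟩ ≠ 1

theorem smul_eq_of_mem {H : Subgroup G} {g : G} {x : G ⧸ H} (h : x.out⁻¹ * g * x.out ∈ H) : g • x = x := by
  conv_lhs => rw [← QuotientGroup.out_eq' x]
  conv_rhs => rw [← QuotientGroup.out_eq' x]
  refine QuotientGroup.eq.2 ?_
  have h' := inv_mem h
  simp only [mul_inv_rev, inv_inv] at h'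
  simpa only [smul_eq_mul, mul_inv_rev, mul_assoc] using h'

theorem even_oddCoset (H : Subgroup G) (ψ : H →* Multiplicative (ZMod 2)) {g : G} (hg : g * g = 1)
    (hO : g ∈ pResidual 2 G) : Even (Nat.card {x : G ⧸ H // OddCoset H ψ g x}) := by
  classical
  let Ω := Quotient (MulAction.orbitRel (Subgroup.zpowers g) (G ⧸ H))
  haveI : Fintype Ω := Fintype.ofFinite _
  have hsq : ∀ a : Multiplicative (ZMod 2), a * a = 1 := by decide
  have hV : MonoidHom.transfer ψ g = 1 := by
    refine MonoidHom.mem_ker.1 ((Subgroup.closure_le (MonoidHom.transfer ψ).ker).2 (fun x hx => ?_) hO)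
    obtain ⟨k, hk⟩ := Nat.coprime_two_right.1 hx
    have h1 : x ^ (2 * k + 1) = 1 := by rw [← hk]; exact pow_orderOf_eq_one x
    have h2 := congrArg (MonoidHom.transfer ψ) h1
    rw [map_pow, map_one, pow_succ, pow_mul, pow_two, hsq, one_pow, one_mul] at h2
    exact h2
  rw [MonoidHom.transfer_eq_prod_quotient_orbitRel_zpowers_quot] at hV
  have hterm : ∀ q : Ω, ψ ⟨q.out.out⁻¹ * g ^ Function.minimalPeriod (g • ·) q.out * q.out.out,
      QuotientGroup.out_conj_pow_minimalPeriod_mem H g q.out⟩ =
      Multiplicative.ofAdd (if OddCoset H ψ g q.out then (1 : ZMod 2) else 0) := by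
    intro q
    have hk : Function.minimalPeriod (g • ·) q.out ∣ 2 := by
      apply Function.IsPeriodicPt.minimalPeriod_dvd
      show (fun x : G ⧸ H => g • x)^[2] q.out = q.out
      simp only [Function.iterate_succ, Function.iterate_zero, Function.comp_apply, id_eq]
      rw [smul_smul, hg, one_smul]
    suffices hgen : ∀ (k : ℕ) (hm : q.out.out⁻¹ * g ^ k * q.out.out ∈ H),
        (k = 1 ∨ (k = 2 ∧ g • q.out ≠ q.out)) →
        ψ ⟨_, hm⟩ = Multiplicative.ofAdd (if OddCoset H ψ g q.out then (1 : ZMod 2) else 0) by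
      refine hgen _ _ ?_
      rcases (Nat.dvd_prime Nat.prime_two).1 hk with h | h
      · exact Or.inl h
      · refine Or.inr ⟨h, fun hfix => ?_⟩
        have h1 : Function.minimalPeriod (g • ·) q.out = 1 :=
          Function.minimalPeriod_eq_one_iff_isFixedPt.2 hfix
        omega
    rintro k hm (rfl | ⟨rfl, hne⟩)
    · have htwo : ∀ a : Multiplicative (ZMod 2), a ≠ 1 → a = Multiplicative.ofAdd (1 : ZMod 2) := by decide
      by_cases hodd : OddCoset H ψ g q.out
      · rw [if_pos hodd]
        obtain ⟨h, hh⟩ := hodd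
        refine (congrArg ψ (Subtype.ext ?_)).trans (htwo _ hh)
        show q.out.out⁻¹ * g ^ 1 * q.out.out = _
        rw [pow_one]
      · rw [if_neg hodd, ofAdd_zero]
        by_contra hne
        have hm' : q.out.out⁻¹ * g * q.out.out ∈ H := by rwa [pow_one] at hm
        refine hodd ⟨hm', fun h => hne ((congrArg ψ (Subtype.ext ?_)).trans h)⟩
        show q.out.out⁻¹ * g ^ 1 * q.out.out = _
        rw [pow_one]
    · rw [if_neg (fun ⟨h, _⟩ => hne (smul_eq_of_mem h)), ofAdd_zero]
      refine (congrArg ψ (Subtype.ext ?_)).trans (map_one ψ)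
      show q.out.out⁻¹ * g ^ 2 * q.out.out = 1
      rw [pow_two, hg, mul_one, inv_mul_cancel]
  rw [Finset.prod_congr rfl (fun q _ => hterm q), ← ofAdd_sum, ofAdd_eq_one, Finset.sum_boole,
    ← Fintype.card_subtype, ZMod.natCast_eq_zero_iff_even, ← Nat.card_eq_fintype_card] at hV
  have e : Nat.card {q : Ω // OddCoset H ψ g q.out} = Nat.card {x : G ⧸ H // OddCoset H ψ g x} := by
    refine Nat.card_congr (Equiv.ofBijective
      (fun q : {q : Ω // OddCoset H ψ g q.out} => (⟨q.1.out, q.2⟩ : {x : G ⧸ H // OddCoset H ψ g x}))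
      ⟨fun a b h => Subtype.ext (Quotient.out_injective (congrArg Subtype.val h)), ?_⟩)
    rintro ⟨x, hx⟩
    have hfix : g • x = x := smul_eq_of_mem hx.1
    have hq : (Quotient.mk'' x : Ω).out = x := by
      obtain ⟨⟨p, hp⟩, hpx⟩ := MulAction.orbitRel_apply.1
        (Quotient.mk_out (s := MulAction.orbitRel (Subgroup.zpowers g) (G ⧸ H)) x)
      rw [show (Quotient.mk'' x : Ω).out = (Quotient.mk _ x : Ω).out from rfl, ← hpx]
      show p • x = x
      exact (Subgroup.zpowers_le (H := MulAction.stabilizer G x)).2 hfix hp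
    refine ⟨⟨Quotient.mk'' x, ?_⟩, Subtype.ext hq⟩
    rw [hq]; exact hx
  rwa [e] at hV

end Cfsg.Agent.Co3Inv
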