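import Cfsg.Agent.Lib.Co3Inv.FusedStart
import Cfsg.Agent.Lib.Co3Inv.FusedInner
import Cfsg.Agent.Lib.Co3Inv.FusedParity

/-!
Recognition of the third Conway group: if the involution `e` with centralizer `2 × M₁₂` is in the subgroup
generated by the elements of odd order, it is conjugate to the involution `a` of the second factor. Otherwise
the translations and their conjugates generate with `⟨e⟩ × S` a group `H` with a homomorphism of order two
whose transfer is odd at `e`.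
-/

set_option autoImplicit false
set_option maxRecDepth 100000
set_option synthInstance.maxSize 10000

namespace Cfsg.Agent.Co3Inv

open Cfsg
open Cfsg.Agent.M12Cent (T cm isR setup₀)
open FusedModel (lapp qu swv swl sqm Reach word Facts)

theorem chk_main : (∀ i < 64, inW i = true ∨ ∃ j < 64, inW j = true ∧ i = T 16 j) ∧
    (∀ i < 64, T i 6 = T 6 i ∨ T i 6 = T 9 i) ∧
    (∀ i < 192, T i 6 = T 6 i ∨ T i 6 = T 9 i → i < 64) ∧
    (∀ i < 192, (∀ j < 64, cm i j = true) → i = 0 ∨ i = 1) ∧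
    (∀ i < 192, (∀ j < 64, ∃ k < 64, T j i = T i k) → i < 64) ∧
    (∀ i < 64, ∃ a < 64, ∃ b < 64, T a a = 0 ∧ T b b = 0 ∧ i = T a b) ∧
    (∀ i < 64, inW i = true → cm i 6 = true) ∧ T 6 1 = 9 ∧
    (∀ i < 64, cm i 6 = false → i ≠ 0) := by decide +kernel

theorem chk_mod : ∀ p < 64, ∀ q < 64, (p % 16 = 0 → q % 16 = 0 → (p ^^^ q) % 16 = 0) ∧
    ((p ^^^ q = 0) → p = q) ∧ (p % 16 = 0 → p = 0 ∨ p = 16 ∨ p = 32 ∨ p = 48) := by decide +kernel

/-- The word on Booleans. -/
def wordB (f₁ f₂ f₃ : ℕ → ℕ) (a b c : Bool) (k : ℕ) : ℕ :=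
  let k₁ := bif a then f₁ k else k
  let k₂ := bif b then f₂ k₁ else k₁
  bif c then f₃ k₂ else k₂

theorem word_eq (f₁ f₂ f₃ : ℕ → ℕ) (m k : ℕ) :
    word f₁ f₂ f₃ m k = wordB f₁ f₂ f₃ (m.testBit 0) (m.testBit 1) (m.testBit 2) k := rfl

theorem exists_m : ∀ a b c : Bool, ∃ m < 8, m.testBit 0 = a ∧ m.testBit 1 = b ∧ m.testBit 2 = c ∧
    (m = 0 → a = false ∧ b = false ∧ c = false) := by decide +kernel

open Classical in
/-- The bit that tells whether `x` moves `c`. -/
noncomputable def mv {G : Type*} [Group G] (c x : G) : ZMod 2 := if x * c * x⁻¹ = c then 0 else 1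

theorem mv_zero_iff {G : Type*} [Group G] {c x : G} : mv c x = 0 ↔ x * c * x⁻¹ = c := by
  rw [mv]; split
  · simp [*]
  · simp [*]

theorem mv_one {G : Type*} [Group G] (c : G) : mv c 1 = 0 := mv_zero_iff.2 (by group)

theorem mv_mul {G : Type*} [Group G] {c z x y : G} (hz : z ≠ 1) (hz2 : z * z = 1) (hx : x * z = z * x)
    (hxc : x * c * x⁻¹ = c ∨ x * c * x⁻¹ = c * z) (hyc : y * c * y⁻¹ = c ∨ y * c * y⁻¹ = c * z) :
    (x * y * c * (x * y)⁻¹ = c ∨ x * y * c * (x * y)⁻¹ = c * z) ∧ mv c (x * y) = mv c x + mv c y := by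
  have key : x * y * c * (x * y)⁻¹ = x * (y * c * y⁻¹) * x⁻¹ := by group
  have hcz : c * z ≠ c := fun h => hz (mul_eq_left.1 h)
  have hxz : x * z * x⁻¹ = z := by rw [hx, mul_inv_cancel_right]
  rcases hyc with h | h <;> rcases hxc with h' | h'
  · have e : x * y * c * (x * y)⁻¹ = c := by rw [key, h, h']
    refine ⟨Or.inl e, ?_⟩
    rw [mv, mv, mv, if_pos e, if_pos h', if_pos h, add_zero]
  · have e : x * y * c * (x * y)⁻¹ = c * z := by rw [key, h, h']
    refine ⟨Or.inr e, ?_⟩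
    rw [mv, mv, mv, if_neg (e.trans_ne hcz), if_neg (h'.trans_ne hcz), if_pos h, add_zero]
  · have e : x * y * c * (x * y)⁻¹ = c * z := by rw [key, h, ← conj_mul, h', hxz]
    refine ⟨Or.inr e, ?_⟩
    rw [mv, mv, mv, if_neg (e.trans_ne hcz), if_pos h', if_neg (h.trans_ne hcz), zero_add]
  · have e : x * y * c * (x * y)⁻¹ = c := by rw [key, h, ← conj_mul, h', hxz, mul_assoc, hz2, mul_one]
    refine ⟨Or.inl e, ?_⟩
    rw [mv, mv, mv, if_pos e, if_neg (h'.trans_ne hcz), if_neg (h.trans_ne hcz)]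
    decide

namespace Inp.Inner

variable {G : Type*} [Group G] {I : Inp G} (D : I.Inner)

local notation "n₀" => D.F.n
local notation "p₀" => I.vel 2

theorem n_sq : n₀ * n₀ = 1 := by rw [D.F.sq_n, D.q0, I.vel_zero]

theorem n₂_sq : D.F.n₂ * D.F.n₂ = 1 := by rw [D.F.sq_n₂, D.q0, show swv 0 = 0 from rfl, I.vel_zero]

theorem nn_comm : n₀ * D.F.n₂ = D.F.n₂ * n₀ := by
  have h := D.F.sq_nn
  rw [D.d0, I.vel_zero] at h
  calc n₀ * D.F.n₂ = (n₀ * D.F.n₂)⁻¹ := (inv_eq_of_mul_eq_one_right h).symm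
    _ = D.F.n₂ * n₀ := by
      rw [mul_inv_rev, inv_eq_of_mul_eq_one_right D.n₂_sq, inv_eq_of_mul_eq_one_right D.n_sq]

theorem n_el {i : ℕ} (hi : i < 64) : n₀ * I.el false i = I.el false i * n₀ := by
  have hW : ∀ j < 64, inW j = true → n₀ * I.el false j = I.el false j * n₀ := fun j hj hjW => by
    have h := D.F.hn.conjW hj hjW
    rw [D.L0, (lapp_zero 0 (by norm_num)).2 _ (chk_W' j hj hjW).1, I.vel_zero, mul_one] at h
    exact mul_inv_eq_iff_eq_mul.1 h
  rcases chk_main.1 i hi with h | ⟨j, hj, hjW, rfl⟩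
  · exact hW i hi h
  · rw [← I.elF (by norm_num) (lt_192 hj), ← mul_assoc, ← D.comm_s, mul_assoc, hW j hj hjW, ← mul_assoc]

theorem n_e : n₀ * I.e * n₀⁻¹ = I.e * I.z := by rw [D.F.hn.moveE, I.vel_one]

theorem n_z : n₀ * I.z = I.z * n₀ := by
  have h := mul_inv_eq_iff_eq_mul.1 (D.F.hn.fixV 1 (by norm_num))
  rwa [I.vel_one] at h

theorem e_n : I.e * n₀ * I.e⁻¹ = n₀ * I.z := by
  rw [inv_eq_of_mul_eq_one_right I.e_sq, mul_assoc, mul_inv_eq_iff_eq_mul.1 D.n_e, ← mul_assoc, ← mul_assoc,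
    I.e_sq, one_mul, ← D.n_z]

theorem z_sq (_D : I.Inner) : I.z * I.z = 1 := by
  rw [← I.vel_one, I.vel_sq (by norm_num)]

theorem z_ne (_D : I.Inner) : I.z ≠ 1 := fun h => by
  rw [← I.vel_one, ← I.vel_zero] at h
  exact absurd (I.vel_inj (by norm_num) (by norm_num) h) (by norm_num)

/-- The conditions defining the group `H`. -/
structure InH (x : G) : Prop where
  cz : x * I.z = I.z * x
  cn : x * n₀ * x⁻¹ = n₀ ∨ x * n₀ * x⁻¹ = n₀ * I.z
  cp : x * p₀ * x⁻¹ = p₀ ∨ x * p₀ * x⁻¹ = p₀ * I.z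
  cR : ∀ r, I.InR r → I.InR (x * r * x⁻¹)

variable {D}

theorem InH.one : D.InH 1 :=
  ⟨by rw [one_mul, mul_one], Or.inl (by group), Or.inl (by group), fun r hr => by simpa using hr⟩

theorem InH.mul {x y : G} (hx : D.InH x) (hy : D.InH y) : D.InH (x * y) :=
  ⟨by rw [mul_assoc, hy.cz, ← mul_assoc, hx.cz, mul_assoc],
    (mv_mul D.z_ne D.z_sq hx.cz hx.cn hy.cn).1, (mv_mul D.z_ne D.z_sq hx.cz hx.cp hy.cp).1,
    fun r hr => by
      rw [show x * y * r * (x * y)⁻¹ = x * (y * r * y⁻¹) * x⁻¹ by group]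
      exact hx.cR _ (hy.cR r hr)⟩

theorem mvn_mul {x y : G} (hx : D.InH x) (hy : D.InH y) : mv n₀ (x * y) = mv n₀ x + mv n₀ y :=
  (mv_mul D.z_ne D.z_sq hx.cz hx.cn hy.cn).2

theorem mvp_mul {x y : G} (hx : D.InH x) (hy : D.InH y) : mv p₀ (x * y) = mv p₀ x + mv p₀ y :=
  (mv_mul D.z_ne D.z_sq hx.cz hx.cp hy.cp).2

theorem InH.fixV {x : G} (hx : D.InH x) (hp : mv p₀ x = 0) : ∀ u < 4, x * I.vel u * x⁻¹ = I.vel u := by
  have h1 : x * I.vel 1 * x⁻¹ = I.vel 1 := by rw [I.vel_one, hx.cz, mul_inv_cancel_right]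
  have h2 := mv_zero_iff.1 hp
  intro u hu
  interval_cases u
  · rw [I.vel_zero, mul_one, mul_inv_cancel]
  · exact h1
  · exact h2
  · rw [show I.vel 3 = I.vel 1 * p₀ from (I.vel_mul (a := 1) (b := 2) (by norm_num) (by norm_num)).symm,
      ← conj_mul, h1, h2]

variable (D) [Finite G]

/-- The group `H`. -/
def Hsub : Subgroup G :=
  M12Cent.ofClosed {x | D.InH x} InH.one fun _ ha _ hb => InH.mul ha hb

theorem mem_Hsub {x : G} : x ∈ D.Hsub ↔ D.InH x := Iff.rfl

variable {D}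

theorem InH.inv {x : G} (hx : D.InH x) : D.InH x⁻¹ := (D.Hsub).inv_mem hx

theorem mvn_conj {x y : G} (hx : D.InH x) (hy : D.InH y) : mv n₀ (x * y * x⁻¹) = mv n₀ y := by
  have h := mvn_mul hx hx.inv
  rw [mul_inv_cancel, mv_one] at h
  rw [mvn_mul (hx.mul hy) hx.inv, mvn_mul hx hy, add_comm (mv n₀ x), add_assoc, ← h, add_zero]

theorem mvp_conj {x y : G} (hx : D.InH x) (hy : D.InH y) : mv p₀ (x * y * x⁻¹) = mv p₀ y := by
  have h := mvp_mul hx hx.inv
  rw [mul_inv_cancel, mv_one] at h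
  rw [mvp_mul (hx.mul hy) hx.inv, mvp_mul hx hy, add_comm (mv p₀ x), add_assoc, ← h, add_zero]

variable (D)

theorem el_mem (b : Bool) {i : ℕ} (hi : i < 64) :
    D.InH (I.el b i) ∧ mv n₀ (I.el b i) = (bif b then 1 else 0) := by
  have hnb : ∀ y, n₀ * y = y * n₀ → y * n₀ * y⁻¹ = n₀ := fun y h => by rw [← h, mul_inv_cancel_right]
  have hef : I.el false i * n₀ * (I.el false i)⁻¹ = n₀ := hnb _ (D.n_el hi)
  have hcz := I.el_comm_z b (lt_192 hi)
  have hn : I.el b i * n₀ * (I.el b i)⁻¹ = (bif b then n₀ * I.z else n₀) := by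
    cases b
    · exact hef
    · rw [I.el_true_eq, show I.e * I.el false i * n₀ * (I.e * I.el false i)⁻¹ =
        I.e * (I.el false i * n₀ * (I.el false i)⁻¹) * I.e⁻¹ by group, hef, D.e_n]
      rfl
  have hp : I.el b i * p₀ * (I.el b i)⁻¹ = p₀ ∨ I.el b i * p₀ * (I.el b i)⁻¹ = p₀ * I.z := by
    rw [← I.vel_one, I.vel_mul (by norm_num) (by norm_num), vel, show vi 2 = 6 from rfl, vel,
      show vi (2 ^^^ 1) = 9 from rfl, mul_inv_eq_iff_eq_mul, mul_inv_eq_iff_eq_mul,
      I.el_mul _ (lt_192 hi) _ (by norm_num), I.el_mul _ (by norm_num) _ (lt_192 hi),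
      I.el_mul _ (by norm_num) _ (lt_192 hi), Bool.xor_comm]
    rcases chk_main.2.1 i hi with h | h
    · exact Or.inl (by rw [h])
    · exact Or.inr (by rw [h])
  have hperm : ∀ u < 4, ∃ u' < 4, I.el b i * I.vel u * (I.el b i)⁻¹ = I.vel u' := by
    have h1 : I.el b i * I.vel 1 * (I.el b i)⁻¹ = I.vel 1 := by rw [I.vel_one, hcz, mul_inv_cancel_right]
    have h2 : ∃ u' < 4, I.el b i * p₀ * (I.el b i)⁻¹ = I.vel u' := by
      rcases hp with h | h
      · exact ⟨2, by norm_num, h⟩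
      · exact ⟨2 ^^^ 1, by decide, by rw [h, ← I.vel_one, I.vel_mul (by norm_num) (by norm_num)]⟩
    intro u hu
    interval_cases u
    · exact ⟨0, by norm_num, by rw [I.vel_zero, mul_one, mul_inv_cancel]⟩
    · exact ⟨1, by norm_num, h1⟩
    · exact h2
    · obtain ⟨u', hu', he⟩ := h2
      refine ⟨1 ^^^ u', xor_lt_four _ (by norm_num) _ hu', ?_⟩
      rw [show I.vel 3 = I.vel 1 * p₀ from (I.vel_mul (a := 1) (b := 2) (by norm_num) (by norm_num)).symm,
        ← conj_mul, h1, he, I.vel_mul (by norm_num) hu']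
  refine ⟨⟨hcz, ?_, hp, ?_⟩, ?_⟩
  · rw [hn]; cases b
    · exact Or.inl rfl
    · exact Or.inr rfl
  · intro r hr
    set x := I.el b i
    have hex : x⁻¹ * I.e * x = I.e := by rw [mul_assoc, ← I.el_comm_e, inv_mul_cancel_left]
    refine ⟨fun u hu => ?_, ?_⟩
    · obtain ⟨u', hu', he⟩ := hperm u hu
      have hxx : I.el b i * I.el b i = I.el false (T i i) := by
        rw [I.el_mul _ (lt_192 hi) _ (lt_192 hi), Bool.xor_self]
      obtain ⟨u'', hu'', he'⟩ := hperm u' hu'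
      have hkey : x⁻¹ * I.vel u * x = I.vel u' := by
        have h1 : x * (x * I.vel u * x⁻¹) * x⁻¹ = I.vel u := by
          rw [he]
          have hh : u' = u ∨ x * I.vel u' * x⁻¹ = I.vel u := by
            have h1' : x * I.vel 1 * x⁻¹ = I.vel 1 := by rw [I.vel_one, hcz, mul_inv_cancel_right]
            have e3 : I.vel 3 = p₀ * I.z := by
              rw [← I.vel_one, I.vel_mul (by norm_num) (by norm_num)]; rfl
            have h3 : x * I.vel 3 * x⁻¹ = x * p₀ * x⁻¹ * I.z := by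
              rw [e3, ← conj_mul, ← I.vel_one, h1']
            rcases hp with h | h
            · refine Or.inl (I.vel_inj hu' hu (he.symm.trans ?_))
              interval_cases u
              · rw [I.vel_zero, mul_one, mul_inv_cancel]
              · exact h1'
              · exact h
              · rw [h3, h, ← e3]
            · interval_cases u
              · exact Or.inl (I.vel_inj hu' hu (he.symm.trans (by rw [I.vel_zero, mul_one, mul_inv_cancel])))
              · exact Or.inl (I.vel_inj hu' hu (he.symm.trans h1'))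
              · refine Or.inr ?_
                rw [I.vel_inj hu' (show 3 < 4 by norm_num) (he.symm.trans (h.trans e3.symm)), h3, h,
                  mul_assoc, D.z_sq, mul_one]
              · refine Or.inr ?_
                rw [h3, h, mul_assoc, D.z_sq, mul_one] at he
                rw [I.vel_inj hu' (show 2 < 4 by norm_num) he.symm, h, e3]
          rcases hh with h | h
          · rw [h] at he ⊢; exact he
          · exact h
        calc x⁻¹ * I.vel u * x = x⁻¹ * (x * (x * I.vel u * x⁻¹) * x⁻¹) * x := by rw [h1]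
          _ = x * I.vel u * x⁻¹ := by group
          _ = I.vel u' := he
      calc x * r * x⁻¹ * I.vel u * (x * r * x⁻¹)⁻¹ = x * (r * (x⁻¹ * I.vel u * x) * r⁻¹) * x⁻¹ := by group
        _ = x * (x⁻¹ * I.vel u * x) * x⁻¹ := by rw [hkey, hr.1 u' hu']
        _ = _ := by group
    · obtain ⟨v, hv, he⟩ := hr.2
      obtain ⟨v', hv', he'⟩ := hperm v hv
      refine ⟨v', hv', ?_⟩
      calc x * r * x⁻¹ * I.e * (x * r * x⁻¹)⁻¹ = x * (r * (x⁻¹ * I.e * x) * r⁻¹) * x⁻¹ := by group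
        _ = _ := by rw [hex, he, ← conj_mul, he', I.el_comm_e, mul_inv_cancel_right]
  · rw [mv, hn]
    cases b
    · rw [cond_false, cond_false, if_pos rfl]
    · rw [cond_true, cond_true, if_neg fun h => D.z_ne (mul_eq_left.1 h)]

theorem e_mem : D.InH I.e ∧ mv n₀ I.e = 1 ∧ mv p₀ I.e = 0 := by
  have h := D.el_mem true (i := 0) (by norm_num)
  rw [I.el_e] at h
  refine ⟨h.1, h.2, mv_zero_iff.2 ?_⟩
  rw [vel, ← I.el_comm_e, mul_inv_cancel_right]

/-- Elements moving `e` in the plane are in `H`, the point giving the action on the translation. -/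
theorem coset_mem {k : ℕ} {x : G} (hk : k < 64) (h : D.F.Coset k x) :
    D.InH x ∧ mv p₀ x = 0 ∧ mv n₀ x = (bif k.testBit 0 then 1 else 0) := by
  obtain ⟨hR, -⟩ := D.F.coset_inR hk h
  have hz : x * I.z = I.z * x := by
    have := mul_inv_eq_iff_eq_mul.1 (hR.1 1 (by norm_num))
    rwa [I.vel_one] at this
  have hn : x * n₀ * x⁻¹ = (bif k.testBit 0 then n₀ * I.z else n₀) := by
    obtain ⟨u, hu, rfl⟩ := h
    set l := k / 2 % 8
    obtain ⟨hr, -, -⟩ := chk_rep l (Nat.mod_lt _ (by norm_num))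
    set c := I.el (k.testBit 0) (rep l) with hc
    have hvn : n₀ * I.vel u = I.vel u * n₀ := D.n_el (chk_vi u hu).1
    have hcn : c * n₀ * c⁻¹ = (bif k.testBit 0 then n₀ * I.z else n₀) := by
      have hef : I.el false (rep l) * n₀ * (I.el false (rep l))⁻¹ = n₀ := by
        rw [← D.n_el hr, mul_inv_cancel_right]
      rw [hc]
      cases k.testBit 0
      · exact hef
      · rw [I.el_true_eq, show I.e * I.el false (rep l) * n₀ * (I.e * I.el false (rep l))⁻¹ =
          I.e * (I.el false (rep l) * n₀ * (I.el false (rep l))⁻¹) * I.e⁻¹ by group, hef, D.e_n]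
        rfl
    set A := D.F.tr ((k / 16).testBit 0) ((k / 16).testBit 1) with hA
    have hAn : A * n₀ = n₀ * A := by
      rw [hA]
      cases (k / 16).testBit 0 <;> cases (k / 16).testBit 1 <;> simp only [Frame.tr, cond_true, cond_false]
      · rw [one_mul, one_mul, mul_one]
      · rw [one_mul, ← D.nn_comm]
      · rw [mul_one]
      · rw [mul_assoc, ← D.nn_comm]
    have hAz : A * I.z * A⁻¹ = I.z := by
      rw [← I.vel_one]; exact (D.F.shift_tr _ _).fixV 1 (by norm_num)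
    calc D.F.elt k * I.vel u * n₀ * (D.F.elt k * I.vel u)⁻¹
        = A * (c * (I.vel u * n₀ * (I.vel u)⁻¹) * c⁻¹) * A⁻¹ := by
          rw [Frame.elt, ← hA, ← hc]; group
      _ = A * (bif k.testBit 0 then n₀ * I.z else n₀) * A⁻¹ := by rw [← hvn, mul_inv_cancel_right, hcn]
      _ = _ := by
        cases k.testBit 0
        · simp only [cond_false]; rw [hAn, mul_inv_cancel_right]
        · simp only [cond_true]; rw [← conj_mul, hAz, hAn, mul_inv_cancel_right]
  refine ⟨⟨hz, ?_, Or.inl (hR.1 2 (by norm_num)), fun r hr => ?_⟩, mv_zero_iff.2 (hR.1 2 (by norm_num)), ?_⟩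
  · rw [hn]; cases k.testBit 0
    · exact Or.inl rfl
    · exact Or.inr rfl
  · obtain ⟨j, hj, hjr⟩ := D.F.exists_coset hr
    have hi : I.InR x⁻¹ := ⟨fun u hu => by
        rw [inv_inv]
        conv_lhs => rw [← hR.1 u hu]
        group, by
      obtain ⟨v, hv, he⟩ := hR.2
      refine ⟨v, hv, ?_⟩
      have h2 : x * (I.e * I.vel v) * x⁻¹ = I.e := by
        rw [← conj_mul, he, hR.1 v hv, mul_assoc, I.vel_sq hv, mul_one]
      rw [inv_inv]
      conv_lhs => rw [← h2]
      group⟩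
    obtain ⟨l, hl, hlx⟩ := D.F.exists_coset hi
    exact (D.F.coset_inR (fused_xor_lt_64 (fused_xor_lt_64 hk hj) hl)
      (D.F.coset_mul (fused_xor_lt_64 hk hj) hl (D.F.coset_mul hk hj h hjr) hlx)).1
  · rw [mv, hn]
    cases k.testBit 0
    · rw [cond_false, cond_false, if_pos rfl]
    · rw [cond_true, cond_true, if_neg fun h => D.z_ne (mul_eq_left.1 h)]

theorem elt_one : D.F.elt 1 = I.e := by
  rw [Frame.elt, show Nat.testBit (1 / 16) 0 = false from rfl, show Nat.testBit (1 / 16) 1 = false from rfl,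
    show Nat.testBit 1 0 = true from rfl, show rep (1 / 2 % 8) = 0 from rfl, I.el_e]
  simp [Frame.tr]

theorem coset_one_zero : D.F.Coset 0 1 := by
  refine ⟨0, by norm_num, ?_⟩
  rw [I.vel_zero, mul_one, Frame.elt, show Nat.testBit (0 / 16) 0 = false from rfl,
    show Nat.testBit (0 / 16) 1 = false from rfl,
    show rep (0 / 2 % 8) = 0 from rfl, I.el_zero]
  simp [Frame.tr]

/-- An element of `H` centralizing the plane and the translation, with its map of the points. -/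
structure Step (t : G) (f : ℕ → ℕ) : Prop where
  mem : D.InH t
  cn : mv n₀ t = 0
  cp : mv p₀ t = 0
  lt : ∀ k < 64, f k < 64
  map : ∀ k < 64, ∀ x, D.F.Coset k x → D.F.Coset (f k) (t * x * t⁻¹)

theorem step_mv {c : ℕ} {t : G} {f : ℕ → ℕ} (hc : c ∈ [1, 2, 3]) (M : I.Mv D.F c t f) (h16 : f 16 = 16) :
    D.Step t f ∧ t * t = 1 ∧ ∀ k < 64, f (f k) = k := by
  obtain ⟨h2, hn, hf⟩ := D.mv_spec hc M h16
  have hnn : t * n₀ * t⁻¹ = n₀ := by rw [hn, mul_inv_cancel_right]
  have hp := M.mover.fixV 2 (by norm_num)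
  have hz := mul_inv_eq_iff_eq_mul.1 (M.mover.fixV 1 (by norm_num))
  rw [I.vel_one] at hz
  exact ⟨⟨⟨hz, Or.inl hnn, Or.inl hp, M.inR⟩, mv_zero_iff.2 hnn, mv_zero_iff.2 hp, M.tmap.lt, M.map⟩,
    h2, hf⟩

variable {D}

theorem Step.one : D.Step 1 id :=
  ⟨InH.one, mv_one _, mv_one _, fun _ hk => hk, fun k _ x hx => by simpa using hx⟩

theorem Step.mul {t s : G} {f g : ℕ → ℕ} (ht : D.Step t f) (hs : D.Step s g) : D.Step (t * s) (f ∘ g) :=
  ⟨ht.mem.mul hs.mem, by rw [mvn_mul ht.mem hs.mem, ht.cn, hs.cn, add_zero],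
    by rw [mvp_mul ht.mem hs.mem, ht.cp, hs.cp, add_zero], fun k hk => ht.lt _ (hs.lt k hk),
    fun k hk x hx => by
      rw [show t * s * x * (t * s)⁻¹ = t * (s * x * s⁻¹) * t⁻¹ by group]
      exact ht.map _ (hs.lt k hk) _ (hs.map k hk x hx)⟩

theorem Step.pick {t : G} {f : ℕ → ℕ} (h : D.Step t f) (b : Bool) :
    D.Step (bif b then t else 1) (bif b then f else id) := by
  cases b
  · exact Step.one
  · exact h

variable (D)

/-- The product of movers given by three bits. -/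
def tb (a b c : Bool) : G :=
  (bif c then D.t₃ else 1) * (bif b then D.t₂ else 1) * (bif a then D.t₁ else 1)

theorem step_tb (a b c : Bool) : D.Step (D.tb a b c) (wordB D.f₁ D.f₂ D.f₃ a b c) := by
  have h1 := ((D.step_mv (c := 3) (by simp) D.m₃ D.facts.fix₃.1).1.pick c).mul
    ((D.step_mv (c := 2) (by simp) D.m₂ D.facts.fix₂.1).1.pick b)
  have h2 := h1.mul ((D.step_mv (c := 1) (by simp) D.m₁ D.facts.fix₁.1).1.pick a)
  refine ⟨h2.mem, h2.cn, h2.cp, fun k hk => ?_, fun k hk x hx => ?_⟩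
  · have := h2.lt k hk
    cases a <;> cases b <;> cases c <;> exact this
  · have := h2.map k hk x hx
    cases a <;> cases b <;> cases c <;> exact this

theorem reach_word {k : ℕ} (h : Reach D.f₁ D.f₂ D.f₃ k) :
    ∃ a b c, wordB D.f₁ D.f₂ D.f₃ a b c 1 = k := by
  obtain ⟨s1, -, i1⟩ := D.step_mv (c := 1) (by simp) D.m₁ D.facts.fix₁.1
  obtain ⟨s2, -, i2⟩ := D.step_mv (c := 2) (by simp) D.m₂ D.facts.fix₂.1
  obtain ⟨s3, -, i3⟩ := D.step_mv (c := 3) (by simp) D.m₃ D.facts.fix₃.1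
  have h1 : (1 : ℕ) < 64 := by norm_num
  induction h with
  | e => exact ⟨false, false, false, rfl⟩
  | @one k _ ih =>
    obtain ⟨a, b, c, rfl⟩ := ih
    refine ⟨!a, b, c, ?_⟩
    cases a <;> cases b <;> cases c <;>
      simp [wordB, i1, (D.facts.comm _ h1).1, (D.facts.comm _ h1).2.1, (D.facts.comm _ (s2.lt 1 h1)).2.1,
        (D.facts.comm _ (s1.lt 1 h1)).1, (D.facts.comm _ (s1.lt 1 h1)).2.1,
        (D.facts.comm _ (s2.lt _ (s1.lt 1 h1))).2.1]
  | @two k _ ih =>
    obtain ⟨a, b, c, rfl⟩ := ih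
    refine ⟨a, !b, c, ?_⟩
    cases a <;> cases b <;> cases c <;>
      simp [wordB, i2, h1, s1.lt 1 h1, (D.facts.comm _ h1).2.2, (D.facts.comm _ (s1.lt 1 h1)).2.2,
        (D.facts.comm _ (s2.lt 1 h1)).2.2, (D.facts.comm _ (s2.lt _ (s1.lt 1 h1))).2.2]
  | @three k _ ih =>
    obtain ⟨a, b, c, rfl⟩ := ih
    refine ⟨a, b, !c, ?_⟩
    cases a <;> cases b <;> cases c <;>
      simp [wordB, i3, h1, s1.lt 1 h1, s2.lt 1 h1, s2.lt _ (s1.lt 1 h1)]

/-- The element is in the coset of a translation of the plane. -/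
def Pc (x : G) : Prop := ∃ p < 64, p % 16 = 0 ∧ D.F.Coset p x

theorem Pc_one : D.Pc 1 := ⟨0, by norm_num, rfl, D.coset_one_zero⟩

variable {D}

theorem Pc.mul {x y : G} (hx : D.Pc x) (hy : D.Pc y) : D.Pc (x * y) := by
  obtain ⟨p, hp, hp0, hpx⟩ := hx
  obtain ⟨q, hq, hq0, hqy⟩ := hy
  exact ⟨_, fused_xor_lt_64 hp hq, (chk_mod p hp q hq).1 hp0 hq0, D.F.coset_mul hp hq hpx hqy⟩

theorem Pc.conj_pick {t : G} {f : ℕ → ℕ} {c : ℕ} (hc : c ∈ [1, 2, 3]) (M : I.Mv D.F c t f)
    (hf : f 16 = 16 ∧ f 32 = 32) (b : Bool) {x : G} (hx : D.Pc x) :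
    D.Pc ((bif b then t else 1) * x * (bif b then t else 1)⁻¹) := by
  obtain ⟨p, hp, hp0, hpx⟩ := hx
  cases b
  · exact ⟨p, hp, hp0, by simpa using hpx⟩
  · refine ⟨f p, M.tmap.lt p hp, ?_, M.map p hp x hpx⟩
    have h0 : f 0 = 0 := by
      have := M.tmap.xor 0 (by norm_num) 0 (by norm_num)
      simpa using this
    rcases (chk_mod p hp p hp).2.2 hp0 with rfl | rfl | rfl | rfl
    · rw [h0]
    · rw [hf.1]
    · rw [hf.2]
    · rw [show (48 : ℕ) = 16 ^^^ 32 from rfl, M.tmap.xor 16 (by norm_num) 32 (by norm_num), hf.1, hf.2]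
      rfl

variable (D)

theorem pair_sq {c c' : ℕ} {t t' : G} {f f' : ℕ → ℕ} (hc : c ∈ [1, 2, 3]) (hc' : c' ∈ [1, 2, 3])
    (M : I.Mv D.F c t f) (M' : I.Mv D.F c' t' f') (h16 : f 16 = 16) (h16' : f' 16 = 16)
    (hcm : ∀ k < 64, f (f' k) = f' (f k)) (hpair : ∀ k < 64, f k = k → f' k = k → k % 16 = 0) :
    D.Pc (t * t' * (t * t')) := by
  obtain ⟨S, ht2, hf⟩ := D.step_mv hc M h16
  obtain ⟨S', ht2', hf'⟩ := D.step_mv hc' M' h16'
  have Sy := (S.mul S').mul (S.mul S')
  set y := t * t' * (t * t') with hy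
  have h1 : ∀ k < 64, f (f' (f (f' k))) = k := fun k hk => by
    rw [hcm k hk, hf' _ (S.lt k hk), hf k hk]
  have hye := Sy.map 1 (by norm_num) _ D.F.coset_elt
  simp only [Function.comp_apply] at hye
  rw [h1 1 (by norm_num), D.elt_one] at hye
  have hR : I.InR y := by
    refine ⟨InH.fixV Sy.mem Sy.cp, ?_⟩
    obtain ⟨u, hu, he⟩ := hye
    exact ⟨u, hu, by rw [he, D.elt_one]⟩
  obtain ⟨p, hp, hpy⟩ := D.F.exists_coset hR
  obtain ⟨p', hp', hpy'⟩ := D.F.exists_coset (x := y⁻¹) ⟨fun u hu => by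
      rw [inv_inv]
      conv_lhs => rw [← hR.1 u hu]
      group, by
    obtain ⟨v, hv, he⟩ := hR.2
    refine ⟨v, hv, ?_⟩
    have h2 : y * (I.e * I.vel v) * y⁻¹ = I.e := by
      rw [← conj_mul, he, hR.1 v hv, mul_assoc, I.vel_sq hv, mul_one]
    rw [inv_inv]
    conv_lhs => rw [← h2]
    group⟩
  have hpp : p = p' := by
    have h3 := D.F.coset_mul hp hp' hpy hpy'
    rw [mul_inv_cancel] at h3
    exact (chk_mod p hp p' hp').2.1 (D.F.coset_unique (fused_xor_lt_64 hp hp') (by norm_num) h3 D.coset_one_zero)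
  have hti : t⁻¹ = t := inv_eq_of_mul_eq_one_right ht2
  have hti' : t'⁻¹ = t' := inv_eq_of_mul_eq_one_right ht2'
  have hyi : y⁻¹ = t' * t * (t' * t) := by rw [hy, mul_inv_rev, mul_inv_rev, hti, hti']
  have e1 : t * y * t⁻¹ = y⁻¹ := by
    rw [hyi, hti, hy]; simp only [← mul_assoc]; rw [ht2, one_mul]
  have e2 : t' * y⁻¹ * t'⁻¹ = y := by
    rw [hyi, hti', hy]; simp only [← mul_assoc]; rw [ht2', one_mul]
  have f1 : f p = p := by
    have := S.map p hp y hpy
    rw [e1] at this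
    exact (D.F.coset_unique (S.lt p hp) hp' this hpy').trans hpp.symm
  have f2 : f' p = p := by
    have := S'.map p' hp' _ hpy'
    rw [e2, ← hpp] at this
    exact D.F.coset_unique (S'.lt p hp) hp this hpy
  exact ⟨p, hp, hpair p hp f1 f2, hpy⟩

theorem tb_sq (a b c : Bool) : D.Pc (D.tb a b c * D.tb a b c) := by
  obtain ⟨-, q1, -⟩ := D.step_mv (c := 1) (by simp) D.m₁ D.facts.fix₁.1
  obtain ⟨-, q2, -⟩ := D.step_mv (c := 2) (by simp) D.m₂ D.facts.fix₂.1
  obtain ⟨-, q3, -⟩ := D.step_mv (c := 3) (by simp) D.m₃ D.facts.fix₃.1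
  set A := bif c then D.t₃ else 1 with hA
  set B := bif b then D.t₂ else 1 with hB
  set C := bif a then D.t₁ else 1 with hC
  have hA2 : A * A = 1 := by rw [hA]; cases c; exacts [mul_one 1, q3]
  have hB2 : B * B = 1 := by rw [hB]; cases b; exacts [mul_one 1, q2]
  have hC2 : C * C = 1 := by rw [hC]; cases a; exacts [mul_one 1, q1]
  have cA : ∀ x, D.Pc x → D.Pc (A * x * A⁻¹) := fun x hx =>
    hx.conj_pick (c := 3) (by simp) D.m₃ D.facts.fix₃ c
  have cB : ∀ x, D.Pc x → D.Pc (B * x * B⁻¹) := fun x hx =>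
    hx.conj_pick (c := 2) (by simp) D.m₂ D.facts.fix₂ b
  have cC : ∀ x, D.Pc x → D.Pc (C * x * C⁻¹) := fun x hx =>
    hx.conj_pick (c := 1) (by simp) D.m₁ D.facts.fix₁ a
  have hAB : D.Pc (A * B * (A * B)) := by
    rw [hA, hB]; cases c <;> cases b <;> simp only [cond_true, cond_false, one_mul, mul_one]
    · exact D.Pc_one
    · rw [q2]; exact D.Pc_one
    · rw [q3]; exact D.Pc_one
    · exact D.pair_sq (c := 3) (c' := 2) (by simp) (by simp) D.m₃ D.m₂ D.facts.fix₃.1 D.facts.fix₂.1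
        (fun k hk => (D.facts.comm k hk).2.2.symm)
        (fun k hk h h' => D.facts.pair k hk (Or.inr (Or.inr ⟨h', h⟩)))
  have hAC : D.Pc (A * C * (A * C)) := by
    rw [hA, hC]; cases c <;> cases a <;> simp only [cond_true, cond_false, one_mul, mul_one]
    · exact D.Pc_one
    · rw [q1]; exact D.Pc_one
    · rw [q3]; exact D.Pc_one
    · exact D.pair_sq (c := 3) (c' := 1) (by simp) (by simp) D.m₃ D.m₁ D.facts.fix₃.1 D.facts.fix₁.1
        (fun k hk => (D.facts.comm k hk).2.1.symm)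
        (fun k hk h h' => D.facts.pair k hk (Or.inr (Or.inl ⟨h', h⟩)))
  have hBC : D.Pc (B * C * (B * C)) := by
    rw [hB, hC]; cases b <;> cases a <;> simp only [cond_true, cond_false, one_mul, mul_one]
    · exact D.Pc_one
    · rw [q1]; exact D.Pc_one
    · rw [q2]; exact D.Pc_one
    · exact D.pair_sq (c := 2) (c' := 1) (by simp) (by simp) D.m₂ D.m₁ D.facts.fix₂.1 D.facts.fix₁.1
        (fun k hk => (D.facts.comm k hk).1.symm)
        (fun k hk h h' => D.facts.pair k hk (Or.inl ⟨h', h⟩))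
  have hAi : A⁻¹ = A := inv_eq_of_mul_eq_one_right hA2
  have hBi : B⁻¹ = B := inv_eq_of_mul_eq_one_right hB2
  have hCi : C⁻¹ = C := inv_eq_of_mul_eq_one_right hC2
  have hca : C * A = A * C * (C * (A * C * (A * C)) * C⁻¹) := by
    calc C * A = (A * C)⁻¹ := by rw [mul_inv_rev, hAi, hCi]
      _ = A * (C * C) * (A * C * (A * C)) * C⁻¹ * (C * (A * C * (A * C)) * C⁻¹)⁻¹ *
          (C * (A * C * (A * C)) * C⁻¹) := by
        rw [hC2, mul_one, inv_mul_cancel_right]
        simp only [← mul_assoc, hA2, one_mul, hCi]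
        simp only [mul_assoc, hC2, mul_one, mul_inv_rev, hAi, hCi]
      _ = _ := by group
  have hcb : C * B = B * C * (C * (B * C * (B * C)) * C⁻¹) := by
    calc C * B = (B * C)⁻¹ := by rw [mul_inv_rev, hBi, hCi]
      _ = B * (C * C) * (B * C * (B * C)) * C⁻¹ * (C * (B * C * (B * C)) * C⁻¹)⁻¹ *
          (C * (B * C * (B * C)) * C⁻¹) := by
        rw [hC2, mul_one, inv_mul_cancel_right]
        simp only [← mul_assoc, hB2, one_mul, hCi]
        simp only [mul_assoc, hC2, mul_one, mul_inv_rev, hBi, hCi]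
      _ = _ := by group
  set p₁ := C * (A * C * (A * C)) * C⁻¹ with hp₁
  set p₂ := C * (B * C * (B * C)) * C⁻¹ with hp₂
  have hP : D.Pc (p₂ * (B * p₁ * B⁻¹)) := (cC _ hBC).mul (cB _ (cC _ hAC))
  show D.Pc (A * B * C * (A * B * C))
  have e : A * B * C * (A * B * C) = A * B * (A * B) * (C * (p₂ * (B * p₁ * B⁻¹)) * C⁻¹) := by
    calc A * B * C * (A * B * C) = A * B * (C * A) * B * C := by group
      _ = A * B * A * (C * B) * (B⁻¹ * p₁ * B) * C := by rw [hca]; group
      _ = A * B * (A * B) * (C * (p₂ * (B * p₁ * B⁻¹)) * C⁻¹) := by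
        rw [hcb, hBi, hCi]; simp only [mul_assoc]
  rw [e]
  exact hAB.mul (cC _ hP)

theorem inR_of_coset_e {x : G} (hV : ∀ u < 4, x * I.vel u * x⁻¹ = I.vel u)
    (h : D.F.Coset 1 (x * I.e * x⁻¹)) : I.InR x := by
  obtain ⟨u, hu, he⟩ := h
  exact ⟨hV, u, hu, by rw [he, D.elt_one]⟩

theorem odd_of_mv {k : ℕ} (h : (bif k.testBit 0 then (1 : ZMod 2) else 0) = 1) : k % 2 = 1 := by
  rcases Nat.mod_two_eq_zero_or_one k with hk | hk
  · rw [Nat.testBit_zero, hk] at h; simp at h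
  · exact hk

theorem orbit_word {k : ℕ} {x : G} (hk : k < 64) (h : D.F.Coset k x) (hx2 : x * x = 1)
    (hx : mv n₀ x = 1) : ∃ a b c, wordB D.f₁ D.f₂ D.f₃ a b c 1 = k := by
  refine D.reach_word (D.facts.orbit k hk ?_ ?_)
  · exact odd_of_mv (((D.coset_mem hk h).2.2).symm.trans hx)
  · have hs := D.F.coset_sq hk h
    rw [hx2, D.L0, D.q0, D.d0, ← I.vel_zero] at hs
    have hlt : ∀ j < 64, sqm 0 0 0 j < 4 := by decide +kernel
    exact (I.vel_inj (by norm_num) (hlt k hk) hs).symm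

/-- An involution of `H` that moves the translation and fixes the plane is conjugate to `e` in `H`. -/
theorem conj_e {x : G} (hx : D.InH x) (hx2 : x * x = 1) (hn : mv n₀ x = 1) (hp : mv p₀ x = 0) :
    ∃ h, D.InH h ∧ h * I.e * h⁻¹ = x := by
  obtain ⟨heH, hen, -⟩ := D.e_mem
  have heR : I.InR I.e := ((D.F.coset_inR (by norm_num) (D.F.coset_elt (k := 1))).1 : _) |> fun h => by
    rwa [D.elt_one] at h
  have hR : I.InR x := by
    obtain ⟨k, hk, hkx⟩ := D.F.exists_coset (hx.cR _ heR)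
    obtain ⟨a, b, c, hw⟩ := D.orbit_word hk hkx (by rw [conj_mul, I.e_sq, mul_one, mul_inv_cancel])
      (by rw [mvn_conj hx heH, hen])
    set t := D.tb a b c with ht
    have St := D.step_tb a b c
    rw [← ht] at St
    have hte := St.map 1 (by norm_num) _ D.F.coset_elt
    rw [hw, D.elt_one] at hte
    obtain ⟨u, hu, he⟩ := hkx
    obtain ⟨u', hu', he'⟩ := hte
    have htV := InH.fixV St.mem St.cp
    have hxV := InH.fixV hx hp
    set r := t⁻¹ * x with hr
    have hx' : x * I.e * x⁻¹ = t * I.e * t⁻¹ * I.vel (u' ^^^ u) := by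
      rw [he, he', mul_assoc, I.vel_mul hu' (xor_lt_four _ hu' _ hu), ← Nat.xor_assoc, Nat.xor_self,
        Nat.zero_xor]
    have hrR : I.InR r := by
      refine ⟨fun v hv => ?_, u' ^^^ u, xor_lt_four _ hu' _ hu, ?_⟩
      · calc r * I.vel v * r⁻¹ = t⁻¹ * (x * I.vel v * x⁻¹) * t := by rw [hr]; group
          _ = _ := by rw [hxV v hv]; conv_lhs => rw [← htV v hv]
                      group
      · calc r * I.e * r⁻¹ = t⁻¹ * (x * I.e * x⁻¹) * t := by rw [hr]; group
          _ = _ := by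
            rw [hx', ← htV _ (xor_lt_four _ hu' _ hu), conj_mul]
            simp only [htV _ (xor_lt_four _ hu' _ hu)]
            group
    obtain ⟨j, hj, hjr⟩ := D.F.exists_coset hrR
    obtain ⟨hrH, -, hrn⟩ := D.coset_mem hj hjr
    have hxe : x = t * r := by rw [hr, mul_inv_cancel_left]
    have hodd : j % 2 = 1 := by
      refine odd_of_mv (hrn.symm.trans ?_)
      have h1 := mvn_mul St.mem hrH
      rw [← hxe, hn, St.cn, zero_add] at h1
      exact h1.symm
    obtain ⟨p, hp', hp0, hpt⟩ := D.tb_sq a b c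
    rw [← ht] at hpt
    have hid : t * r * t⁻¹ * (t * t) * r = 1 := by
      calc t * r * t⁻¹ * (t * t) * r = x * x := by rw [hxe]; group
        _ = 1 := hx2
    have hco := D.F.coset_mul (fused_xor_lt_64 (St.lt j hj) hp') hj
      (D.F.coset_mul (St.lt j hj) hp' (St.map j hj r hjr) hpt) hjr
    rw [hid] at hco
    have h0 := D.F.coset_unique (fused_xor_lt_64 (fused_xor_lt_64 (St.lt j hj) hp') hj) (by norm_num) hco D.coset_one_zero
    have hmod : (wordB D.f₁ D.f₂ D.f₃ a b c j ^^^ j) % 16 = 0 := by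
      rw [Nat.xor_assoc, Nat.xor_comm p, ← Nat.xor_assoc] at h0
      rw [(chk_mod _ (fused_xor_lt_64 (St.lt j hj) hj) p hp').2.1 h0, hp0]
    obtain ⟨m, hm, hm0, hm1, hm2, hmz⟩ := exists_m a b c
    by_cases hm' : m = 0
    · obtain ⟨rfl, rfl, rfl⟩ := hmz hm'
      have : t = 1 := by rw [ht]; simp [tb]
      rw [hxe, this, one_mul]
      exact hrR
    · exfalso
      refine D.facts.move m hm hm' j hj hodd ?_
      rw [word_eq, hm0, hm1, hm2]
      exact hmod
  obtain ⟨k, hk, hkx⟩ := D.F.exists_coset hR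
  obtain ⟨a, b, c, hw⟩ := D.orbit_word hk hkx hx2 hn
  set t := D.tb a b c with ht
  have St := D.step_tb a b c
  rw [← ht] at St
  have hte := St.map 1 (by norm_num) _ D.F.coset_elt
  rw [hw, D.elt_one] at hte
  obtain ⟨u, hu, he⟩ := hkx
  obtain ⟨u', hu', he'⟩ := hte
  have huu := xor_lt_four _ hu' _ hu
  set v := u' ^^^ u with hv
  have hS := D.F.shift_tr (v.testBit 0) (v.testBit 1)
  rw [← chk_two v huu] at hS
  obtain ⟨htr, -, -⟩ : D.InH (D.F.tr (v.testBit 0) (v.testBit 1)) ∧ True ∧ True := by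
    refine ⟨?_, trivial, trivial⟩
    obtain ⟨j, hj, hjc⟩ := D.F.exists_coset (x := D.F.tr (v.testBit 0) (v.testBit 1))
      ⟨hS.fixV, v, huu, hS.moveE⟩
    exact (D.coset_mem hj hjc).1
  refine ⟨t * D.F.tr (v.testBit 0) (v.testBit 1), St.mem.mul htr, ?_⟩
  calc t * D.F.tr (v.testBit 0) (v.testBit 1) * I.e * (t * D.F.tr (v.testBit 0) (v.testBit 1))⁻¹
      = t * (D.F.tr (v.testBit 0) (v.testBit 1) * I.e * (D.F.tr (v.testBit 0) (v.testBit 1))⁻¹) * t⁻¹ := by
        group
    _ = t * I.e * t⁻¹ * I.vel v := by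
        rw [hS.moveE, ← conj_mul, InH.fixV St.mem St.cp v huu]
    _ = x := by
        rw [he, he', mul_assoc, hv, I.vel_mul hu' huu, hv, ← Nat.xor_assoc, Nat.xor_self, Nat.zero_xor]

/-- The elements of `H` commuting with `e`. -/
theorem cent_H {x : G} (hx : D.InH x) (he : x * I.e = I.e * x) : ∃ b : Bool, ∃ i < 64, I.el b i = x := by
  obtain ⟨b, i, hi, rfl⟩ := I.mem_ez he hx.cz
  refine ⟨b, i, chk_main.2.2.1 i hi ?_, rfl⟩
  have h := hx.cp
  rw [← I.vel_one, I.vel_mul (by norm_num) (by norm_num), vel, show vi 2 = 6 from rfl, vel,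
    show vi (2 ^^^ 1) = 9 from rfl, mul_inv_eq_iff_eq_mul, mul_inv_eq_iff_eq_mul,
    I.el_mul _ hi _ (by norm_num), I.el_mul _ (by norm_num) _ hi, I.el_mul _ (by norm_num) _ hi] at h
  rcases h with h | h
  · exact Or.inl (I.el_inj (M12Cent.T_lt hi (by norm_num)) (M12Cent.T_lt (by norm_num) hi) h).2
  · exact Or.inr (I.el_inj (M12Cent.T_lt hi (by norm_num)) (M12Cent.T_lt (by norm_num) hi) h).2

theorem cent_T {y : G} (h : ∀ b : Bool, ∀ i < 64, y * I.el b i = I.el b i * y) :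
    y = 1 ∨ y = I.e ∨ y = I.z ∨ y = I.e * I.z := by
  obtain ⟨b, i, hi, rfl⟩ := I.mem_ez (x := y) (by rw [← I.el_e]; exact h true 0 (by norm_num))
    (by rw [← I.el_z]; exact h false 1 (by norm_num))
  rcases chk_main.2.2.2.1 i hi (fun j hj => (I.el_comm_iff hi (lt_192 hj)).1 (h false j hj)) with rfl | rfl
    <;> cases b
  · exact Or.inl I.el_zero
  · exact Or.inr (Or.inl I.el_e)
  · exact Or.inr (Or.inr (Or.inl I.el_z))
  · refine Or.inr (Or.inr (Or.inr ?_))
    rw [I.el_true, ← I.el_false, I.el_z]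

/-- The homomorphism of order two on `H`. -/
noncomputable def psi : D.Hsub →* Multiplicative (ZMod 2) where
  toFun x := Multiplicative.ofAdd (mv n₀ (x : G) + mv p₀ (x : G))
  map_one' := by
    show Multiplicative.ofAdd (mv n₀ (1 : G) + mv p₀ (1 : G)) = 1
    rw [mv_one, mv_one, add_zero, ofAdd_zero]
  map_mul' x y := by
    show Multiplicative.ofAdd (mv n₀ ((x : G) * y) + mv p₀ ((x : G) * y)) = _
    rw [mvn_mul x.2 y.2, mvp_mul x.2 y.2, ← ofAdd_add]
    congr 1
    abel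

/-- The condition on a coset representative. -/
def Good (g : G) : Prop := D.InH (g⁻¹ * I.e * g) ∧ mv n₀ (g⁻¹ * I.e * g) + mv p₀ (g⁻¹ * I.e * g) = 1

theorem good_mul {g h : G} (hh : D.InH h) (hg : D.Good g) : D.Good (g * h) := by
  have e : (g * h)⁻¹ * I.e * (g * h) = h⁻¹ * (g⁻¹ * I.e * g) * h⁻¹⁻¹ := by group
  rw [Good, e]
  refine ⟨(hh.inv.mul hg.1).mul hh.inv.inv, ?_⟩
  rw [mvn_conj hh.inv hg.1, mvp_conj hh.inv hg.1]
  exact hg.2

theorem oddCoset_iff {x : G ⧸ D.Hsub} : OddCoset D.Hsub D.psi I.e x ↔ D.Good x.out := by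
  constructor
  · rintro ⟨h, hh⟩
    refine ⟨h, ?_⟩
    have h2 : ∀ a : ZMod 2, Multiplicative.ofAdd a ≠ 1 → a = 1 := by decide
    exact h2 _ hh
  · rintro ⟨h, hh⟩
    refine ⟨h, fun h1 => ?_⟩
    change Multiplicative.ofAdd (mv n₀ (x.out⁻¹ * I.e * x.out) + mv p₀ (x.out⁻¹ * I.e * x.out)) = 1 at h1
    rw [hh] at h1
    exact absurd h1 (by decide)

theorem oddCoset_mk (g : G) : OddCoset D.Hsub D.psi I.e (QuotientGroup.mk g : G ⧸ D.Hsub) ↔ D.Good g := by
  rw [D.oddCoset_iff]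
  obtain ⟨h, hh⟩ := QuotientGroup.mk_out_eq_mul D.Hsub g
  rw [hh]
  refine ⟨fun hg => ?_, D.good_mul h.2⟩
  have := D.good_mul (InH.inv h.2) hg
  rwa [mul_inv_cancel_right] at this

/-- A coset that is fixed by `⟨e⟩ × S` and counts is the trivial one. -/
theorem fixed_coset (hne : ¬ IsConj I.e I.a) {g : G} (hg : D.Good g)
    (hT : ∀ b : Bool, ∀ i < 64, D.InH (g⁻¹ * I.el b i * g)) : g ∈ D.Hsub := by
  obtain ⟨hxH, hbits⟩ := hg
  set x := g⁻¹ * I.e * g with hx
  have hx2 : x * x = 1 := by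
    rw [hx, show g⁻¹ * I.e * g * (g⁻¹ * I.e * g) = g⁻¹ * (I.e * I.e) * g by group, I.e_sq]; group
  have hez : IsConj I.e (I.e * I.z) := isConj_iff.2 ⟨n₀, D.n_e⟩
  have hzT : ∀ k : G, (∀ b : Bool, ∀ i < 64, D.InH (k⁻¹ * I.el b i * k)) → k * I.z * k⁻¹ = I.z := by
    intro k hk
    rcases cent_T (I := I) (y := k * I.z * k⁻¹) (fun b i hi => by
      have h1 := (hk b i hi).cz
      calc k * I.z * k⁻¹ * I.el b i = k * (I.z * (k⁻¹ * I.el b i * k)) * k⁻¹ := by group
        _ = k * (k⁻¹ * I.el b i * k * I.z) * k⁻¹ := by rw [h1]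
        _ = _ := by group) with e | e | e | e
    · exact absurd (conj_eq_one_iff.1 e) D.z_ne
    · exact absurd (e ▸ M12Cent.isConj_conj k I.z).symm I.not_conj_z
    · exact e
    · exact absurd (hez.trans (e ▸ M12Cent.isConj_conj k I.z).symm) I.not_conj_z
  have two : ∀ a b : ZMod 2, a + b = 1 → a = 1 ∧ b = 0 ∨ a = 0 ∧ b = 1 := by decide
  rcases two _ _ hbits with ⟨ha, hs⟩ | ⟨ha, hs⟩
  · obtain ⟨h, hh, hhe⟩ := D.conj_e hxH hx2 ha hs
    set c := g * h with hc
    have hce : c * I.e = I.e * c := by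
      refine mul_inv_eq_iff_eq_mul.1 ?_
      calc c * I.e * c⁻¹ = g * (h * I.e * h⁻¹) * g⁻¹ := by rw [hc]; group
        _ = I.e := by rw [hhe, hx]; group
    have hcT : ∀ b : Bool, ∀ i < 64, D.InH (c⁻¹ * I.el b i * c) := fun b i hi => by
      rw [hc, show (g * h)⁻¹ * I.el b i * (g * h) = h⁻¹ * (g⁻¹ * I.el b i * g) * h by group]
      exact (hh.inv.mul (hT b i hi)).mul hh
    obtain ⟨b, i, hi, hci⟩ := I.mem_ez hce (mul_inv_eq_iff_eq_mul.1 (hzT c hcT))
    have hi64 : i < 64 := by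
      refine chk_main.2.2.2.2.1 i hi fun j hj => ?_
      obtain ⟨b', k, hk, hek⟩ := D.cent_H (hcT false j hj) (by
        have h2 := I.el_comm_e false j
        exact ((Commute.inv_left hce).mul_left h2).mul_left hce)
      refine ⟨k, hk, ?_⟩
      have h1 : I.el false j * I.el b i = I.el b i * I.el b' k := by rw [hek, hci]; group
      rw [I.el_mul _ (lt_192 hj) _ hi, I.el_mul _ hi _ (lt_192 hk)] at h1
      exact (I.el_inj (M12Cent.T_lt (lt_192 hj) hi) (M12Cent.T_lt hi (lt_192 hk)) h1).2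
    rw [show g = c * h⁻¹ by rw [hc, mul_inv_cancel_right]]
    exact mul_mem (hci ▸ (D.el_mem b hi64).1) (InH.inv hh)
  · exfalso
    have hgz := hzT g hT
    have hgz' : g⁻¹ * I.z * g = I.z := by
      conv_lhs => rw [← hgz]
      group
    by_cases hall : ∀ b : Bool, ∀ i < 64, mv n₀ (g⁻¹ * I.el b i * g) = 0
    · have hp0 : ∀ y, y * p₀ * y⁻¹ = p₀ → mv p₀ y = 0 := fun y h => mv_zero_iff.2 h
      have hnp : n₀ * p₀ * n₀⁻¹ = p₀ := D.F.hn.fixV 2 (by norm_num)
      rcases cent_T (I := I) (y := g * n₀ * g⁻¹) (fun b i hi => by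
        have h1 := mul_inv_eq_iff_eq_mul.1 (mv_zero_iff.1 (hall b i hi))
        calc g * n₀ * g⁻¹ * I.el b i = g * (n₀ * (g⁻¹ * I.el b i * g)) * g⁻¹ := by group
          _ = g * (g⁻¹ * I.el b i * g * n₀) * g⁻¹ := by rw [h1]
          _ = _ := by group) with e | e | e | e
      · have h1 := D.n_e
        rw [conj_eq_one_iff.1 e, one_mul, inv_one, mul_one] at h1
        exact D.z_ne (mul_eq_left.1 h1.symm)
      · have hnx : n₀ = x := by rw [hx, ← e]; group
        rw [← hnx, hp0 _ hnp] at hs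
        exact zero_ne_one hs
      · have hnz : n₀ = I.z := by rw [← hgz', ← e]; group
        have h1 := D.n_e
        rw [hnz, show I.z * I.e = I.e * I.z from I.comm _, mul_inv_cancel_right] at h1
        exact D.z_ne (mul_eq_left.1 h1.symm)
      · have hnx : n₀ = x * I.z := by
          rw [hx, show g⁻¹ * I.e * g * I.z = g⁻¹ * I.e * g * (g⁻¹ * I.z * g) by rw [hgz'],
            show g⁻¹ * I.e * g * (g⁻¹ * I.z * g) = g⁻¹ * (I.e * I.z) * g by group, ← e]
          group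
        have h1 : x * p₀ * x⁻¹ = p₀ := by
          have hzp : I.z * p₀ = p₀ * I.z := by
            rw [← I.vel_one, I.vel_mul (by norm_num) (by norm_num), I.vel_mul (by norm_num) (by norm_num),
              Nat.xor_comm]
          calc x * p₀ * x⁻¹ = x * (I.z * p₀ * I.z⁻¹) * x⁻¹ := by rw [hzp, mul_inv_cancel_right]
            _ = n₀ * p₀ * n₀⁻¹ := by rw [hnx]; group
            _ = p₀ := hnp
        rw [hp0 _ h1] at hs
        exact zero_ne_one hs
    · push Not at hall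
      obtain ⟨b, i, hi, hne'⟩ := hall
      have hex : ∃ b' : Bool, ∃ j < 64, T j j = 0 ∧ mv n₀ (g⁻¹ * I.el b' j * g) ≠ 0 := by
        by_contra hcon
        push Not at hcon
        obtain ⟨a', ha', b', hb', haa, hbb, rfl⟩ := chk_main.2.2.2.2.2.1 i hi
        refine hne' ?_
        have e1 : I.el b (T a' b') = I.el b 0 * I.el false a' * I.el false b' := by
          rw [I.el_mul _ (by norm_num) _ (lt_192 ha'), I.el_mul _ (M12Cent.T_lt (by norm_num) (lt_192 ha'))
            _ (lt_192 hb'), Bool.xor_false, Bool.xor_false,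
            show T 0 a' = a' from by
              have : ∀ a < 64, T 0 a = a := by decide +kernel
              exact this a' ha']
        rw [e1, show g⁻¹ * (I.el b 0 * I.el false a' * I.el false b') * g =
          g⁻¹ * I.el b 0 * g * (g⁻¹ * I.el false a' * g) * (g⁻¹ * I.el false b' * g) by group,
          mvn_mul ((hT b 0 (by norm_num)).mul (hT _ _ ha')) (hT _ _ hb'),
          mvn_mul (hT b 0 (by norm_num)) (hT _ _ ha'), hcon b 0 (by norm_num) (by decide +kernel),
          hcon false a' ha' haa, hcon false b' hb' hbb, add_zero, add_zero]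
      obtain ⟨b', j, hj, hjj, hmj⟩ := hex
      set y := g⁻¹ * I.el b' j * g with hy
      have hyH := hT b' j hj
      rw [← hy] at hyH
      have hy2 : y * y = 1 := by
        rw [hy, show g⁻¹ * I.el b' j * g * (g⁻¹ * I.el b' j * g) = g⁻¹ * (I.el b' j * I.el b' j) * g by group,
          I.el_mul _ (lt_192 hj) _ (lt_192 hj), hjj, Bool.xor_self, I.el_zero]
        group
      have hy1 : mv n₀ y = 1 := by
        have h2 : ∀ a : ZMod 2, a ≠ 0 → a = 1 := by decide
        exact h2 _ hmj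
      have hxy : x * y = y * x := by
        rw [hx, hy, show g⁻¹ * I.e * g * (g⁻¹ * I.el b' j * g) = g⁻¹ * (I.e * I.el b' j) * g by group,
          ← I.el_comm_e]
        group
      obtain ⟨w, hwH, hw2, hw1, hw0, hxw⟩ : ∃ w, D.InH w ∧ w * w = 1 ∧ mv n₀ w = 1 ∧ mv p₀ w = 0 ∧
          x * w = w * x := by
        have h01 : ∀ a : ZMod 2, a = 0 ∨ a = 1 := by decide
        rcases h01 (mv p₀ y) with h | h
        · exact ⟨y, hyH, hy2, hy1, h, hxy⟩
        · refine ⟨y * x, hyH.mul hxH, ?_, ?_, ?_, ?_⟩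
          · rw [show y * x * (y * x) = y * (x * y) * x by group, hxy,
              show y * (y * x) * x = y * y * (x * x) by group, hy2, hx2, one_mul]
          · rw [mvn_mul hyH hxH, hy1, ha, add_zero]
          · rw [mvp_mul hyH hxH, h, hs]; decide
          · rw [← mul_assoc, hxy]
      obtain ⟨h, hh, hhe⟩ := D.conj_e hwH hw2 hw1 hw0
      set x' := h⁻¹ * x * h with hx'
      have hx'H : D.InH x' := (hh.inv.mul hxH).mul hh
      have hx'e : x' * I.e = I.e * x' := by
        rw [← hhe] at hxw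
        calc x' * I.e = h⁻¹ * (x * (h * I.e * h⁻¹)) * h := by rw [hx']; group
          _ = h⁻¹ * (h * I.e * h⁻¹ * x) * h := by rw [hxw]
          _ = _ := by rw [hx']; group
      obtain ⟨b'', k, hk, hek⟩ := D.cent_H hx'H hx'e
      have hax : mv n₀ x' = 0 := by
        rw [hx', show h⁻¹ * x * h = h⁻¹ * x * h⁻¹⁻¹ by group, mvn_conj hh.inv hxH, ha]
      have hsx : mv p₀ x' = 1 := by
        rw [hx', show h⁻¹ * x * h = h⁻¹ * x * h⁻¹⁻¹ by group, mvp_conj hh.inv hxH, hs]
      rw [← hek, (D.el_mem b'' hk).2] at hax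
      cases b''
      swap
      · exact one_ne_zero (hax : (1 : ZMod 2) = 0)
      have hx'2 : x' * x' = 1 := by
        rw [hx', show h⁻¹ * x * h * (h⁻¹ * x * h) = h⁻¹ * (x * x) * h by group, hx2]; group
      have hkk : T k k = 0 := by
        rw [← hek, I.elF (lt_192 hk) (lt_192 hk), ← I.el_zero] at hx'2
        exact (I.el_inj (M12Cent.T_lt (lt_192 hk) (lt_192 hk)) (by norm_num) hx'2).2
      have hconj : IsConj I.e (I.el false k) := by
        refine isConj_iff.2 ⟨h⁻¹ * g⁻¹, ?_⟩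
        rw [hek, hx', hx]; group
      rcases chk_syl.2.2.2.2.1 k hk hkk with rfl | hc | hc
      · rw [← hek, I.el_zero, mv_one] at hsx
        exact zero_ne_one hsx
      · exact I.not_conj_tc (lt_192 hk) hc hconj
      · exact hne (hconj.trans (I.conj_a (lt_192 hk) hc).symm)

include D in
/-- The transfer argument. -/
theorem false_of_residual (hne : ¬ IsConj I.e I.a) (hO : I.e ∈ pResidual 2 G) : False := by
  haveI : Fact (Nat.Prime 2) := ⟨Nat.prime_two⟩
  let α := {x : G ⧸ D.Hsub // OddCoset D.Hsub D.psi I.e x}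
  have hmem : ∀ (c : I.Tsub) (x : G ⧸ D.Hsub), OddCoset D.Hsub D.psi I.e x →
      OddCoset D.Hsub D.psi I.e ((c : G) • x) := by
    intro c x hx
    rw [← QuotientGroup.out_eq' x] at hx ⊢
    rw [D.oddCoset_mk] at hx
    rw [MulAction.Quotient.smul_mk, D.oddCoset_mk, smul_eq_mul]
    have e : ((c : G) * x.out)⁻¹ * I.e * ((c : G) * x.out) = x.out⁻¹ * I.e * x.out := by
      rw [show ((c : G) * x.out)⁻¹ * I.e * ((c : G) * x.out) =
        x.out⁻¹ * ((c : G)⁻¹ * (I.e * (c : G))) * x.out by group, ← (I.Tsub_comm c.2).1,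
        inv_mul_cancel_left]
    rw [Good, e]
    exact hx
  letI : MulAction I.Tsub α :=
    { smul := fun c x => ⟨(c : G) • x.1, hmem c x.1 x.2⟩
      one_smul := fun x => Subtype.ext (one_smul G x.1)
      mul_smul := fun c d x => Subtype.ext (mul_smul (c : G) (d : G) x.1) }
  have hfix : Nat.card (MulAction.fixedPoints I.Tsub α) = 1 := by
    obtain ⟨heH, hen, hep⟩ := D.e_mem
    have h1 : OddCoset D.Hsub D.psi I.e (QuotientGroup.mk (1 : G) : G ⧸ D.Hsub) := by
      rw [D.oddCoset_mk, Good, inv_one, one_mul, mul_one]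
      exact ⟨heH, by rw [hen, hep, add_zero]⟩
    rw [Nat.card_eq_one_iff_unique]
    refine ⟨⟨fun q q' => ?_⟩, ⟨⟨⟨_, h1⟩, ?_⟩⟩⟩
    · suffices key : ∀ q : MulAction.fixedPoints I.Tsub α, q.1.1 = (QuotientGroup.mk (1 : G) : G ⧸ D.Hsub) by
        exact Subtype.ext (Subtype.ext ((key q).trans (key q').symm))
      intro q
      obtain ⟨⟨x, hx⟩, hq⟩ := q
      show x = _
      have hg : x.out ∈ D.Hsub := by
        refine D.fixed_coset hne (D.oddCoset_iff.1 hx) fun b i hi => ?_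
        have h2 : (I.el b i) • x = x := congrArg Subtype.val (hq ⟨I.el b i, I.el_mem_Tsub b hi⟩)
        rw [← QuotientGroup.out_eq' x, MulAction.Quotient.smul_mk, eq_comm, QuotientGroup.eq,
          smul_eq_mul, ← mul_assoc] at h2
        exact h2
      rw [← QuotientGroup.out_eq' x, QuotientGroup.eq]
      simpa using (D.Hsub).inv_mem hg
    · rintro ⟨_, b, i, hi, rfl⟩
      refine Subtype.ext ?_
      show (I.el b i) • (QuotientGroup.mk (1 : G) : G ⧸ D.Hsub) = QuotientGroup.mk 1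
      rw [MulAction.Quotient.smul_mk, smul_eq_mul, mul_one, QuotientGroup.eq, mul_one]
      exact (D.Hsub).inv_mem (D.el_mem b hi).1
  have hmod := (IsPGroup.of_card I.card_Tsub).card_modEq_card_fixedPoints α
  rw [hfix] at hmod
  have heven := even_oddCoset D.Hsub D.psi I.e_sq hO
  rw [Nat.even_iff] at heven
  unfold Nat.ModEq at hmod
  rw [heven] at hmod
  norm_num at hmod

end Inner

variable {G : Type*} [Group G] [Finite G] (I : Inp G)

/-- An involution with centralizer `2 × M₁₂` in the subgroup generated by the elements of odd order is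
conjugate to an involution of the second factor. -/
theorem fused (hO : I.e ∈ pResidual 2 G) : IsConj I.e I.a := by
  by_contra hne
  by_cases h : 2 ^ 8 ∣ Nat.card G
  · obtain ⟨n, he, hz, hp⟩ := I.exists_ez h
    obtain ⟨D⟩ := I.exists_inner hne he hz hp
    exact D.false_of_residual hne hO
  · exact hne (I.conj_a_of_sylow hO h)

end Inp

end Cfsg.Agent.Co3Inv
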