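import Cfsg.Agent.Lib.Co3Inv.FusedShift

/-!
Recognition of the third Conway group, fusion of `e`: the elements of `M₁₂` permuting the plane act on the
cosets of the plane, and an element moving `e` to `e z` that fixes the plane is a shift.
-/

set_option autoImplicit false
set_option maxRecDepth 100000
set_option synthInstance.maxSize 10000

namespace Cfsg.Agent.Co3Inv

open Cfsg
open Cfsg.Agent.M12Cent (T cm nC inv2 isR isP isY setup₀)
open FusedModel (lapp qu swv swl)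

/-- The transposition of the codes of `p` and `tp`. -/
def svv (v : ℕ) : ℕ := v % 2 ^^^ v / 2 % 2 ||| 2 * (v / 2 % 2)

/-- Its action on the cosets. -/
def svl (l : ℕ) : ℕ := l % 2 + 2 * svv (l / 2 % 4)

/-- The code of a conjugated linear function. -/
def permL (pv pl : ℕ → ℕ) (L : ℕ) : ℕ :=
  pv (lapp L (pl 1)) + 4 * pv (lapp L (pl 2)) + 16 * pv (lapp L (pl 4))

/-- A pair of permutations of the plane and of its cosets. -/
structure PL (pv pl : ℕ → ℕ) : Prop where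
  v_lt : ∀ v < 4, pv v < 4
  v_inv : ∀ v < 4, pv (pv v) = v
  l_lt : ∀ l < 8, pl l < 8
  l_inv : ∀ l < 8, pl (pl l) = l
  add : ∀ a < 8, ∀ b < 8, pl (a ^^^ b) = pl a ^^^ pl b
  one : pl 1 = 1
  sq : ∀ l < 8, l % 2 = 0 → qu (pl l) = pv (qu l)
  perm : ∀ L < 64, permL pv pl L < 64 ∧ ∀ l < 8, lapp (permL pv pl L) l = pv (lapp L (pl l))

theorem pl_id : PL id id := by constructor <;> decide +kernel

theorem pl_sw : PL swv swl := by constructor <;> decide +kernel

theorem pl_sv : PL svv svl := by constructor <;> decide +kernel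

theorem chk_s16 : (∀ i < 64, inW i = true → ∃ j < 64, inW j = true ∧ lab j = svl (lab i) ∧ T 16 i = T j 16) ∧
    ∀ v < 4, T 16 (vi v) = T (vi (svv v)) 16 := by decide +kernel

theorem chk_gauge : ∀ L < 64, (∃ i < 64, inW i = true ∧ ∀ l < 8,
      lapp L l ^^^ swv (lapp L (swl l)) ^^^ svv (swv (lapp L (swl (svl l)))) = lapp (inn i) l) →
    ∃ j < 64, inW j = true ∧ (L ^^^ inn j = 0 ∨ L ^^^ inn j = FusedModel.outerL) := by decide +kernel

theorem chk_P : ∀ i < 192, isP i = true → ∃ w < 192, T w 6 = T i w := by decide +kernel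

theorem chk_decomp : ∀ i < 64, inW i = true → ∃ a ∈ [0, 1], ∃ b ∈ [0, 2, 4, 6], ∃ u < 4,
    i = T (T (rep a) (rep b)) (vi u) ∧ lab i = a ^^^ b := by decide +kernel

theorem chk_basis : ∀ l < 8, ∃ a ∈ [0, 1], ∃ b ∈ [0, 2], ∃ c ∈ [0, 4], ∃ u < 4,
    rep l = T (T (T (rep a) (rep b)) (rep c)) (vi u) ∧ l = a ^^^ b ^^^ c := by decide +kernel

theorem qu_inj : ∀ a < 8, ∀ b < 8, qu a = qu b → qu a ≠ 0 → a = b := by decide +kernel

theorem qu_pos : ∀ l ∈ [2, 4, 6], qu l ≠ 0 := by decide +kernel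

theorem chk_gen3 : ∀ i < 64, inW i = true → ∃ a < 64, ∃ b < 64, ∃ c < 64,
    ((a = 0 ∨ isTc a = true) ∧ inW a = true) ∧ ((b = 0 ∨ isTc b = true) ∧ inW b = true) ∧
    ((c = 0 ∨ isTc c = true) ∧ inW c = true) ∧ i = T (T a b) c := by decide +kernel

theorem chk_kinds : (∀ i < 64, inW i = true → T i i = 0 → i = 0 ∨ isTc i = true ∨ isR i = true) ∧
    (∀ i < 64, inW i = true → isR i = true → isR (T 1 i) = true ∧ inW (T 1 i) = true) ∧
    (∀ i < 64, isTc i = true → T i i = 0) ∧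
    (∀ j < 64, inW j = true → T j j = 0 → nC j = 16 → lab j = 1) ∧
    (∀ j < 64, inW j = true → T j j = 0 → j = 0 ∨ isTc j = true ∨ lab j = 1) ∧
    nC (rep 1) = 16 ∧ isR (rep 1) = true ∧ isP 6 = true ∧ inW 6 = true ∧ vi 2 = 6 := by decide +kernel

theorem inW_lt {i : ℕ} (h : inW i = true) : i < 64 := by
  rw [inW, Bool.and_eq_true, Nat.blt_eq] at h
  exact h.1

namespace Inp

variable {G : Type*} [Group G] (I : Inp G)

theorem elF {i j : ℕ} (hi : i < 192) (hj : j < 192) :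
    I.el false i * I.el false j = I.el false (T i j) := by rw [I.el_mul _ hi _ hj, Bool.xor_self]

/-- An element permuting the plane and its cosets. -/
structure Act (h : G) (pv pl : ℕ → ℕ) : Prop where
  V : ∀ u < 4, h * I.vel u * h⁻¹ = I.vel (pv u)
  W : ∀ i < 64, inW i = true → ∃ j < 64, inW j = true ∧ lab j = pl (lab i) ∧
    h * I.el false i * h⁻¹ = I.el false j

theorem act_of {h : G} {pv pl : ℕ → ℕ} (P : PL pv pl) (hV : ∀ u < 4, h * I.vel u * h⁻¹ = I.vel (pv u))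
    (hW : ∀ i < 64, inW i = true → ∃ j < 64, inW j = true ∧ h * I.el false i * h⁻¹ = I.el false j)
    (hR : ∀ j < 64, inW j = true → h * I.el false (rep 1) * h⁻¹ = I.el false j → lab j = 1) :
    I.Act h pv pl := by
  have base : ∀ l ∈ [0, 1, 2, 4, 6], ∃ j < 64, inW j = true ∧ lab j = pl l ∧
      h * I.el false (rep l) * h⁻¹ = I.el false j := by
    intro l hl
    have hl8 : l < 8 := by fin_cases hl <;> norm_num
    obtain ⟨j, hj, hjW, he⟩ := hW (rep l) (chk_rep l hl8).1 (chk_rep l hl8).2.1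
    obtain ⟨hlj, -, -, -⟩ := chk_W' j hj hjW
    refine ⟨j, hj, hjW, ?_, he⟩
    rcases (show l = 0 ∨ l = 1 ∨ (l ∈ [2, 4, 6] ∧ l % 2 = 0) by fin_cases hl <;> simp) with rfl | rfl | hl'
    · have h0 : I.el false j = I.el false 0 := by
        rw [← he, show rep 0 = 0 from rfl, I.el_zero, mul_one, mul_inv_cancel]
      rw [(I.el_inj (lt_192 hj) (by norm_num) h0).2]
      have := P.add 0 (by norm_num) 0 (by norm_num)
      simp only [Nat.xor_self] at this
      rw [this]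
      decide +kernel
    · rw [hR j hj hjW he, P.one]
    · have hq : I.vel (qu (lab j)) = I.vel (pv (qu l)) := by
        rw [← I.el_sq false hj hjW, ← he, conj_mul, I.el_sq false (chk_rep l hl8).1 (chk_rep l hl8).2.1,
          (chk_rep l hl8).2.2, hV _ (qu_lt l hl8)]
      have hq' := I.vel_inj (qu_lt _ hlj) (P.v_lt _ (qu_lt l hl8)) hq
      refine qu_inj _ hlj _ (P.l_lt l hl8) (hq'.trans (P.sq l hl8 hl'.2).symm) fun h0 => qu_pos l hl'.1 ?_
      have h1 := hV _ (qu_lt l hl8)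
      rw [← hq', h0, I.vel_zero, conj_eq_one_iff] at h1
      exact I.vel_inj (qu_lt l hl8) (by norm_num) (h1.trans I.vel_zero.symm)
  refine ⟨hV, fun i hi hiW => ?_⟩
  obtain ⟨j, hj, hjW, he⟩ := hW i hi hiW
  refine ⟨j, hj, hjW, ?_, he⟩
  obtain ⟨a, ha, b, hb, u, hu, heq, hlab⟩ := chk_decomp i hi hiW
  have ha8 : a < 8 := by fin_cases ha <;> norm_num
  have hb8 : b < 8 := by fin_cases hb <;> norm_num
  obtain ⟨ja, hja, hjaW, hla, hea⟩ := base a (by fin_cases ha <;> simp)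
  obtain ⟨jb, hjb, hjbW, hlb, heb⟩ := base b (by fin_cases hb <;> simp)
  obtain ⟨h1, h2⟩ := chk_W ja hja hjaW jb hjb hjbW
  have hu' := P.v_lt u hu
  obtain ⟨h3, h4⟩ := chk_W _ (inW_lt h1) h1 _ (chk_vi _ hu').1 (chk_vi _ hu').2.1
  have hj' : I.el false j = I.el false (T (T ja jb) (vi (pv u))) := by
    rw [← he, heq, ← Bool.xor_self false, ← I.el_mul _ (M12Cent.T_lt (lt_192 (chk_rep a ha8).1)
      (lt_192 (chk_rep b hb8).1)) _ (lt_192 (chk_vi u hu).1), ← Bool.xor_self false,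
      ← I.el_mul _ (lt_192 (chk_rep a ha8).1) _ (lt_192 (chk_rep b hb8).1), ← conj_mul, ← conj_mul]
    change h * I.el false (rep a) * h⁻¹ * (h * I.el false (rep b) * h⁻¹) * (h * I.vel u * h⁻¹) = _
    rw [hea, heb, hV u hu, vel, I.el_mul _ (lt_192 hja) _ (lt_192 hjb),
      I.el_mul _ (M12Cent.T_lt (lt_192 hja) (lt_192 hjb)) _ (lt_192 (chk_vi _ hu').1)]
    rfl
  rw [(I.el_inj (lt_192 hj) (lt_192 (inW_lt h3)) hj').2, h4, h2, (chk_vi _ hu').2.2.1, Nat.xor_zero, hla,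
    hlb, ← P.add a ha8 b hb8, ← hlab]

/-- A shift conjugated by an element permuting the plane. -/
theorem Act.shift {h : G} {pv pl : ℕ → ℕ} {I : Inp G} (A : I.Act h pv pl) (P : PL pv pl)
    (hc : h * I.e = I.e * h) {m : G} {v L : ℕ} (S : I.Shift m v L) :
    I.Shift (h * m * h⁻¹) (pv v) (permL pv pl L) := by
  have key : ∀ x, h * m * h⁻¹ * (h * x * h⁻¹) * (h * m * h⁻¹)⁻¹ = h * (m * x * m⁻¹) * h⁻¹ :=
    fun x => by group
  refine ⟨P.v_lt _ S.v_lt, (P.perm L S.L_lt).1, fun u hu => ?_, ?_, fun l hl => ?_⟩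
  · have h1 := A.V _ (P.v_lt u hu)
    rw [P.v_inv u hu] at h1
    rw [← h1, key, S.fixV _ (P.v_lt u hu)]
  · have h1 : h * I.e * h⁻¹ = I.e := by rw [hc, mul_inv_cancel_right]
    conv_lhs => rw [← h1]
    rw [key, S.moveE, ← conj_mul, h1, A.V _ S.v_lt]
  · have hl' := P.l_lt l hl
    obtain ⟨hr, hrW, hrl⟩ := chk_rep _ hl'
    obtain ⟨j, hj, hjW, hlj, he⟩ := A.W _ hr hrW
    rw [hrl, P.l_inv l hl] at hlj
    obtain ⟨u, hu, heu⟩ := I.el_rep false hj hjW
    rw [hlj] at heu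
    have hx : I.el false (rep l) = h * (I.el false (rep (pl l)) * I.vel (pv u)) * h⁻¹ := by
      rw [← conj_mul, he, A.V _ (P.v_lt u hu), P.v_inv u hu, heu, mul_assoc, I.vel_sq hu, mul_one]
    have hw := lapp_lt L S.L_lt _ hl'
    have hm : m * (I.el false (rep (pl l)) * I.vel (pv u)) * m⁻¹ =
        I.el false (rep (pl l)) * I.vel (pv u) * I.vel (lapp L (pl l)) := by
      rw [← conj_mul, S.moveW _ hl', S.fixV _ (P.v_lt u hu), mul_assoc, mul_assoc,
        I.vel_mul hw (P.v_lt u hu), I.vel_mul (P.v_lt u hu) hw, Nat.xor_comm]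
    conv_lhs => rw [hx]
    rw [key, hm, ← conj_mul (a := I.el false (rep (pl l)) * I.vel (pv u)), A.V _ hw, ← hx,
      (P.perm L S.L_lt).2 l hl]

/-- The element `s` of the Sylow subgroup exchanging `p` and `tp`. -/
theorem act_s : I.Act (I.el false 16) svv svl := by
  refine ⟨fun u hu => ?_, fun i hi hW => ?_⟩
  · rw [mul_inv_eq_iff_eq_mul, vel, vel, I.el_mul _ (by norm_num) _ (lt_192 (chk_vi u hu).1),
      I.el_mul _ (lt_192 (chk_vi _ (pl_sv.v_lt u hu)).1) _ (by norm_num), chk_s16.2 u hu]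
  · obtain ⟨j, hj, hjW, hl, he⟩ := chk_s16.1 i hi hW
    refine ⟨j, hj, hjW, hl, ?_⟩
    rw [mul_inv_eq_iff_eq_mul, I.el_mul _ (by norm_num) _ (lt_192 hi),
      I.el_mul _ (lt_192 hj) _ (by norm_num), he]

/-- An element of `M₁₂` exchanging `t` and `p`. -/
theorem exists_act_swap : ∃ h : G, h * I.e = I.e * h ∧ I.Act h swv swl := by
  obtain ⟨c, hc⟩ := isConj_iff.1 (tclass (i := 6) (by norm_num) (by decide +kernel))
  set q := setup₀.el 6 with hq
  let S' := setup₀.conjBy c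
  have hqP : S'.P (c * q * c⁻¹) := ⟨6, by norm_num, rfl, chk_kinds.2.2.2.2.2.2.2.1⟩
  have h6 : setup₀.el 6 * setup₀.t = setup₀.t * setup₀.el 6 := setup₀.el_comm (by norm_num)
  have hcc : M12Cent.cc S'.t setup₀.t = 32 := by
    rw [show S'.t = q from hc, M12Cent.cc_comm, hq, setup₀.cc_el (by norm_num),
      ((M12Cent.Setup.not_two_kinds (i := 6) (by norm_num)).1 chk_kinds.2.2.2.2.2.2.2.1).2]
  have htP : S'.P setup₀.t := by
    rcases S'.cases setup₀.ht2 (by rw [show S'.t = q from hc, hq]; exact h6.symm) with h | h | h | h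
    · have h' : setup₀.el 1 = setup₀.el 6 := by rw [setup₀.el_one, h]; exact hc
      exact absurd (setup₀.inj 1 (by norm_num) 6 (by norm_num) h') (by norm_num)
    · exact h.1
    · omega
    · omega
  obtain ⟨i, hi, hit, hiP⟩ := htP
  obtain ⟨w, hw, hww⟩ := chk_P i hi hiP
  set k := S'.el w * c with hk
  have hwt : S'.el w * S'.t * (S'.el w)⁻¹ = S'.t := by rw [S'.el_comm hw, mul_inv_cancel_right]
  have hk1 : k * setup₀.t * k⁻¹ = q := by
    calc k * setup₀.t * k⁻¹ = S'.el w * (c * setup₀.t * c⁻¹) * (S'.el w)⁻¹ := by rw [hk]; group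
      _ = q := by rw [hc]; rw [show S'.t = q from hc] at hwt; exact hwt
  have hk2 : k * q * k⁻¹ = setup₀.t := by
    calc k * q * k⁻¹ = S'.el w * S'.el 6 * (S'.el w)⁻¹ := by
          rw [hk, show S'.el 6 = c * q * c⁻¹ from rfl]; group
      _ = setup₀.t := by
          rw [← hit, mul_inv_eq_iff_eq_mul, S'.mul w hw 6 (by norm_num), S'.mul i hi w hw, hww]
  have hV : ∀ u < 4, I.ι k * I.vel u * (I.ι k)⁻¹ = I.vel (swv u) := by
    have h1 : I.ι k * I.vel 1 * (I.ι k)⁻¹ = I.vel 2 := by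
      rw [I.vel_one, ← map_inv, ← map_mul, ← map_mul, hk1, hq, vel, chk_kinds.2.2.2.2.2.2.2.2.2,
        I.el_false]
    have h2 : I.ι k * I.vel 2 * (I.ι k)⁻¹ = I.vel 1 := by
      rw [I.vel_one, vel, chk_kinds.2.2.2.2.2.2.2.2.2, I.el_false, ← map_inv, ← map_mul, ← map_mul,
        ← hq, hk2]
    intro u hu
    interval_cases u
    · rw [show swv 0 = 0 from rfl, I.vel_zero, mul_one, mul_inv_cancel]
    · exact h1
    · exact h2
    · have e3 : I.vel 3 = I.vel 1 * I.vel 2 := (I.vel_mul (a := 1) (b := 2) (by norm_num) (by norm_num)).symm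
      rw [e3, ← conj_mul, h1, h2, I.vel_mul (a := 2) (b := 1) (by norm_num) (by norm_num)]
      rfl
  refine ⟨I.ι k, I.comm k, I.act_of pl_sw hV (fun i hi hW => ?_) (fun j hj hjW he => ?_)⟩
  · have hit' : setup₀.el i * q = q * setup₀.el i := by
      refine (setup₀.comm_iff (lt_192 hi) (by norm_num)).2 ?_
      rw [inW, Bool.and_eq_true] at hW; exact hW.2
    have hit2 : setup₀.el i * setup₀.t = setup₀.t * setup₀.el i := setup₀.el_comm (lt_192 hi)
    obtain ⟨j, hj, he⟩ := (setup₀.mem (k * setup₀.el i * k⁻¹)).1 (by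
      rw [← hk2, M12Cent.conj_comm_iff]; exact hit')
    have hj6 : cm j 6 = true := (setup₀.comm_iff hj (by norm_num)).1 (by
      rw [he, ← hq, ← hk1, M12Cent.conj_comm_iff]; exact hit2)
    have hjW := chk_inW j hj hj6
    exact ⟨j, inW_lt hjW, hjW, by rw [I.el_false, I.el_false, ← map_inv, ← map_mul, ← map_mul, he]⟩
  · have hr : 34 < 192 := by norm_num
    have hej : k * setup₀.el (rep 1) * k⁻¹ = setup₀.el j := by
      apply I.inj
      rw [map_mul, map_mul, map_inv, ← I.el_false, ← I.el_false, he]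
    have hjj : T j j = 0 := by
      refine setup₀.inj _ (M12Cent.T_lt (lt_192 hj) (lt_192 hj)) 0 (by norm_num) ?_
      rw [← setup₀.mul j (lt_192 hj) j (lt_192 hj), ← hej, conj_mul,
        setup₀.mul (rep 1) hr (rep 1) hr, show T (rep 1) (rep 1) = 0 by decide +kernel, setup₀.el_zero,
        mul_one, mul_inv_cancel]
    rcases chk_kinds.2.2.2.2.1 j hj hjW hjj with h | h | h
    · subst h
      rw [setup₀.el_zero, conj_eq_one_iff, ← setup₀.el_zero] at hej
      exact absurd (setup₀.inj _ hr 0 (by norm_num) hej) (by decide +kernel)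
    · have hr' : IsConj setup₀.r (setup₀.el j) :=
        (rclass hr chk_kinds.2.2.2.2.2.2.1).trans (hej ▸ M12Cent.isConj_conj k _)
      exact absurd ((tclass (lt_192 hj) h).trans hr'.symm) setup₀.not_tr
    · exact h

/-- The number of elements of `C(e, z)` commuting with `x`. -/
noncomputable def cnt (x : G) : ℕ :=
  Nat.card {y : G // y * I.e = I.e * y ∧ y * I.z = I.z * y ∧ y * x = x * y}

theorem cnt_el (s : Bool) {i : ℕ} (hi : i < 192) : I.cnt (I.el s i) = 2 * nC i := by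
  rw [cnt, nC, ← M12Cent.card_range_filter, show (2 : ℕ) = Nat.card Bool by simp, ← Nat.card_prod]
  symm
  refine Nat.card_congr (Equiv.ofBijective (fun p : Bool × {j : ℕ // j < 192 ∧ cm j i = true} =>
    (⟨I.el p.1 p.2.1, I.el_comm_e _ _, I.el_comm_z _ p.2.2.1, (I.el_comm_iff p.2.2.1 hi).2 p.2.2.2⟩ :
      {y : G // y * I.e = I.e * y ∧ y * I.z = I.z * y ∧ y * I.el s i = I.el s i * y})) ⟨?_, ?_⟩)
  · rintro ⟨a, j, hj⟩ ⟨b, k, hk⟩ h
    obtain ⟨h1, h2⟩ := I.el_inj hj.1 hk.1 (congrArg Subtype.val h)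
    exact Prod.ext h1 (Subtype.ext h2)
  · rintro ⟨y, he, hz, hc⟩
    obtain ⟨a, j, hj, rfl⟩ := I.mem_ez he hz
    exact ⟨(a, ⟨j, hj, (I.el_comm_iff hj hi).1 hc⟩), rfl⟩

/-- An element fixing the plane and moving `e` to `e z` is a shift, if `e` is not conjugate to `a`. -/
theorem exists_shift (hn : ¬ IsConj I.e I.a) {n : G} (he : n * I.e * n⁻¹ = I.e * I.z)
    (hV : ∀ u < 4, n * I.vel u * n⁻¹ = I.vel u) : ∃ L, I.Shift n 1 L := by
  have hz : n * I.z * n⁻¹ = I.z := by rw [← I.vel_one]; exact hV 1 (by norm_num)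
  have hez : ∀ y, (y * (I.e * I.z) = I.e * I.z * y ∧ y * I.z = I.z * y) ↔
      (y * I.e = I.e * y ∧ y * I.z = I.z * y) := fun y => by
    refine ⟨fun ⟨h1, h2⟩ => ⟨?_, h2⟩, fun ⟨h1, h2⟩ => ⟨Commute.mul_right h1 h2, h2⟩⟩
    have := Commute.mul_right (h1 : Commute y (I.e * I.z)) (Commute.inv_right (h2 : Commute y I.z))
    rwa [mul_inv_cancel_right] at this
  have hcomm : ∀ x, (x * I.e = I.e * x ∧ x * I.z = I.z * x) →
      (n * x * n⁻¹ * I.e = I.e * (n * x * n⁻¹) ∧ n * x * n⁻¹ * I.z = I.z * (n * x * n⁻¹)) := by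
    intro x hx
    rw [← hez]
    constructor
    · rw [← he, M12Cent.conj_comm_iff]; exact hx.1
    · rw [← hz, M12Cent.conj_comm_iff]; exact hx.2
  have hcnt : ∀ x, I.cnt (n * x * n⁻¹) = I.cnt x := fun x => by
    refine (Nat.card_congr (Equiv.subtypeEquiv (MulAut.conj n).toEquiv fun y => ?_)).symm
    simp only [MulEquiv.toEquiv_eq_coe, EquivLike.coe_coe, MulAut.conj_apply]
    constructor
    · rintro ⟨h1, h2, h3⟩
      exact ⟨(hcomm y ⟨h1, h2⟩).1, (hcomm y ⟨h1, h2⟩).2, (M12Cent.conj_comm_iff n y x).2 h3⟩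
    · rintro ⟨h1, h2, h3⟩
      have h4 := (hez _).2 ⟨h1, h2⟩
      rw [← he, M12Cent.conj_comm_iff] at h4
      have h5 := h4.2
      rw [← hz, M12Cent.conj_comm_iff] at h5
      exact ⟨h4.1, h5, (M12Cent.conj_comm_iff n y x).1 h3⟩
  have himg : ∀ i, inW i = true → ∃ s : Bool, ∃ j < 64, inW j = true ∧
      n * I.el false i * n⁻¹ = I.el s j := by
    intro i hW
    have hi := inW_lt hW
    have h2 := I.vel_comm_el (show (2 : ℕ) < 4 by norm_num) false hi hW
    obtain ⟨hc1, hc2⟩ := hcomm _ ⟨I.el_comm_e false i, I.el_comm_z false (lt_192 hi)⟩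
    obtain ⟨s, j, hj, hjW, h⟩ := I.cent_plane hc1 hc2 (by
      rw [← hV 2 (by norm_num), M12Cent.conj_comm_iff]; exact h2)
    exact ⟨s, j, hj, hjW, h.symm⟩
  have htc : ∀ i, inW i = true → (i = 0 ∨ isTc i = true) → ∃ j < 64, inW j = true ∧
      n * I.el false i * n⁻¹ = I.el false j := by
    intro i hW h0
    have hi := inW_lt hW
    rcases h0 with rfl | h0
    · exact ⟨0, by norm_num, hW, by rw [I.el_zero, mul_one, mul_inv_cancel]⟩
    obtain ⟨s, j, hj, hjW, h⟩ := himg i hW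
    cases s
    · exact ⟨j, hj, hjW, h⟩
    exfalso
    have hjj : T j j = 0 := by
      refine (I.el_inj (s := false) (s' := false) (M12Cent.T_lt (lt_192 hj) (lt_192 hj))
        (show 0 < 192 by norm_num) ?_).2
      have h2 : I.el true j * I.el true j = 1 := by
        rw [← h, conj_mul, I.el_mul _ (lt_192 hi) _ (lt_192 hi), chk_kinds.2.2.1 i hi h0, Bool.xor_self,
          I.el_zero, mul_one, mul_inv_cancel]
      rw [I.el_mul _ (lt_192 hj) _ (lt_192 hj), Bool.xor_self] at h2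
      rw [h2, I.el_zero]
    have hconj : IsConj (I.el false i) (I.el true j) := h ▸ M12Cent.isConj_conj n _
    have hne := I.not_conj_tc (lt_192 hi) h0
    have heTc : ∀ k, k < 192 → isTc k = true → IsConj I.e (I.el true k) := by
      intro k hk hkt
      obtain ⟨c, hc⟩ := isConj_iff.1 (tclass hk hkt)
      refine (isConj_iff.2 ⟨n, he⟩).trans (isConj_iff.2 ⟨I.ι c, ?_⟩)
      rw [← conj_mul, I.el_true, ← map_inv, ← map_mul, ← map_mul, hc, map_inv, I.comm,
        mul_inv_cancel_right]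
    rcases chk_kinds.1 j hj hjW hjj with rfl | hk | hk
    · rw [I.el_e] at hconj
      exact hne hconj.symm
    · exact hne ((heTc j (lt_192 hj) hk).trans hconj.symm)
    · obtain ⟨h1R, h1W⟩ := chk_kinds.2.1 j hj hjW hk
      have h2 : n * I.el true i * n⁻¹ = I.el false (T 1 j) := by
        rw [I.el_true_eq, ← conj_mul, he, h, ← I.el_z, ← I.el_e, I.el_mul _ (by norm_num) _ (by norm_num),
          I.el_mul _ (M12Cent.T_lt (by norm_num) (by norm_num)) _ (lt_192 hj)]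
        rw [show T 0 1 = 1 by decide +kernel]
        rfl
      exact hn ((heTc i (lt_192 hi) h0).trans ((h2 ▸ M12Cent.isConj_conj n _).trans
        (I.conj_a (lt_192 (inW_lt h1W)) h1R).symm))
  have hW : ∀ i < 64, inW i = true → ∃ j < 64, inW j = true ∧ n * I.el false i * n⁻¹ = I.el false j := by
    intro i hi hiW
    obtain ⟨a, ha, b, hb, c, hc, ⟨ha0, haW⟩, ⟨hb0, hbW⟩, ⟨hc0, hcW⟩, rfl⟩ := chk_gen3 i hi hiW
    obtain ⟨a', ha', haW', hea⟩ := htc a haW ha0
    obtain ⟨b', hb', hbW', heb⟩ := htc b hbW hb0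
    obtain ⟨c', hc', hcW', hec⟩ := htc c hcW hc0
    obtain ⟨h1, -⟩ := chk_W a' ha' haW' b' hb' hbW'
    obtain ⟨h2, -⟩ := chk_W _ (inW_lt h1) h1 c' hc' hcW'
    refine ⟨_, inW_lt h2, h2, ?_⟩
    rw [← I.elF (M12Cent.T_lt (lt_192 ha) (lt_192 hb)) (lt_192 hc), ← I.elF (lt_192 ha) (lt_192 hb),
      ← conj_mul, ← conj_mul, hea, heb, hec, I.elF (lt_192 ha') (lt_192 hb'),
      I.elF (M12Cent.T_lt (lt_192 ha') (lt_192 hb')) (lt_192 hc')]
  have hA : I.Act n id id := by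
    refine I.act_of pl_id hV hW fun j hj hjW h => ?_
    have hr := (chk_rep 1 (by norm_num)).1
    have h1 := hcnt (I.el false (rep 1))
    rw [h, I.cnt_el _ (lt_192 hj), I.cnt_el _ (lt_192 hr), chk_kinds.2.2.2.2.2.1] at h1
    refine chk_kinds.2.2.2.1 j hj hjW ?_ (by omega)
    refine (I.el_inj (s := false) (s' := false) (M12Cent.T_lt (lt_192 hj) (lt_192 hj))
      (show 0 < 192 by norm_num) ?_).2
    rw [← Bool.xor_self false, ← I.el_mul _ (lt_192 hj) _ (lt_192 hj), ← h, conj_mul,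
      I.el_mul _ (lt_192 hr) _ (lt_192 hr), show T (rep 1) (rep 1) = 0 by decide +kernel, Bool.xor_self,
      I.el_zero, mul_one, mul_inv_cancel]
  have hu : ∀ l < 8, ∃ u < 4, n * I.el false (rep l) * n⁻¹ = I.el false (rep l) * I.vel u := by
    intro l hl
    obtain ⟨j, hj, hjW, hlj, h⟩ := hA.W _ (chk_rep l hl).1 (chk_rep l hl).2.1
    obtain ⟨u, hu, heu⟩ := I.el_rep false hj hjW
    rw [hlj, id, (chk_rep l hl).2.2] at heu
    exact ⟨u, hu, h.trans heu⟩
  obtain ⟨u1, hu1, e1⟩ := hu 1 (by norm_num)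
  obtain ⟨u2, hu2, e2⟩ := hu 2 (by norm_num)
  obtain ⟨u4, hu4, e4⟩ := hu 4 (by norm_num)
  set L := u1 + 4 * u2 + 16 * u4 with hLdef
  have hL : L < 64 := by omega
  have hl1 : lapp L 1 = u1 ∧ lapp L 2 = u2 ∧ lapp L 4 = u4 := by
    have : ∀ a < 4, ∀ b < 4, ∀ c < 4, lapp (a + 4 * b + 16 * c) 1 = a ∧ lapp (a + 4 * b + 16 * c) 2 = b ∧
        lapp (a + 4 * b + 16 * c) 4 = c := by decide +kernel
    exact this u1 hu1 u2 hu2 u4 hu4
  let P := fun i => i < 64 ∧ inW i = true ∧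
    n * I.el false i * n⁻¹ = I.el false i * I.vel (lapp L (lab i))
  have hmul : ∀ i j, P i → P j → P (T i j) := by
    rintro i j ⟨hi, hiW, hie⟩ ⟨hj, hjW, hje⟩
    obtain ⟨h1, h2⟩ := chk_W i hi hiW j hj hjW
    refine ⟨inW_lt h1, h1, ?_⟩
    have hl := (chk_W' i hi hiW).1
    have hl' := (chk_W' j hj hjW).1
    rw [← Bool.xor_self false, ← I.el_mul _ (lt_192 hi) _ (lt_192 hj), h2, lapp_add L hL _ hl _ hl',
      ← conj_mul, hie, hje, ← I.vel_mul (lapp_lt L hL _ hl) (lapp_lt L hL _ hl'), mul_assoc,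
      ← mul_assoc (I.vel _), ← I.vel_comm_el (lapp_lt L hL _ hl) false hj hjW]
    simp only [mul_assoc]
  have hPv : ∀ u < 4, P (vi u) := fun u hu => by
    refine ⟨(chk_vi u hu).1, (chk_vi u hu).2.1, ?_⟩
    rw [(chk_vi u hu).2.2.1, (lapp_zero L hL).1, I.vel_zero, mul_one]
    exact hV u hu
  have hP0 : P (rep 0) := hPv 0 (by norm_num)
  have hPb : P (rep 1) ∧ P (rep 2) ∧ P (rep 4) := by
    refine ⟨⟨(chk_rep 1 (by norm_num)).1, (chk_rep 1 (by norm_num)).2.1, ?_⟩,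
      ⟨(chk_rep 2 (by norm_num)).1, (chk_rep 2 (by norm_num)).2.1, ?_⟩,
      ⟨(chk_rep 4 (by norm_num)).1, (chk_rep 4 (by norm_num)).2.1, ?_⟩⟩
    · rw [(chk_rep 1 (by norm_num)).2.2, hl1.1]; exact e1
    · rw [(chk_rep 2 (by norm_num)).2.2, hl1.2.1]; exact e2
    · rw [(chk_rep 4 (by norm_num)).2.2, hl1.2.2]; exact e4
  refine ⟨L, by norm_num, hL, hV, by rw [he, I.vel_one], fun l hl => ?_⟩
  obtain ⟨a, ha, b, hb, c, hc, u, hu, heq, -⟩ := chk_basis l hl
  have hPa : P (rep a) := by fin_cases ha <;> [exact hP0; exact hPb.1]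
  have hPb' : P (rep b) := by fin_cases hb <;> [exact hP0; exact hPb.2.1]
  have hPc : P (rep c) := by fin_cases hc <;> [exact hP0; exact hPb.2.2]
  have := (hmul _ _ (hmul _ _ (hmul _ _ hPa hPb') hPc) (hPv u hu)).2.2
  rwa [← heq, (chk_rep l hl).2.2] at this

end Inp

end Cfsg.Agent.Co3Inv
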