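import Cfsg.Agent.Lib.Co3Inv.FusedCoords

/-!
Recognition of the third Conway group, fusion of `e`: elements centralizing the plane `⟨z, p⟩` that shift
`e` and the cosets of the plane in `W` by elements of the plane.
-/

set_option autoImplicit false
set_option maxRecDepth 100000
set_option synthInstance.maxSize 10000

namespace Cfsg.Agent.Co3Inv

open Cfsg
open Cfsg.Agent.M12Cent (T cm inv2 isR isP isY setup₀)
open FusedModel (lapp qu)

theorem lapp_ext : ∀ L < 64, ∀ M < 64, (∀ l < 8, lapp L l = lapp M l) → L = M := by decide +kernel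

theorem lapp_zero : ∀ L < 64, lapp L 0 = 0 ∧ ∀ l < 8, lapp 0 l = 0 := by decide +kernel

theorem chk_center : ∀ i < 64, inW i = true → inn i = 0 → ∃ u < 4, i = vi u := by decide +kernel

theorem xor_lt_four : ∀ a < 4, ∀ b < 4, a ^^^ b < 4 := by decide

theorem fused_xor_lt_64 {a b : ℕ} (ha : a < 64) (hb : b < 64) : a ^^^ b < 64 :=
  Nat.xor_lt_two_pow (n := 6) ha hb

theorem xor_lt_eight {a b : ℕ} (ha : a < 8) (hb : b < 8) : a ^^^ b < 8 :=
  Nat.xor_lt_two_pow (n := 3) ha hb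

theorem lt_192 {i : ℕ} (hi : i < 64) : i < 192 := by omega

namespace Inp

variable {G : Type*} [Group G] (I : Inp G)

/-- The element of the plane with code `u`. -/
noncomputable def vel (u : ℕ) : G := I.el false (vi u)

theorem vel_zero : I.vel 0 = 1 := I.el_zero

theorem vel_one : I.vel 1 = I.z := I.el_z

theorem vel_mul {a b : ℕ} (ha : a < 4) (hb : b < 4) : I.vel a * I.vel b = I.vel (a ^^^ b) := by
  rw [vel, vel, vel, I.el_mul _ (lt_192 (chk_vi a ha).1) _ (lt_192 (chk_vi b hb).1), Bool.xor_self,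
    ((chk_vi a ha).2.2.2 b hb).1]

theorem vel_inj {a b : ℕ} (ha : a < 4) (hb : b < 4) (h : I.vel a = I.vel b) : a = b :=
  ((chk_vi a ha).2.2.2 b hb).2 (I.el_inj (lt_192 (chk_vi a ha).1) (lt_192 (chk_vi b hb).1) h).2

theorem vel_sq {a : ℕ} (ha : a < 4) : I.vel a * I.vel a = 1 := by
  rw [I.vel_mul ha ha, Nat.xor_self, I.vel_zero]

theorem vel_comm_el {a : ℕ} (ha : a < 4) (s : Bool) {i : ℕ} (hi : i < 64) (hW : inW i = true) :
    I.el s i * I.vel a = I.vel a * I.el s i :=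
  (I.el_comm_iff (lt_192 hi) (lt_192 (chk_vi a ha).1)).2 (chk_centralV i hi hW a ha)

theorem el_sq (s : Bool) {i : ℕ} (hi : i < 64) (hW : inW i = true) :
    I.el s i * I.el s i = I.vel (qu (lab i)) := by
  rw [I.el_mul _ (lt_192 hi) _ (lt_192 hi), Bool.xor_self, (chk_W' i hi hW).2.2.1, vel]

/-- A product in `W`. -/
theorem el_mul_W (s : Bool) {i : ℕ} (hi : i < 64) (hW : inW i = true) (s' : Bool) {j : ℕ} (hj : j < 64)
    (hW' : inW j = true) : ∃ k < 64, inW k = true ∧ lab k = lab i ^^^ lab j ∧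
      I.el s i * I.el s' j = I.el (xor s s') k := by
  obtain ⟨h1, h2⟩ := chk_W i hi hW j hj hW'
  refine ⟨T i j, ?_, h1, h2, I.el_mul _ (lt_192 hi) _ (lt_192 hj)⟩
  rw [inW, Bool.and_eq_true, Nat.blt_eq] at h1
  exact h1.1

/-- An element of `W` as a representative times an element of the plane. -/
theorem el_rep (s : Bool) {i : ℕ} (hi : i < 64) (hW : inW i = true) :
    ∃ u < 4, I.el s i = I.el s (rep (lab i)) * I.vel u := by
  obtain ⟨hl, ⟨u, hu, he⟩, -, -⟩ := chk_W' i hi hW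
  refine ⟨u, hu, ?_⟩
  rw [vel, I.el_mul _ (lt_192 (chk_rep _ hl).1) _ (lt_192 (chk_vi u hu).1), Bool.xor_false, ← he]

theorem el_true_eq (i : ℕ) : I.el true i = I.e * I.el false i := by rw [I.el_true, I.el_false]

/-- A shift: the plane is centralized, `e` is moved by the code `v`, the coset with code `l` by
`lapp L l`. -/
structure Shift (m : G) (v L : ℕ) : Prop where
  v_lt : v < 4
  L_lt : L < 64
  fixV : ∀ u < 4, m * I.vel u * m⁻¹ = I.vel u
  moveE : m * I.e * m⁻¹ = I.e * I.vel v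
  moveW : ∀ l < 8, m * I.el false (rep l) * m⁻¹ = I.el false (rep l) * I.vel (lapp L l)

namespace Shift

variable {I} {m m' : G} {v v' L L' : ℕ}

theorem conjW (h : I.Shift m v L) {i : ℕ} (hi : i < 64) (hW : inW i = true) :
    m * I.el false i * m⁻¹ = I.el false i * I.vel (lapp L (lab i)) := by
  obtain ⟨hl, -, -, -⟩ := chk_W' i hi hW
  obtain ⟨u, hu, he⟩ := I.el_rep false hi hW
  conv_lhs => rw [he, ← conj_mul, h.moveW _ hl, h.fixV u hu]
  rw [mul_assoc, I.vel_mul (lapp_lt L h.L_lt _ hl) hu, Nat.xor_comm,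
    ← I.vel_mul hu (lapp_lt L h.L_lt _ hl), ← mul_assoc, ← he]

theorem conjEl (h : I.Shift m v L) (s : Bool) {i : ℕ} (hi : i < 64) (hW : inW i = true) :
    m * I.el s i * m⁻¹ = I.el s i * I.vel ((bif s then v else 0) ^^^ lapp L (lab i)) := by
  obtain ⟨hl, -, -, -⟩ := chk_W' i hi hW
  cases s
  · rw [cond_false, Nat.zero_xor, h.conjW hi hW]
  · rw [cond_true, I.el_true_eq, ← conj_mul, h.moveE, h.conjW hi hW,
      ← I.vel_mul h.v_lt (lapp_lt L h.L_lt _ hl), mul_assoc, ← mul_assoc (I.vel v),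
      ← I.vel_comm_el h.v_lt false hi hW]
    simp only [mul_assoc]

theorem one : I.Shift 1 0 0 :=
  ⟨by norm_num, by norm_num, fun u _ => by rw [one_mul, inv_one, mul_one],
    by rw [one_mul, inv_one, mul_one, I.vel_zero, mul_one],
    fun l hl => by rw [one_mul, inv_one, mul_one, (lapp_zero 0 (by norm_num)).2 l hl, I.vel_zero, mul_one]⟩

theorem mul (h : I.Shift m v L) (h' : I.Shift m' v' L') : I.Shift (m * m') (v ^^^ v') (L ^^^ L') := by
  have key : ∀ x, m * m' * x * (m * m')⁻¹ = m * (m' * x * m'⁻¹) * m⁻¹ := fun x => by group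
  refine ⟨xor_lt_four _ h.v_lt _ h'.v_lt, fused_xor_lt_64 h.L_lt h'.L_lt, fun u hu => ?_, ?_, fun l hl => ?_⟩
  · rw [key, h'.fixV u hu, h.fixV u hu]
  · rw [key, h'.moveE, ← conj_mul, h.moveE, h.fixV _ h'.v_lt, mul_assoc,
      I.vel_mul h.v_lt h'.v_lt]
  · rw [key, h'.moveW l hl, ← conj_mul, h.moveW l hl, h.fixV _ (lapp_lt _ h'.L_lt l hl),
      mul_assoc, I.vel_mul (lapp_lt _ h.L_lt l hl) (lapp_lt _ h'.L_lt l hl),
      lapp_xor L h.L_lt L' h'.L_lt l hl]

theorem inv (h : I.Shift m v L) : I.Shift m⁻¹ v L := by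
  have key : ∀ x u, u < 4 → m * x * m⁻¹ = x * I.vel u → m⁻¹ * x * m⁻¹⁻¹ = x * I.vel u := by
    intro x u hu hx
    have h1 : m * (x * I.vel u) * m⁻¹ = x := by
      rw [← conj_mul, hx, h.fixV u hu, mul_assoc, I.vel_sq hu, mul_one]
    rw [inv_inv]
    calc m⁻¹ * x * m = m⁻¹ * (m * (x * I.vel u) * m⁻¹) * m := by rw [h1]
      _ = x * I.vel u := by group
  refine ⟨h.v_lt, h.L_lt, fun u hu => ?_, key _ _ h.v_lt h.moveE,
    fun l hl => key _ _ (lapp_lt L h.L_lt l hl) (h.moveW l hl)⟩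
  rw [key (I.vel u) 0 (by norm_num) (by rw [h.fixV u hu, I.vel_zero, mul_one]), I.vel_zero, mul_one]

end Shift

theorem shift_el (s : Bool) {i : ℕ} (hi : i < 64) (hW : inW i = true) :
    I.Shift (I.el s i) 0 (inn i) := by
  refine ⟨by norm_num, (chk_W' i hi hW).2.2.2, fun u hu => ?_, ?_, fun l hl => ?_⟩
  · rw [I.vel_comm_el hu s hi hW, mul_inv_cancel_right]
  · rw [I.el_comm_e, mul_inv_cancel_right, I.vel_zero, mul_one]
  · have hu := lapp_lt (inn i) (chk_W' i hi hW).2.2.2 l hl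
    obtain ⟨hr, hrW, -⟩ := chk_rep l hl
    obtain ⟨h1, -⟩ := chk_W (rep l) hr hrW (vi (lapp (inn i) l)) (chk_vi _ hu).1 (chk_vi _ hu).2.1
    rw [mul_inv_eq_iff_eq_mul, vel, I.el_mul _ (lt_192 hi) _ (lt_192 hr), chk_inn i hi hW l hl,
      I.el_mul _ (lt_192 hr) _ (lt_192 (chk_vi _ hu).1), I.el_mul _ (M12Cent.T_lt (lt_192 hr)
        (lt_192 (chk_vi _ hu).1)) _ (lt_192 hi)]
    simp

/-- An element fixing `e` and centralizing the plane. -/
theorem cent_plane {x : G} (he : x * I.e = I.e * x) (hz : x * I.z = I.z * x)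
    (hp : x * I.vel 2 = I.vel 2 * x) : ∃ s : Bool, ∃ i < 64, inW i = true ∧ I.el s i = x := by
  obtain ⟨s, i, hi, rfl⟩ := I.mem_ez he hz
  have h6 : cm i 6 = true := (I.el_comm_iff hi (by norm_num)).1 hp
  have hW := chk_inW i hi h6
  refine ⟨s, i, ?_, hW, rfl⟩
  rw [inW, Bool.and_eq_true, Nat.blt_eq] at hW
  exact hW.1

namespace Shift

variable {I} {m m' : G} {v v' L L' : ℕ}

theorem cent (h : I.Shift m 0 L) : ∃ s : Bool, ∃ i < 64, inW i = true ∧ I.el s i = m ∧ inn i = L := by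
  have hc : ∀ u < 4, m * I.vel u = I.vel u * m := fun u hu => mul_inv_eq_iff_eq_mul.1 (h.fixV u hu)
  obtain ⟨s, i, hi, hW, rfl⟩ := I.cent_plane (x := m)
    (mul_inv_eq_iff_eq_mul.1 (by rw [h.moveE, I.vel_zero, mul_one]))
    (by rw [← I.vel_one]; exact hc 1 (by norm_num)) (hc 2 (by norm_num))
  refine ⟨s, i, hi, hW, rfl, lapp_ext _ (chk_W' i hi hW).2.2.2 _ h.L_lt fun l hl => ?_⟩
  have h1 := ((I.shift_el s hi hW).moveW l hl).symm.trans (h.moveW l hl)
  exact I.vel_inj (lapp_lt _ (chk_W' i hi hW).2.2.2 l hl) (lapp_lt _ h.L_lt l hl) (mul_left_cancel h1)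

/-- Two shifts with the same motion of `e` differ by an element of `e W`. -/
theorem diff (h : I.Shift m v L) (h' : I.Shift m' v L') :
    ∃ s : Bool, ∃ i < 64, inW i = true ∧ m = m' * I.el s i ∧ inn i = L' ^^^ L := by
  have hc := h'.inv.mul h
  rw [Nat.xor_self] at hc
  obtain ⟨s, i, hi, hW, he, hL⟩ := hc.cent
  exact ⟨s, i, hi, hW, by rw [he, mul_inv_cancel_left], hL⟩

/-- The square of a shift is in the plane. -/
theorem sq_mem (h : I.Shift m v L) (hv : v ≠ 0) : ∃ u < 4, m * m = I.vel u := by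
  have hc := h.mul h
  rw [Nat.xor_self, Nat.xor_self] at hc
  obtain ⟨s, i, hi, hW, he, hL⟩ := hc.cent
  obtain ⟨u, hu, rfl⟩ := chk_center i hi hW hL
  cases s
  · exact ⟨u, hu, he.symm⟩
  · refine absurd ?_ hv
    have hfix : m * I.el true (vi u) * m⁻¹ = I.el true (vi u) := by rw [he]; group
    rw [h.conjEl true hi hW, cond_true, (chk_vi u hu).2.2.1, (lapp_zero L h.L_lt).1, Nat.xor_zero,
      mul_eq_left] at hfix
    exact I.vel_inj h.v_lt (by norm_num) (hfix.trans I.vel_zero.symm)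

/-- The square of a product of a shift with an element of `e W`. -/
theorem sq_el (h : I.Shift m v L) {q : ℕ} (hq : q < 4) (hm : m * m = I.vel q) (s : Bool) {i : ℕ}
    (hi : i < 64) (hW : inW i = true) : m * I.el s i * (m * I.el s i) =
      I.vel (((bif s then v else 0) ^^^ lapp L (lab i)) ^^^ q ^^^ qu (lab i)) := by
  obtain ⟨hl, -, -, -⟩ := chk_W' i hi hW
  set w := (bif s then v else 0) ^^^ lapp L (lab i) with hw
  have hw4 : w < 4 := by
    refine xor_lt_four _ ?_ _ (lapp_lt L h.L_lt _ hl)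
    cases s
    · norm_num
    · exact h.v_lt
  calc m * I.el s i * (m * I.el s i) = m * I.el s i * m⁻¹ * (m * m) * I.el s i := by group
    _ = I.el s i * I.vel w * I.vel q * I.el s i := by rw [h.conjEl s hi hW, hm, ← hw]
    _ = I.el s i * I.el s i * I.vel (w ^^^ q) := by
      rw [mul_assoc (I.el s i), I.vel_mul hw4 hq, mul_assoc,
        ← I.vel_comm_el (xor_lt_four _ hw4 _ hq) s hi hW, ← mul_assoc]
    _ = _ := by
      rw [I.el_sq s hi hW, I.vel_mul (qu_lt _ hl) (xor_lt_four _ hw4 _ hq), Nat.xor_comm (qu _)]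

end Shift

end Inp

end Cfsg.Agent.Co3Inv
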