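import Cfsg.Agent.Lib.Co3Inv.FusedNorm
import Mathlib.Data.Set.Card

/-!
Recognition of the third Conway group, fusion of `e`: the elements centralizing the plane that move `e` by
the plane, as 64 points modulo the plane, with their squares.
-/

set_option autoImplicit false
set_option maxRecDepth 100000
set_option synthInstance.maxSize 10000

namespace Cfsg.Agent.Co3Inv

open Cfsg
open Cfsg.Agent.M12Cent (T setup₀)
open FusedModel (lapp qu swv swl sqm)

theorem chk_bits : ∀ k < 64, ∀ l < 64, (k ^^^ l) / 16 = k / 16 ^^^ l / 16 ∧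
    (k ^^^ l).testBit 0 = xor (k.testBit 0) (l.testBit 0) ∧
    (k ^^^ l) / 2 % 8 = k / 2 % 8 ^^^ l / 2 % 8 := by decide +kernel

theorem chk_point : ∀ s : Bool, ∀ l < 8, ∀ v < 4,
    16 * v + 2 * l + (bif s then 1 else 0) < 64 ∧
    (16 * v + 2 * l + (bif s then 1 else 0)).testBit 0 = s ∧
    (16 * v + 2 * l + (bif s then 1 else 0)) / 2 % 8 = l ∧
    (16 * v + 2 * l + (bif s then 1 else 0)) / 16 = v := by decide +kernel

theorem fused_chk_ext : ∀ k < 64, ∀ l < 64, k / 16 = l / 16 → k.testBit 0 = l.testBit 0 →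
    k / 2 % 8 = l / 2 % 8 → k = l := by decide +kernel

theorem chk_sqm : ∀ L ∈ [0, FusedModel.outerL], ∀ q < 4, ∀ d < 4, ∀ k < 64, sqm L q d k =
    ((bif k.testBit 0 then k / 16 else 0) ^^^
      (bif (k / 16).testBit 0 then lapp L (k / 2 % 8) else 0) ^^^
      (bif (k / 16).testBit 1 then swv (lapp L (swl (k / 2 % 8))) else 0)) ^^^
    (bif (k / 16).testBit 0 then (bif (k / 16).testBit 1 then d else q)
      else (bif (k / 16).testBit 1 then swv q else 0)) ^^^ qu (k / 2 % 8) := by decide +kernel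

theorem chk_two : ∀ v < 4, v = (bif v.testBit 0 then 1 else 0) ^^^ (bif v.testBit 1 then 2 else 0) := by
  decide

namespace Inp

variable {G : Type*} [Group G] (I : Inp G)

/-- The two translations, with their squares and that of their product. -/
structure Frame where
  n : G
  n₂ : G
  L : ℕ
  q : ℕ
  d : ℕ
  hL : L = 0 ∨ L = FusedModel.outerL
  q_lt : q < 4
  d_lt : d < 4
  hn : I.Shift n 1 L
  hn₂ : I.Shift n₂ 2 (permL swv swl L)
  sq_n : n * n = I.vel q
  sq_n₂ : n₂ * n₂ = I.vel (swv q)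
  sq_nn : n * n₂ * (n * n₂) = I.vel d

/-- The plane is fixed and `e` is moved by an element of the plane. -/
def InR (x : G) : Prop :=
  (∀ u < 4, x * I.vel u * x⁻¹ = I.vel u) ∧ ∃ v < 4, x * I.e * x⁻¹ = I.e * I.vel v

namespace Frame

variable {I} (F : I.Frame)

/-- A product of translations. -/
def tr (a b : Bool) : G := (bif a then F.n else 1) * (bif b then F.n₂ else 1)

/-- The representative of a point. -/
noncomputable def elt (k : ℕ) : G :=
  F.tr ((k / 16).testBit 0) ((k / 16).testBit 1) * I.el (k.testBit 0) (rep (k / 2 % 8))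

/-- The element is in the coset of the plane given by the point. -/
def Coset (k : ℕ) (x : G) : Prop := ∃ u < 4, x = F.elt k * I.vel u

theorem L_lt : F.L < 64 := F.hn.L_lt

theorem shift_tr (a b : Bool) : I.Shift (F.tr a b) ((bif a then 1 else 0) ^^^ (bif b then 2 else 0))
    ((bif a then F.L else 0) ^^^ (bif b then permL swv swl F.L else 0)) := by
  cases a <;> cases b <;> simp only [tr, cond_true, cond_false]
  · exact Shift.one.mul Shift.one
  · exact Shift.one.mul F.hn₂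
  · exact F.hn.mul Shift.one
  · exact F.hn.mul F.hn₂

theorem sq_tr (a b : Bool) : F.tr a b * F.tr a b =
    I.vel (bif a then (bif b then F.d else F.q) else (bif b then swv F.q else 0)) := by
  cases a <;> cases b <;> simp only [tr, cond_true, cond_false, one_mul, mul_one]
  · exact I.vel_zero.symm
  · exact F.sq_n₂
  · exact F.sq_n
  · exact F.sq_nn

theorem vel_comm_n (a b : Bool) {u : ℕ} (hu : u < 4) : F.tr a b * I.vel u = I.vel u * F.tr a b :=
  mul_inv_eq_iff_eq_mul.1 ((F.shift_tr a b).fixV u hu)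

/-- A shift for each point. -/
theorem shift_elt {k : ℕ} (hk : k < 64) : ∃ L', I.Shift (F.elt k) (k / 16) L' := by
  have hl : k / 2 % 8 < 8 := Nat.mod_lt _ (by norm_num)
  obtain ⟨hr, hrW, -⟩ := chk_rep _ hl
  have h := (F.shift_tr ((k / 16).testBit 0) ((k / 16).testBit 1)).mul
    (I.shift_el (k.testBit 0) hr hrW)
  rw [Nat.xor_zero, ← chk_two (k / 16) (by omega)] at h
  exact ⟨_, h⟩

theorem coset_elt {k : ℕ} : F.Coset k (F.elt k) := ⟨0, by norm_num, by rw [I.vel_zero, mul_one]⟩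

theorem coset_mul_vel {k : ℕ} {x : G} (h : F.Coset k x) {u : ℕ} (hu : u < 4) :
    F.Coset k (x * I.vel u) := by
  obtain ⟨w, hw, rfl⟩ := h
  exact ⟨w ^^^ u, xor_lt_four _ hw _ hu, by rw [mul_assoc, I.vel_mul hw hu]⟩

theorem coset_inR {k : ℕ} {x : G} (hk : k < 64) (h : F.Coset k x) :
    I.InR x ∧ x * I.e * x⁻¹ = I.e * I.vel (k / 16) := by
  obtain ⟨u, hu, rfl⟩ := h
  obtain ⟨L', hS⟩ := F.shift_elt hk
  have hve : I.vel u * I.e * (I.vel u)⁻¹ = I.e := by rw [vel, I.el_comm_e, mul_inv_cancel_right]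
  have key : ∀ y, F.elt k * I.vel u * y * (F.elt k * I.vel u)⁻¹ =
      F.elt k * (I.vel u * y * (I.vel u)⁻¹) * (F.elt k)⁻¹ := fun y => by group
  have he : F.elt k * I.vel u * I.e * (F.elt k * I.vel u)⁻¹ = I.e * I.vel (k / 16) := by
    rw [key, hve, hS.moveE]
  refine ⟨⟨fun w hw => ?_, k / 16, by omega, he⟩, he⟩
  rw [key, I.vel_mul hu hw, Nat.xor_comm, ← I.vel_mul hw hu, mul_inv_cancel_right, hS.fixV w hw]

theorem exists_coset {x : G} (hx : I.InR x) : ∃ k < 64, F.Coset k x := by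
  obtain ⟨hV, v, hv, he⟩ := hx
  have hS := F.shift_tr (v.testBit 0) (v.testBit 1)
  rw [← chk_two v hv] at hS
  set m := F.tr (v.testBit 0) (v.testBit 1) with hm
  have hi := hS.inv
  have hfix : ∀ u < 4, m⁻¹ * x * I.vel u = I.vel u * (m⁻¹ * x) := fun u hu => by
    refine mul_inv_eq_iff_eq_mul.1 ?_
    calc m⁻¹ * x * I.vel u * (m⁻¹ * x)⁻¹ = m⁻¹ * (x * I.vel u * x⁻¹) * m⁻¹⁻¹ := by group
      _ = _ := by rw [hV u hu, hi.fixV u hu]
  have hee : m⁻¹ * x * I.e = I.e * (m⁻¹ * x) := by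
    refine mul_inv_eq_iff_eq_mul.1 ?_
    calc m⁻¹ * x * I.e * (m⁻¹ * x)⁻¹ = m⁻¹ * (x * I.e * x⁻¹) * m⁻¹⁻¹ := by group
      _ = _ := by rw [he, ← conj_mul, hi.moveE, hi.fixV v hv, mul_assoc, I.vel_sq hv, mul_one]
  obtain ⟨s, i, hi', hiW, hel⟩ := I.cent_plane hee (by rw [← I.vel_one]; exact hfix 1 (by norm_num))
    (hfix 2 (by norm_num))
  obtain ⟨hl, -⟩ := chk_W' i hi' hiW
  obtain ⟨hk, hb, hlk, hvk⟩ := chk_point s (lab i) hl v hv
  obtain ⟨u, hu, heu⟩ := I.el_rep s hi' hiW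
  refine ⟨_, hk, u, hu, ?_⟩
  rw [elt, hb, hlk, hvk, ← hm, mul_assoc, ← heu, hel, mul_inv_cancel_left]

theorem coset_unique {k l : ℕ} {x : G} (hk : k < 64) (hl : l < 64) (h : F.Coset k x)
    (h' : F.Coset l x) : k = l := by
  have hv : k / 16 = l / 16 := I.vel_inj (by omega) (by omega)
    (mul_left_cancel ((F.coset_inR hk h).2.symm.trans (F.coset_inR hl h').2))
  obtain ⟨u, hu, rfl⟩ := h
  obtain ⟨u', hu', he⟩ := h'
  rw [elt, elt, hv, mul_assoc, mul_assoc, mul_right_inj] at he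
  have hk8 : k / 2 % 8 < 8 := Nat.mod_lt _ (by norm_num)
  have hl8 : l / 2 % 8 < 8 := Nat.mod_lt _ (by norm_num)
  rw [vel, vel, I.el_mul _ (lt_192 (chk_rep _ hk8).1) _ (lt_192 (chk_vi u hu).1),
    I.el_mul _ (lt_192 (chk_rep _ hl8).1) _ (lt_192 (chk_vi u' hu').1), Bool.xor_false,
    Bool.xor_false] at he
  obtain ⟨hb, hT⟩ := I.el_inj (M12Cent.T_lt (lt_192 (chk_rep _ hk8).1) (lt_192 (chk_vi u hu).1))
    (M12Cent.T_lt (lt_192 (chk_rep _ hl8).1) (lt_192 (chk_vi u' hu').1)) he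
  exact fused_chk_ext k hk l hl hv hb (chk_split _ hk8 u hu _ hl8 u' hu' hT).1

theorem coset_sq {k : ℕ} {x : G} (hk : k < 64) (h : F.Coset k x) :
    x * x = I.vel (sqm F.L F.q F.d k) := by
  obtain ⟨u, hu, rfl⟩ := h
  obtain ⟨L', hS⟩ := F.shift_elt hk
  have hc : F.elt k * I.vel u = I.vel u * F.elt k := mul_inv_eq_iff_eq_mul.1 (hS.fixV u hu)
  have hh : F.elt k * I.vel u * (F.elt k * I.vel u) = F.elt k * F.elt k := by
    rw [mul_assoc, ← mul_assoc (I.vel u), ← hc, mul_assoc, I.vel_sq hu, mul_one]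
  have hl : k / 2 % 8 < 8 := Nat.mod_lt _ (by norm_num)
  obtain ⟨hr, hrW, hrl⟩ := chk_rep _ hl
  rw [hh, elt]
  have hq : (bif (k / 16).testBit 0 then (bif (k / 16).testBit 1 then F.d else F.q)
      else (bif (k / 16).testBit 1 then swv F.q else 0)) < 4 := by
    cases (k / 16).testBit 0 <;> cases (k / 16).testBit 1
    · exact Nat.zero_lt_succ _
    · exact pl_sw.v_lt _ F.q_lt
    · exact F.q_lt
    · exact F.d_lt
  rw [(F.shift_tr _ _).sq_el hq (F.sq_tr _ _) _ hr hrW, hrl,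
    chk_sqm F.L (by rcases F.hL with h | h <;> rw [h] <;> decide) F.q F.q_lt F.d F.d_lt k hk]
  congr 3
  rw [← chk_two (k / 16) (by omega)]
  rcases F.hL with h | h <;> cases (k / 16).testBit 0 <;> cases (k / 16).testBit 1 <;>
    simp only [cond_true, cond_false] <;>
    first
      | rw [lapp_xor _ F.L_lt _ (pl_sw.perm _ F.L_lt).1 _ hl, (pl_sw.perm _ F.L_lt).2 _ hl, Nat.xor_assoc]
      | rw [Nat.zero_xor, (pl_sw.perm _ F.L_lt).2 _ hl, Nat.xor_zero]
      | simp only [Nat.xor_self, (lapp_zero 0 (by norm_num)).2 _ hl, Nat.xor_zero, Nat.zero_xor]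

/-- Two elements with squares in the plane and commuting with it commute modulo the plane, if the square
of their product is there too. -/
theorem swap {x y : G} {a b c : ℕ} (ha : a < 4) (hb : b < 4) (hc : c < 4) (hx : x * x = I.vel a)
    (hy : y * y = I.vel b) (hxy : x * y * (x * y) = I.vel c) (hvx : ∀ u < 4, x * I.vel u = I.vel u * x)
    (hvy : ∀ u < 4, y * I.vel u = I.vel u * y) : ∃ w < 4, y * x = x * y * I.vel w := by
  refine ⟨a ^^^ c ^^^ b, xor_lt_four _ (xor_lt_four _ ha _ hc) _ hb, ?_⟩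
  have hxi : x⁻¹ = x * I.vel a :=
    inv_eq_of_mul_eq_one_right (by rw [← mul_assoc, hx, I.vel_sq ha])
  have hyi : y⁻¹ = y * I.vel b :=
    inv_eq_of_mul_eq_one_right (by rw [← mul_assoc, hy, I.vel_sq hb])
  have hac := xor_lt_four _ ha _ hc
  calc y * x = x⁻¹ * (x * y * (x * y)) * y⁻¹ := by group
    _ = x * (I.vel (a ^^^ c) * y) * I.vel b := by
      rw [hxy, hxi, hyi, mul_assoc x, I.vel_mul ha hc]; simp only [mul_assoc]
    _ = x * (y * I.vel (a ^^^ c)) * I.vel b := by rw [hvy _ hac]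
    _ = _ := by rw [← I.vel_mul hac hb]; simp only [mul_assoc]

/-- Products of translations. -/
theorem tr_mul (a b a' b' : Bool) :
    ∃ w < 4, F.tr a b * F.tr a' b' = F.tr (xor a a') (xor b b') * I.vel w := by
  have hvn : ∀ u < 4, F.n * I.vel u = I.vel u * F.n := fun u hu =>
    mul_inv_eq_iff_eq_mul.1 (F.hn.fixV u hu)
  have hvn₂ : ∀ u < 4, F.n₂ * I.vel u = I.vel u * F.n₂ := fun u hu =>
    mul_inv_eq_iff_eq_mul.1 (F.hn₂.fixV u hu)
  obtain ⟨w, hw, hsw⟩ := swap F.q_lt (pl_sw.v_lt _ F.q_lt) F.d_lt F.sq_n F.sq_n₂ F.sq_nn hvn hvn₂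
  have hq2 := pl_sw.v_lt _ F.q_lt
  let pn : Bool → G := fun a => bif a then F.n else 1
  let pm : Bool → G := fun b => bif b then F.n₂ else 1
  have h1 : ∀ a a', ∃ x < 4, pn a * pn a' = pn (xor a a') * I.vel x := by
    intro a a'
    cases a <;> cases a' <;>
      simp only [pn, cond_true, cond_false, one_mul, mul_one, Bool.xor_false, Bool.xor_true, Bool.not_true,
        Bool.not_false]
    · exact ⟨0, Nat.zero_lt_succ _, I.vel_zero.symm⟩
    · exact ⟨0, Nat.zero_lt_succ _, by rw [I.vel_zero, mul_one]⟩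
    · exact ⟨0, Nat.zero_lt_succ _, by rw [I.vel_zero, mul_one]⟩
    · exact ⟨F.q, F.q_lt, F.sq_n⟩
  have h2 : ∀ b b', ∃ x < 4, pm b * pm b' = pm (xor b b') * I.vel x := by
    intro b b'
    cases b <;> cases b' <;>
      simp only [pm, cond_true, cond_false, one_mul, mul_one, Bool.xor_false, Bool.xor_true, Bool.not_true,
        Bool.not_false]
    · exact ⟨0, Nat.zero_lt_succ _, I.vel_zero.symm⟩
    · exact ⟨0, Nat.zero_lt_succ _, by rw [I.vel_zero, mul_one]⟩
    · exact ⟨0, Nat.zero_lt_succ _, by rw [I.vel_zero, mul_one]⟩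
    · exact ⟨_, hq2, F.sq_n₂⟩
  have h3 : ∀ b a', ∃ x < 4, pm b * pn a' = pn a' * pm b * I.vel x := by
    intro b a'
    cases b <;> cases a' <;> simp only [pn, pm, cond_true, cond_false, one_mul, mul_one]
    · exact ⟨0, Nat.zero_lt_succ _, I.vel_zero.symm⟩
    · exact ⟨0, Nat.zero_lt_succ _, by rw [I.vel_zero, mul_one]⟩
    · exact ⟨0, Nat.zero_lt_succ _, by rw [I.vel_zero, mul_one]⟩
    · exact ⟨w, hw, hsw⟩
  have hcm : ∀ b, ∀ u < 4, pm b * I.vel u = I.vel u * pm b := fun b u hu => by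
    cases b
    · simp only [pm, cond_false, one_mul, mul_one]
    · exact hvn₂ u hu
  obtain ⟨x1, hx1, e1⟩ := h1 a a'
  obtain ⟨x2, hx2, e2⟩ := h2 b b'
  obtain ⟨x3, hx3, e3⟩ := h3 b a'
  refine ⟨x1 ^^^ (x2 ^^^ x3), xor_lt_four _ hx1 _ (xor_lt_four _ hx2 _ hx3), ?_⟩
  show pn a * pm b * (pn a' * pm b') = pn (xor a a') * pm (xor b b') * _
  calc pn a * pm b * (pn a' * pm b') = pn a * (pm b * pn a') * pm b' := by simp only [mul_assoc]
    _ = pn a * pn a' * (pm b * (I.vel x3 * pm b')) := by rw [e3]; simp only [mul_assoc]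
    _ = pn a * pn a' * (pm b * pm b' * I.vel x3) := by rw [← hcm b' x3 hx3, mul_assoc (pm b)]
    _ = pn (xor a a') * (I.vel x1 * pm (xor b b')) * I.vel (x2 ^^^ x3) := by
      rw [e1, e2, mul_assoc (pm _), I.vel_mul hx2 hx3]; simp only [mul_assoc]
    _ = _ := by
      rw [← hcm _ x1 hx1, ← I.vel_mul hx1 (xor_lt_four _ hx2 _ hx3)]; simp only [mul_assoc]

theorem coset_mul {k l : ℕ} {x y : G} (hk : k < 64) (hl : l < 64) (h : F.Coset k x) (h' : F.Coset l y) :
    F.Coset (k ^^^ l) (x * y) := by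
  obtain ⟨u, hu, rfl⟩ := h
  obtain ⟨u', hu', rfl⟩ := h'
  obtain ⟨L', hS⟩ := F.shift_elt hl
  have hmid : F.elt k * I.vel u * (F.elt l * I.vel u') = F.elt k * F.elt l * I.vel u * I.vel u' := by
    have hc : F.elt l * I.vel u = I.vel u * F.elt l := mul_inv_eq_iff_eq_mul.1 (hS.fixV u hu)
    rw [← mul_assoc, mul_assoc (F.elt k), ← hc, ← mul_assoc]
  rw [hmid]
  refine F.coset_mul_vel (F.coset_mul_vel ?_ hu) hu'
  obtain ⟨h16, h0, h8⟩ := chk_bits k hk l hl
  have hk8 : k / 2 % 8 < 8 := Nat.mod_lt _ (by norm_num)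
  have hl8 : l / 2 % 8 < 8 := Nat.mod_lt _ (by norm_num)
  obtain ⟨hr, hrW, hrl⟩ := chk_rep _ hk8
  obtain ⟨hr', hrW', hrl'⟩ := chk_rep _ hl8
  set A := F.tr ((k / 16).testBit 0) ((k / 16).testBit 1) with hA
  set B := F.tr ((l / 16).testBit 0) ((l / 16).testBit 1) with hB
  set c := I.el (k.testBit 0) (rep (k / 2 % 8)) with hc
  set c' := I.el (l.testBit 0) (rep (l / 2 % 8)) with hc'
  have hSB := F.shift_tr ((l / 16).testBit 0) ((l / 16).testBit 1)
  rw [← hB] at hSB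
  have hBc := hSB.inv.conjEl (k.testBit 0) hr hrW
  rw [← hc, inv_inv] at hBc
  obtain ⟨w, hw, hAB⟩ := F.tr_mul ((k / 16).testBit 0) ((k / 16).testBit 1)
    ((l / 16).testBit 0) ((l / 16).testBit 1)
  rw [← hA, ← hB, ← Nat.testBit_xor, ← Nat.testBit_xor, ← h16] at hAB
  set C := F.tr (((k ^^^ l) / 16).testBit 0) (((k ^^^ l) / 16).testBit 1) with hC
  obtain ⟨j, hj, hjW, hjl, hje⟩ := I.el_mul_W (k.testBit 0) hr hrW (l.testBit 0) hr' hrW'
  rw [hrl, hrl', ← h8] at hjl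
  rw [← h0, ← hc, ← hc'] at hje
  obtain ⟨u₃, hu₃, hje'⟩ := I.el_rep ((k ^^^ l).testBit 0) hj hjW
  rw [hjl] at hje'
  have hz : ∃ z' < 4, B⁻¹ * c * B = c * I.vel z' := by
    refine ⟨_, ?_, hBc⟩
    refine xor_lt_four _ ?_ _ (lapp_lt _ hSB.L_lt _ (chk_W' _ hr hrW).1)
    cases k.testBit 0
    · exact Nat.zero_lt_succ _
    · exact hSB.v_lt
  obtain ⟨z', hz', hBc'⟩ := hz
  have hcc : I.vel z' * c' = c' * I.vel z' := (I.vel_comm_el hz' (l.testBit 0) hr' hrW').symm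
  refine ⟨w ^^^ (u₃ ^^^ z'), xor_lt_four _ hw _ (xor_lt_four _ hu₃ _ hz'), ?_⟩
  have hw' : ∀ (s : Bool) (i : ℕ), i < 64 → inW i = true → I.vel w * I.el s i = I.el s i * I.vel w :=
    fun s i hi hW => (I.vel_comm_el hw s hi hW).symm
  calc F.elt k * F.elt l = A * c * (B * c') := rfl
    _ = A * B * (B⁻¹ * c * B * c') := by group
    _ = C * I.vel w * (c * (c' * I.vel z')) := by rw [hAB, hBc', mul_assoc c, hcc]
    _ = C * (I.vel w * I.el ((k ^^^ l).testBit 0) j) * I.vel z' := by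
      rw [← mul_assoc c, hje]; simp only [mul_assoc]
    _ = C * (I.el ((k ^^^ l).testBit 0) (rep ((k ^^^ l) / 2 % 8)) * I.vel u₃ * I.vel w) * I.vel z' := by
      rw [hw' _ j hj hjW, ← hje']
    _ = _ := by
      rw [mul_assoc, mul_assoc, mul_assoc, I.vel_mul hw hz', I.vel_mul hu₃ (xor_lt_four _ hw _ hz'),
        elt, ← hC, ← mul_assoc, ← Nat.xor_assoc, ← Nat.xor_assoc, Nat.xor_comm u₃]

end Frame

end Inp

end Cfsg.Agent.Co3Inv
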