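import Cfsg.Agent.Lib.Co3Inv.FusedCoords
import Cfsg.Agent.S0111
import Cfsg.Prelude.Def_Transfer

/-!
Recognition of the third Conway group, fusion of `e`: the group `⟨e⟩ × S`, `S` Sylow in `C_{M₁₂}(t)`, is not
Sylow in `G` unless `e` is conjugate to `a`; then an element normalizing it moves `e` to `e z` and fixes the
plane.
-/

set_option autoImplicit false
set_option maxRecDepth 100000
set_option synthInstance.maxSize 10000

namespace Cfsg.Agent.Co3Inv

open Cfsg
open Cfsg.Agent.M12Cent (T cm isR setup₀)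

theorem chk_syl : (∀ i < 64, ∀ j < 64, T i j < 64) ∧ (∀ i < 64, cm i 1 = true) ∧
    (∀ i < 64, (∀ j < 64, cm i j = true) → i = 0 ∨ i = 1) ∧
    True ∧
    (∀ i < 64, T i i = 0 → i = 0 ∨ isTc i = true ∨ isR i = true) ∧
    (∀ i < 64, T i i = 0 → (∀ j < 64, T i j = T j i ∨ T i j = T 1 (T j i)) →
      i = 0 ∨ i = 1 ∨ i = 6 ∨ i = 9) ∧
    (∀ j < 64, cm 6 j = true ∨ T 6 j = T 1 (T j 6)) ∧
    (∃ j < 64, T j 9 = T 6 j ∧ cm j 1 = true) ∧ (∃ w < 64, T w w = 1) ∧
    cm 1 6 = true ∧ T 1 6 = 9 ∧ T 6 6 = 0 ∧ isTc 6 = true ∧ isTc 9 = true := by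
  decide +kernel

namespace Inp

variable {G : Type*} [Group G] [Finite G] (I : Inp G)

/-- The subgroup `⟨e⟩ × S`. -/
noncomputable def Tsub : Subgroup G :=
  M12Cent.ofClosed {x | ∃ s : Bool, ∃ i < 64, I.el s i = x} ⟨false, 0, by norm_num, I.el_zero⟩ (by
    rintro _ ⟨s, i, hi, rfl⟩ _ ⟨s', j, hj, rfl⟩
    exact ⟨xor s s', T i j, chk_syl.1 i hi j hj, (I.el_mul s (by omega) s' (by omega)).symm⟩)

theorem mem_Tsub {x : G} : x ∈ I.Tsub ↔ ∃ s : Bool, ∃ i < 64, I.el s i = x := Iff.rfl

theorem el_mem_Tsub (s : Bool) {i : ℕ} (hi : i < 64) : I.el s i ∈ I.Tsub := ⟨s, i, hi, rfl⟩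

theorem card_Tsub : Nat.card I.Tsub = 2 ^ 7 := by
  rw [Nat.card_congr (Equiv.ofBijective
    (fun p : Bool × Fin 64 => (⟨I.el p.1 p.2, p.1, p.2, p.2.2, rfl⟩ : I.Tsub)) ⟨fun a b h => ?_,
      fun ⟨x, s, i, hi, hx⟩ => ⟨(s, ⟨i, hi⟩), Subtype.ext hx⟩⟩).symm, Nat.card_prod]
  · simp
  · obtain ⟨h1, h2⟩ := I.el_inj (by omega) (by omega) (congrArg Subtype.val h)
    exact Prod.ext h1 (Fin.ext h2)

theorem Tsub_comm {x : G} (hx : x ∈ I.Tsub) : x * I.e = I.e * x ∧ x * I.z = I.z * x := by
  obtain ⟨s, i, hi, rfl⟩ := hx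
  exact ⟨I.el_comm_e s i, I.el_comm_z s (by omega)⟩

/-- A central element of `⟨e⟩ × S` among `1, e, z, e z`. -/
theorem Tsub_center {x : G} (hx : x ∈ I.Tsub) (h : ∀ y ∈ I.Tsub, x * y = y * x) :
    x = 1 ∨ x = I.e ∨ x = I.z ∨ x = I.e * I.z := by
  obtain ⟨s, i, hi, rfl⟩ := hx
  have hc : ∀ j < 64, cm i j = true := fun j hj =>
    (I.el_comm_iff (by omega) (by omega)).1 (h _ (I.el_mem_Tsub false hj))
  rcases chk_syl.2.2.1 i hi hc with rfl | rfl <;> cases s
  · exact Or.inl I.el_zero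
  · exact Or.inr (Or.inl I.el_e)
  · exact Or.inr (Or.inr (Or.inl I.el_z))
  · refine Or.inr (Or.inr (Or.inr ?_))
    rw [I.el_true, ← I.el_false, I.el_z]

/-- If `⟨e⟩ × S` is Sylow in `G`, then `e` is conjugate to `a`. -/
theorem conj_a_of_sylow (hO : I.e ∈ pResidual 2 G) (h : ¬ 2 ^ 8 ∣ Nat.card G) : IsConj I.e I.a := by
  haveI : Fact (Nat.Prime 2) := ⟨Nat.prime_two⟩
  obtain ⟨P, hP⟩ := (IsPGroup.of_card I.card_Tsub).exists_le_sylow
  have hPe : (P : Subgroup G) = I.Tsub := by
    refine (Subgroup.eq_of_le_of_card_ge hP ?_).symm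
    obtain ⟨m, hm⟩ := P.isPGroup'.exists_card_eq
    rw [hm, I.card_Tsub]
    refine Nat.pow_le_pow_right (by norm_num) (le_of_not_gt fun hlt => h ?_)
    exact (pow_dvd_pow 2 (by omega : 8 ≤ m)).trans (hm ▸ Subgroup.card_subgroup_dvd_card _)
  let Q : Subgroup G := M12Cent.ofClosed {x | ∃ i < 64, I.el false i = x}
    ⟨0, by norm_num, I.el_zero⟩ (by
      rintro _ ⟨i, hi, rfl⟩ _ ⟨j, hj, rfl⟩
      exact ⟨T i j, chk_syl.1 i hi j hj, (I.el_mul false (by omega) false (by omega)).symm⟩)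
  have hQP : Q ≤ (P : Subgroup G) := by
    rw [hPe]; rintro _ ⟨i, hi, rfl⟩; exact I.el_mem_Tsub false hi
  have hQc : Nat.card Q = 64 := by
    rw [Nat.card_congr (Equiv.ofBijective (fun i : Fin 64 => (⟨I.el false i, i, i.2, rfl⟩ : Q))
      ⟨fun a b h => Fin.ext (I.el_inj (by omega) (by omega) (congrArg Subtype.val h)).2,
        fun ⟨x, i, hi, hx⟩ => ⟨⟨i, hi⟩, Subtype.ext hx⟩⟩).symm]
    simp
  have hidx : Q.relIndex (P : Subgroup G) = 2 := by
    have h1 := Subgroup.index_mul_card (Q.subgroupOf (P : Subgroup G))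
    rw [Nat.card_congr (Subgroup.subgroupOfEquivOfLe hQP).toEquiv, hQc, hPe, I.card_Tsub] at h1
    show (Q.subgroupOf (P : Subgroup G)).index = 2
    rw [hPe]
    omega
  have hePm : I.e ∈ (P : Subgroup G) := by rw [hPe, ← I.el_e]; exact I.el_mem_Tsub true (by norm_num)
  have heQ : I.e ∉ Q := by
    rintro ⟨i, hi, he⟩
    rw [← I.el_e] at he
    exact Bool.false_ne_true (I.el_inj (by omega) (by norm_num) he).1
  rcases S0111.result P Q hQP hidx I.e I.he hePm heQ with ⟨N, hN, hN2, heN⟩ | ⟨g, i, hi, hg⟩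
  · refine absurd ((Subgroup.closure_le N).2 (fun x hx => ?_) hO) heN
    obtain ⟨k, hk⟩ := (Nat.coprime_two_right.1 hx)
    have h1 : x ^ 2 ∈ N := by
      have := Subgroup.sq_mem_of_index_two hN2 x
      exact this
    have h2 : x = (x ^ 2) ^ (k + 1) := by
      rw [← pow_mul, show 2 * (k + 1) = 2 * k + 1 + 1 by ring, pow_succ, ← hk, pow_orderOf_eq_one, one_mul]
    rw [SetLike.mem_coe, h2]
    exact pow_mem h1 _
  · have hii : T i i = 0 := by
      refine (I.el_inj (M12Cent.T_lt (by omega) (by omega)) (show 0 < 192 by norm_num)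
        (s := false) (s' := false) ?_).2
      rw [← Bool.xor_self false, ← I.el_mul false (by omega) false (by omega), hg, conj_mul, I.e_sq,
        mul_one, mul_inv_cancel, Bool.xor_self, I.el_zero]
    have hce : IsConj I.e (I.el false i) := hg ▸ M12Cent.isConj_conj g I.e
    rcases chk_syl.2.2.2.2.1 i hi hii with rfl | ht | hr
    · rw [I.el_zero] at hce
      exact absurd ((isConj_one_left).1 hce) I.e_ne
    · exact absurd hce (I.not_conj_tc (by omega) ht)
    · exact hce.trans (I.conj_a (by omega) hr).symm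

/-- If `⟨e⟩ × S` is not Sylow, an element moves `e` to `e z` and fixes the plane. -/
theorem exists_ez (h : 2 ^ 8 ∣ Nat.card G) :
    ∃ n : G, n * I.e * n⁻¹ = I.e * I.z ∧ n * I.z * n⁻¹ = I.z ∧
      n * I.el false 6 * n⁻¹ = I.el false 6 := by
  haveI : Fact (Nat.Prime 2) := ⟨Nat.prime_two⟩
  obtain ⟨K, hK, hTK⟩ := Sylow.exists_subgroup_card_pow_succ (p := 2) h I.card_Tsub
  have hK2 : Nat.card K = 2 * Nat.card I.Tsub := by rw [hK, I.card_Tsub]; norm_num
  obtain ⟨n, hnK, hnT⟩ : ∃ n ∈ K, n ∉ I.Tsub := by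
    by_contra hcon
    push Not at hcon
    have := Subgroup.card_le_of_le (hcon : K ≤ I.Tsub)
    rw [hK, I.card_Tsub] at this
    norm_num at this
  have hne : n * I.e ≠ I.e * n := by
    intro hc
    set C := Subgroup.centralizer ({I.e} : Set G)
    have hle : I.Tsub ≤ K ⊓ C := le_inf hTK fun x hx =>
      Subgroup.mem_centralizer_singleton_iff.2 (I.Tsub_comm hx).1
    have h1 : Nat.card ↥(K ⊓ C) ∣ Nat.gcd 256 190080 := Nat.dvd_gcd
      (by have := Subgroup.card_dvd_of_le (inf_le_left : K ⊓ C ≤ K); rwa [hK] at this)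
      (by have := Subgroup.card_dvd_of_le (inf_le_right : K ⊓ C ≤ C); rwa [I.card_cent] at this)
    have h2 : I.Tsub = K ⊓ C := Subgroup.eq_of_le_of_card_ge hle (by
      rw [I.card_Tsub]; exact Nat.le_of_dvd (by norm_num) h1)
    exact hnT (h2.symm ▸ Subgroup.mem_inf.2 ⟨hnK, Subgroup.mem_centralizer_singleton_iff.2 hc⟩)
  have hnorm : ∀ g ∈ K, ∀ x ∈ I.Tsub, g * x * g⁻¹ ∈ I.Tsub := fun g hg x hx =>
    M12Cent.conj_mem_of_double hTK hK2 hg hx
  have hcen : ∀ c, c ∈ I.Tsub → (∀ y ∈ I.Tsub, c * y = y * c) →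
      ∀ y ∈ I.Tsub, n * c * n⁻¹ * y = y * (n * c * n⁻¹) := by
    intro c hc hcc y hy
    have hy' := hnorm n⁻¹ (inv_mem hnK) y hy
    rw [inv_inv] at hy'
    calc n * c * n⁻¹ * y = n * (c * (n⁻¹ * y * n)) * n⁻¹ := by group
      _ = _ := by rw [hcc _ hy']; group
  have heT : I.e ∈ I.Tsub := by rw [← I.el_e]; exact I.el_mem_Tsub true (by norm_num)
  have hzT : I.z ∈ I.Tsub := by rw [← I.el_z]; exact I.el_mem_Tsub false (by norm_num)
  have hec : ∀ y ∈ I.Tsub, I.e * y = y * I.e := fun y hy => (I.Tsub_comm hy).1.symm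
  have hzc : ∀ y ∈ I.Tsub, I.z * y = y * I.z := fun y hy => (I.Tsub_comm hy).2.symm
  have hnz : n * I.z * n⁻¹ = I.z := by
    obtain ⟨w, hw, hww⟩ := chk_syl.2.2.2.2.2.2.2.2.1
    obtain ⟨s, j, hj, hej⟩ := hnorm n hnK _ (I.el_mem_Tsub false hw)
    have hsq : n * I.z * n⁻¹ = I.el false (T j j) := by
      rw [← Bool.xor_self s, ← I.el_mul s (by omega) s (by omega), hej, conj_mul,
        I.el_mul false (by omega) false (by omega), hww, Bool.xor_self, I.el_z]
    rcases I.Tsub_center (hnorm n hnK _ hzT) (hcen _ hzT hzc) with e | e | e | e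
    · rw [conj_eq_one_iff, ← I.el_z, ← I.el_zero] at e
      exact absurd (I.el_inj (by norm_num) (by norm_num) e).2 (by norm_num)
    · rw [e, ← I.el_e] at hsq
      exact absurd (I.el_inj (by norm_num) (M12Cent.T_lt (by omega) (by omega)) hsq).1 (by simp)
    · exact e
    · rw [e, ← I.el_z, ← I.el_e, I.el_mul true (by norm_num) false (by norm_num)] at hsq
      exact absurd (I.el_inj (M12Cent.T_lt (by norm_num) (by norm_num))
        (M12Cent.T_lt (by omega) (by omega)) hsq).1 (by simp)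
  have hne2 : n * I.e * n⁻¹ = I.e * I.z := by
    rcases I.Tsub_center (hnorm n hnK _ heT) (hcen _ heT hec) with e | e | e | e
    · exact absurd (conj_eq_one_iff.1 e) I.e_ne
    · exact absurd (mul_inv_eq_iff_eq_mul.1 e) hne
    · exact absurd (mul_left_cancel (mul_right_cancel (e.trans hnz.symm))).symm I.z_ne_e
    · exact e
  have h6T : I.el false 6 ∈ I.Tsub := I.el_mem_Tsub false (by norm_num)
  obtain ⟨s, i, hi, hei⟩ := hnorm n hnK _ h6T
  have hii : T i i = 0 := by
    refine (I.el_inj (M12Cent.T_lt (by omega) (by omega)) (show 0 < 192 by norm_num)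
      (s := false) (s' := false) ?_).2
    rw [← Bool.xor_self s, ← I.el_mul s (by omega) s (by omega), hei, conj_mul,
      I.el_mul false (by norm_num) false (by norm_num), chk_syl.2.2.2.2.2.2.2.2.2.2.2.1, Bool.xor_self,
      I.el_zero, mul_one, mul_inv_cancel, Bool.xor_self, I.el_zero]
  have hi4 : i = 0 ∨ i = 1 ∨ i = 6 ∨ i = 9 := by
    refine chk_syl.2.2.2.2.2.1 i hi hii fun j hj => ?_
    obtain ⟨s', k, hk, hek⟩ := hnorm n⁻¹ (inv_mem hnK) _ (I.el_mem_Tsub false hj)
    rw [inv_inv] at hek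
    have hy : I.el false j = n * I.el s' k * n⁻¹ := by rw [hek]; group
    rcases chk_syl.2.2.2.2.2.2.1 k hk with hc | hc
    · left
      have h1 : I.el false 6 * I.el s' k = I.el s' k * I.el false 6 :=
        (I.el_comm_iff (by norm_num) (by omega)).2 hc
      have h2 : I.el s i * I.el false j = I.el false j * I.el s i := by
        rw [hei, hy, conj_mul, conj_mul, h1]
      rw [I.el_mul s (by omega) false (by omega), I.el_mul false (by omega) s (by omega)] at h2
      exact (I.el_inj (M12Cent.T_lt (by omega) (by omega)) (M12Cent.T_lt (by omega) (by omega)) h2).2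
    · right
      have h1 : I.el false 6 * I.el s' k = I.z * (I.el s' k * I.el false 6) := by
        rw [← I.el_z, I.el_mul s' (by omega) false (by norm_num),
          I.el_mul false (by norm_num) s' (by omega),
          I.el_mul false (by norm_num) _ (M12Cent.T_lt (by omega) (by norm_num)), hc]
        simp
      have h2 : I.el s i * I.el false j = I.z * (I.el false j * I.el s i) := by
        rw [hei, hy, conj_mul, h1, ← conj_mul, hnz, ← conj_mul]
      rw [← I.el_z, I.el_mul s (by omega) false (by omega), I.el_mul false (by omega) s (by omega),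
        I.el_mul false (by norm_num) _ (M12Cent.T_lt (by omega) (by omega))] at h2
      exact (I.el_inj (M12Cent.T_lt (by omega) (by omega))
        (M12Cent.T_lt (by norm_num) (M12Cent.T_lt (by omega) (by omega))) h2).2
  have h6c : IsConj (I.el false 6) (I.el s i) := hei ▸ M12Cent.isConj_conj n _
  have hne6 := I.not_conj_tc (show 6 < 192 by norm_num) chk_syl.2.2.2.2.2.2.2.2.2.2.2.2.1
  have hse : ∀ k, k = 1 ∨ k = 6 ∨ k = 9 → IsConj I.e (I.el true k) := by
    intro k hk
    have hk192 : k < 192 := by omega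
    obtain ⟨c, hc⟩ := isConj_iff.1 (tclass hk192 (by rcases hk with rfl | rfl | rfl <;> decide +kernel))
    refine (isConj_iff.2 ⟨n, hne2⟩).trans (isConj_iff.2 ⟨I.ι c, ?_⟩)
    rw [← conj_mul, I.el_true, ← map_inv, ← map_mul, ← map_mul, hc, map_inv, I.comm, mul_inv_cancel_right]
  have h69 : i = 6 ∨ i = 9 := by
    rcases hi4 with rfl | rfl | h | h
    · cases s
      · rw [I.el_zero] at h6c
        refine absurd ((isConj_one_left).1 h6c) fun h => ?_
        rw [← I.el_zero] at h
        exact absurd (I.el_inj (by norm_num) (by norm_num) h).2 (by norm_num)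
      · rw [I.el_e] at h6c
        exact absurd h6c.symm hne6
    · cases s
      · rw [I.el_z] at hei
        have h := mul_left_cancel (mul_right_cancel (hei.symm.trans hnz.symm))
        rw [← I.el_z] at h
        exact absurd (I.el_inj (by norm_num) (by norm_num) h).2 (by norm_num)
      · exact absurd ((hse 1 (Or.inl rfl)).trans h6c.symm) hne6
    · exact Or.inl h
    · exact Or.inr h
  cases s
  · rcases h69 with rfl | rfl
    · exact ⟨n, hne2, hnz, hei.symm⟩
    · obtain ⟨j, hj, hj9, hj1⟩ := chk_syl.2.2.2.2.2.2.2.1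
      refine ⟨I.el false j * n, ?_, ?_, ?_⟩
      · calc I.el false j * n * I.e * (I.el false j * n)⁻¹
            = I.el false j * (n * I.e * n⁻¹) * (I.el false j)⁻¹ := by group
          _ = _ := by
            rw [hne2, ← conj_mul, I.el_comm_e, mul_inv_cancel_right, I.el_comm_z false (by omega),
              mul_inv_cancel_right]
      · calc I.el false j * n * I.z * (I.el false j * n)⁻¹
            = I.el false j * (n * I.z * n⁻¹) * (I.el false j)⁻¹ := by group
          _ = _ := by rw [hnz, I.el_comm_z false (by omega), mul_inv_cancel_right]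
      · calc I.el false j * n * I.el false 6 * (I.el false j * n)⁻¹
            = I.el false j * (n * I.el false 6 * n⁻¹) * (I.el false j)⁻¹ := by group
          _ = _ := by
            rw [← hei, mul_inv_eq_iff_eq_mul, I.el_mul false (by omega) false (by norm_num),
              I.el_mul false (by norm_num) false (by omega), hj9]
  · exact absurd ((hse i (Or.inr h69)).trans h6c.symm) hne6

end Inp

end Cfsg.Agent.Co3Inv
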