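import Cfsg.Agent.Lib.Co3Inv.FusedSpace

/-!
Recognition of the third Conway group, fusion of `e`: conjugates of the translation that fix the plane and
move `e` by a coset of the plane, and their maps of the 64 points.
-/

set_option autoImplicit false
set_option maxRecDepth 100000
set_option synthInstance.maxSize 10000

namespace Cfsg.Agent.Co3Inv

open Cfsg
open Cfsg.Agent.M12Cent (T cm setup₀)
open FusedModel (lapp qu swv swl sqm)

/-- An element of the centralizer of `t` carries the two involutions into `W`, near the plane. -/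
def cubeWit (i j : ℕ) : Bool :=
  (List.range 192).any fun h => (List.range 64).any fun a => inW a && Nat.beq (T h i) (T a h) &&
    (List.range 64).any fun b => inW b && Nat.beq (T h j) (T b h) &&
      (Nat.beq (lab a) (lab b) || Nat.beq (lab a) 0 || Nat.beq (lab b) 0)

/-- Two commuting involutions and their product, in the class of `t` also after multiplying by `t`. -/
def cubeCond (i j : ℕ) : Bool :=
  isTc j && cm i j && !(Nat.beq i 1) && !(Nat.beq j 1) && !(Nat.beq (T i j) 1) && isTc (T i j) &&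
    isTc (T 1 i) && isTc (T 1 j) && isTc (T 1 (T i j))

theorem chk_cube : ∀ i < 192, isTc i = true → ∀ j < 192, cubeCond i j = true → cubeWit i j = true := by
  decide +kernel

theorem cube {i j : ℕ} (hi : i < 192) (hit : isTc i = true) (hj : j < 192) (h : cubeCond i j = true) :
    ∃ h < 192, ∃ a < 64, ∃ b < 64, inW a = true ∧ inW b = true ∧ T h i = T a h ∧ T h j = T b h ∧
      (lab a = lab b ∨ lab a = 0 ∨ lab b = 0) := by
  have hw := chk_cube i hi hit j hj h
  simp only [cubeWit, List.any_eq_true, List.mem_range, Bool.and_eq_true, Bool.or_eq_true, Nat.beq_eq] at hw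
  obtain ⟨g, hg, a, ha, ⟨haW, hta⟩, b, hb, ⟨hbW, htb⟩, hl⟩ := hw
  exact ⟨g, hg, a, ha, b, hb, haW, hbW, hta, htb, or_assoc.1 hl⟩

theorem chk_fix : ∀ L ∈ [0, FusedModel.outerL], ∀ l ∈ [0, 1, 3, 5, 7], ∃ j < 64, inW j = true ∧
    lapp (L ^^^ inn j) l = 0 ∧ (L = 0 → j = 0) := by decide +kernel

theorem chk_wlab : ∀ w < 64, inW w = true → lab w = 3 ∨ lab w = 5 ∨ lab w = 7 →
    isTc w = true ∧ cm w 6 = true ∧ isTc (T w 1) = true ∧ isTc (T w 6) = true ∧
      isTc (T w 9) = true ∧ w ≠ 1 ∧ w ≠ 6 ∧ w ≠ 9 ∧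
      (∀ i < 64, inW i = true → cm i w = true → lab i = 0 ∨ lab i = lab w) ∧
      (inW (T 1 w) = true ∧ lab (T 1 w) = lab w) := by decide +kernel

theorem chk_tc : (∀ i < 192, T i i = 0 → i = 0 ∨ isTc i = true ∨ M12Cent.isR i = true) ∧
    (∀ i < 192, isTc i = true → T i i = 0 ∧ i ≠ 0) ∧ isTc 6 = true ∧ isTc 9 = true ∧ T 1 6 = 9 ∧
    vi 1 = 1 ∧ vi 2 = 6 ∧ vi 3 = 9 := by
  decide +kernel

theorem chk_invW : ∀ a < 64, inW a = true → T a a = 0 → lab a ∈ [0, 1, 3, 5, 7] := by decide +kernel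

theorem tclass_idx {i : ℕ} (hi : i < 192) (h : IsConj setup₀.t (setup₀.el i)) : isTc i = true := by
  obtain ⟨c, hc⟩ := isConj_iff.1 h
  have h2 : setup₀.el i * setup₀.el i = 1 := by rw [← hc, conj_mul, setup₀.t_sq, mul_one, mul_inv_cancel]
  rw [setup₀.mul i hi i hi, ← setup₀.el_zero] at h2
  rcases chk_tc.1 i hi (setup₀.inj _ (M12Cent.T_lt hi hi) 0 (by norm_num) h2) with rfl | h' | h'
  · rw [setup₀.el_zero, conj_eq_one_iff] at hc
    exact absurd hc setup₀.t_ne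
  · exact h'
  · exact absurd (h.trans (Inp.rclass hi h').symm) setup₀.not_tr

namespace Inp

variable {G : Type*} [Group G] (I : Inp G)

/-- An element fixing the plane and `el false w` and moving `e` to `e` times it. -/
structure Mover (t : G) (w : ℕ) : Prop where
  fixV : ∀ u < 4, t * I.vel u * t⁻¹ = I.vel u
  moveE : t * I.e * t⁻¹ = I.e * I.el false w
  fixw : t * I.el false w * t⁻¹ = I.el false w

theorem exists_mover {n : G} {L : ℕ} (hL : L = 0 ∨ L = FusedModel.outerL) (hn : I.Shift n 1 L) {w : ℕ}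
    (hw : w < 64) (hwW : inW w = true) (hl : lab w = 3 ∨ lab w = 5 ∨ lab w = 7) :
    ∃ g m : G, g * I.e = I.e * g ∧ (∃ L', I.Shift m 1 L') ∧ (L = 0 → m = n) ∧
      I.Mover (g⁻¹ * m * g) w := by
  obtain ⟨hwt, hw6, hw1, hwp, hwq, hne1, hne6, hne9, -, -⟩ := chk_wlab w hw hwW hl
  obtain ⟨k, hk⟩ := isConj_iff.1 (tclass (lt_192 hw) hwt)
  have hkt : k⁻¹ * setup₀.el w * k⁻¹⁻¹ = setup₀.t := by rw [← hk]; group
  set ki := k⁻¹ with hki
  have conjT : ∀ x < 192, cm x w = true → ∃ i < 192, setup₀.el i = ki * setup₀.el x * ki⁻¹ := by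
    intro x hx hc
    refine (setup₀.mem _).1 ?_
    rw [← hkt, M12Cent.conj_comm_iff]
    exact (setup₀.comm_iff hx (lt_192 hw)).2 hc
  have hw1' : cm 1 w = true := by
    refine (setup₀.comm_iff (by norm_num) (lt_192 hw)).1 ?_
    rw [setup₀.el_one]; exact (setup₀.el_comm (lt_192 hw)).symm
  have h6w : cm 6 w = true := by rw [cm, Nat.beq_eq] at hw6 ⊢; exact hw6.symm
  obtain ⟨i, hi, hei⟩ := conjT 1 (by norm_num) hw1'
  obtain ⟨j, hj, hej⟩ := conjT 6 (by norm_num) h6w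
  have hij : setup₀.el (T i j) = ki * setup₀.el 9 * ki⁻¹ := by
    rw [← setup₀.mul i hi j hj, hei, hej, conj_mul, setup₀.mul 1 (by norm_num) 6 (by norm_num),
      chk_tc.2.2.2.2.1]
  have inv : ∀ x < 192, isTc x = true → setup₀.el x * setup₀.el x = 1 := fun x hx h => by
    rw [setup₀.mul x hx x hx, (chk_tc.2.1 x hx h).1 , setup₀.el_zero]
  have mk : ∀ {x a : ℕ}, x < 192 → a < 192 → isTc x = true → setup₀.el a = ki * setup₀.el x * ki⁻¹ →
      x ≠ w → isTc (T w x) = true → isTc a = true ∧ a ≠ 1 ∧ isTc (T 1 a) = true := by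
    intro x a hx ha hxt he hxw hwx
    refine ⟨tclass_idx ha ((tclass hx hxt).trans (he ▸ M12Cent.isConj_conj ki _)), fun h1 => ?_, ?_⟩
    · rw [h1, setup₀.el_one, ← hkt] at he
      exact hxw (setup₀.inj x hx w (lt_192 hw) (mul_left_cancel (mul_right_cancel he)).symm)
    · refine tclass_idx (M12Cent.T_lt (by norm_num) ha) ((tclass (M12Cent.T_lt (lt_192 hw) hx) hwx).trans ?_)
      refine isConj_iff.2 ⟨ki, ?_⟩
      rw [← setup₀.mul w (lt_192 hw) x hx, ← conj_mul, hkt, ← he, ← setup₀.el_one,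
        setup₀.mul 1 (by norm_num) a ha]
  obtain ⟨hi1, hi2, hi3⟩ := mk (x := 1) (by norm_num) hi (by decide +kernel) hei hne1.symm hw1
  obtain ⟨hj1, hj2, hj3⟩ := mk (x := 6) (by norm_num) hj chk_tc.2.2.1 hej hne6.symm hwp
  obtain ⟨hk1, hk2, hk3⟩ := mk (x := 9) (by norm_num) (M12Cent.T_lt hi hj) chk_tc.2.2.2.1 hij hne9.symm hwq
  have hcm : cm i j = true := by
    refine (setup₀.comm_iff hi hj).1 ?_
    rw [hei, hej, M12Cent.conj_comm_iff, setup₀.el_one]
    exact (setup₀.el_comm (by norm_num)).symm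
  obtain ⟨h, hh, a, ha, b, hb, haW, hbW, hta, htb, hlab⟩ :=
    cube hi hi1 hj (by
      simp only [cubeCond, hj1, hcm, hk1, hi3, hj3, hk3, Bool.and_true, Bool.and_eq_true, Bool.not_eq_true']
      exact ⟨⟨⟨trivial, Bool.eq_false_iff.2 fun e => hi2 (Nat.eq_of_beq_eq_true e)⟩,
        Bool.eq_false_iff.2 fun e => hj2 (Nat.eq_of_beq_eq_true e)⟩,
        Bool.eq_false_iff.2 fun e => hk2 (Nat.eq_of_beq_eq_true e)⟩)
  have invol : ∀ x a, x < 192 → a < 64 → isTc x = true → inW a = true → T h x = T a h →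
      setup₀.el h * setup₀.el x * (setup₀.el h)⁻¹ = setup₀.el a ∧ lab a ∈ [0, 1, 3, 5, 7] := by
    intro x a hx ha hxt haW he
    have he' : setup₀.el h * setup₀.el x * (setup₀.el h)⁻¹ = setup₀.el a := by
      rw [mul_inv_eq_iff_eq_mul, setup₀.mul h hh x hx, setup₀.mul a (lt_192 ha) h hh, he]
    refine ⟨he', chk_invW a ha haW (setup₀.inj _ (M12Cent.T_lt (lt_192 ha) (lt_192 ha)) 0 (by norm_num) ?_)⟩
    rw [← setup₀.mul a (lt_192 ha) a (lt_192 ha), ← he', conj_mul, inv x hx hxt, mul_one, mul_inv_cancel,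
      setup₀.el_zero]
  obtain ⟨hea, hla⟩ := invol i a hi ha hi1 haW hta
  obtain ⟨heb, hlb⟩ := invol j b hj hb hj1 hbW htb
  set l := bif Nat.beq (lab a) 0 then lab b else lab a with hldef
  have hl' : l ∈ [0, 1, 3, 5, 7] := by
    rw [hldef]; cases Nat.beq (lab a) 0
    · exact hla
    · exact hlb
  have hab : (lab a = 0 ∨ lab a = l) ∧ (lab b = 0 ∨ lab b = l) := by
    rw [hldef]
    cases h0 : Nat.beq (lab a) 0
    · have hne : lab a ≠ 0 := fun h => by rw [h] at h0; exact absurd h0 (by decide)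
      rcases hlab with h | h | h
      · exact ⟨Or.inr rfl, Or.inr h.symm⟩
      · exact absurd h hne
      · exact ⟨Or.inr rfl, Or.inl h⟩
    · exact ⟨Or.inl (Nat.eq_of_beq_eq_true h0), Or.inr rfl⟩
  obtain ⟨c, hc, hcW, hc0, hcL⟩ := chk_fix L (by rcases hL with rfl | rfl <;> simp) l hl'
  have hm := hn.mul (I.shift_el false hc hcW)
  rw [Nat.xor_zero] at hm
  set m := n * I.el false c with hmdef
  set g := I.ι (setup₀.el h * ki) with hg
  have hm0 : ∀ x, x < 64 → inW x = true → (lab x = 0 ∨ lab x = l) →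
      m * I.el false x * m⁻¹ = I.el false x := by
    intro x hx hxW hxl
    rw [hm.conjW hx hxW]
    rcases hxl with e | e <;> rw [e]
    · rw [(lapp_zero _ hm.L_lt).1, I.vel_zero, mul_one]
    · rw [hc0, I.vel_zero, mul_one]
  have hgV : ∀ x y, x < 192 → ki * setup₀.el x * ki⁻¹ = setup₀.el y →
      ∀ a, setup₀.el h * setup₀.el y * (setup₀.el h)⁻¹ = setup₀.el a →
      g * I.el false x * g⁻¹ = I.el false a := by
    intro x y _ hy a ha
    rw [I.el_false, I.el_false, hg, ← map_inv, ← map_mul, ← map_mul, ← ha, ← hy]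
    congr 1
  have hg1 : g * I.el false 1 * g⁻¹ = I.el false a := hgV 1 i (by norm_num) hei.symm a hea
  have hg2 : g * I.el false 6 * g⁻¹ = I.el false b := hgV 6 j (by norm_num) hej.symm b heb
  have hgw : g * I.el false w * g⁻¹ = I.z := by
    rw [← I.el_z]
    refine hgV w 1 (lt_192 hw) (by rw [hkt, setup₀.el_one]) 1 ?_
    rw [setup₀.el_one, setup₀.el_comm hh, mul_inv_cancel_right]
  have hge : g * I.e = I.e * g := I.comm _
  have back : ∀ x y y', g * x * g⁻¹ = y → m * y * m⁻¹ = y' →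
      g⁻¹ * m * g * x * (g⁻¹ * m * g)⁻¹ = g⁻¹ * y' * g := fun x y y' h1 h2 => by
    rw [← h2, ← h1]; group
  have fix : ∀ x y, g * x * g⁻¹ = y → m * y * m⁻¹ = y →
      g⁻¹ * m * g * x * (g⁻¹ * m * g)⁻¹ = x := fun x y h1 h2 => by
    rw [back x y y h1 h2, ← h1]; group
  refine ⟨g, m, hge, ⟨_, hm⟩, fun h0 => ?_, ⟨fun u hu => ?_, ?_, ?_⟩⟩
  · rw [hmdef, hcL h0, I.el_zero, mul_one]
  · have h1 : g⁻¹ * m * g * I.vel 1 * (g⁻¹ * m * g)⁻¹ = I.vel 1 := by
      rw [vel, chk_tc.2.2.2.2.2.1]; exact fix _ _ hg1 (hm0 a ha haW hab.1)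
    have h2 : g⁻¹ * m * g * I.vel 2 * (g⁻¹ * m * g)⁻¹ = I.vel 2 := by
      rw [vel, chk_tc.2.2.2.2.2.2.1]; exact fix _ _ hg2 (hm0 b hb hbW hab.2)
    interval_cases u
    · rw [I.vel_zero, mul_one, mul_inv_cancel]
    · exact h1
    · exact h2
    · rw [show I.vel 3 = I.vel 1 * I.vel 2 from (I.vel_mul (a := 1) (b := 2) (by norm_num) (by norm_num)).symm,
        ← conj_mul, h1, h2]
  · have h1 : g * I.e * g⁻¹ = I.e := by rw [hge, mul_inv_cancel_right]
    rw [back _ _ _ h1 (hm.moveE.trans (by rw [I.vel_one]))]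
    calc g⁻¹ * (I.e * I.z) * g = g⁻¹ * I.e * g * (g⁻¹ * I.z * g) := by group
      _ = _ := by
        rw [show g⁻¹ * I.e * g = I.e by rw [mul_assoc, ← hge, inv_mul_cancel_left],
          show g⁻¹ * I.z * g = I.el false w by rw [← hgw]; group]
  · exact fix _ _ hgw (by rw [← I.vel_one]; exact hm.fixV 1 (by norm_num))

variable {I} in
/-- The map of the points given by a mover. -/
theorem Mover.exists_map [Finite G] {t : G} {w : ℕ} (M : I.Mover t w) (F : I.Frame) (hw : w < 64)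
    (hwW : inW w = true) {c : ℕ} (hc : c < 4) (hlw : lab w = 1 + 2 * c) :
    ∃ f : ℕ → ℕ, FusedModel.TMap F.L F.q F.d c f ∧
      (∀ k < 64, ∀ x, F.Coset k x → F.Coset (f k) (t * x * t⁻¹)) ∧
      (∀ x, I.InR x → I.InR (t * x * t⁻¹)) := by
  classical
  set y := I.e * I.el false w with hy
  let D : Set G := {x | (∀ u < 4, x * I.vel u * x⁻¹ = I.vel u) ∧ ∃ v < 4, x * y * x⁻¹ = y * I.vel v}
  have himg : (fun x => t * x * t⁻¹) '' {x | I.InR x} = D := by
    have key : ∀ x a, t * x * t⁻¹ * (t * a * t⁻¹) * (t * x * t⁻¹)⁻¹ = t * (x * a * x⁻¹) * t⁻¹ :=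
      fun x a => by group
    ext z
    constructor
    · rintro ⟨x, ⟨hV, v, hv, he⟩, rfl⟩
      refine ⟨fun u hu => ?_, v, hv, ?_⟩
      · show t * x * t⁻¹ * I.vel u * (t * x * t⁻¹)⁻¹ = I.vel u
        conv_lhs => rw [← M.fixV u hu]
        rw [key, hV u hu, M.fixV u hu]
      · show t * x * t⁻¹ * y * (t * x * t⁻¹)⁻¹ = y * I.vel v
        rw [hy, ← M.moveE, key, he, ← conj_mul, M.moveE, M.fixV v hv]
    · rintro ⟨hV, v, hv, he⟩
      refine ⟨t⁻¹ * z * t, ⟨fun u hu => ?_, v, hv, ?_⟩, by group⟩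
      · calc t⁻¹ * z * t * I.vel u * (t⁻¹ * z * t)⁻¹ = t⁻¹ * (z * (t * I.vel u * t⁻¹) * z⁻¹) * t := by group
          _ = t⁻¹ * (t * I.vel u * t⁻¹) * t := by rw [M.fixV u hu, hV u hu]
          _ = _ := by group
      · calc t⁻¹ * z * t * I.e * (t⁻¹ * z * t)⁻¹ = t⁻¹ * (z * (t * I.e * t⁻¹) * z⁻¹) * t := by group
          _ = t⁻¹ * (t * I.e * t⁻¹ * (t * I.vel v * t⁻¹)) * t := by
            rw [M.moveE, ← hy, he, M.fixV v hv]
          _ = _ := by group
  have hsub : {x | I.InR x} ⊆ D := fun x hx => by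
    obtain ⟨k, hk, hcos⟩ := F.exists_coset hx
    obtain ⟨hR, he⟩ := F.coset_inR hk hcos
    obtain ⟨u, hu, rfl⟩ := hcos
    obtain ⟨L', hS⟩ := F.shift_elt hk
    refine ⟨hR.1, k / 16 ^^^ lapp L' (lab w), xor_lt_four _ (by omega) _
      (lapp_lt _ hS.L_lt _ (chk_W' w hw hwW).1), ?_⟩
    rw [hy, ← I.el_true_eq]
    calc F.elt k * I.vel u * I.el true w * (F.elt k * I.vel u)⁻¹
        = F.elt k * (I.vel u * I.el true w * (I.vel u)⁻¹) * (F.elt k)⁻¹ := by group
      _ = _ := by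
        rw [← I.vel_comm_el hu true hw hwW, mul_inv_cancel_right, hS.conjEl true hw hwW, cond_true]
  have hDR : D = {x | I.InR x} := by
    refine (Set.eq_of_subset_of_ncard_le hsub ?_ (Set.toFinite _)).symm
    rw [← himg, Set.ncard_image_of_injective _ fun a b h => mul_left_cancel (mul_right_cancel h)]
  have hR : ∀ x, I.InR x → I.InR (t * x * t⁻¹) := fun x hx => by
    have : t * x * t⁻¹ ∈ {x | I.InR x} := hDR ▸ himg ▸ ⟨x, hx, rfl⟩
    exact this
  have hex : ∀ k, ∃ j, k < 64 → j < 64 ∧ F.Coset j (t * F.elt k * t⁻¹) := fun k => by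
    by_cases hk : k < 64
    · obtain ⟨j, hj, h⟩ := F.exists_coset (hR _ (F.coset_inR hk F.coset_elt).1)
      exact ⟨j, fun _ => ⟨hj, h⟩⟩
    · exact ⟨0, fun h => absurd h hk⟩
  choose f hf using hex
  have hmap : ∀ k < 64, ∀ x, F.Coset k x → F.Coset (f k) (t * x * t⁻¹) := by
    rintro k hk _ ⟨u, hu, rfl⟩
    rw [← conj_mul, M.fixV u hu]
    exact F.coset_mul_vel (hf k hk).2 hu
  have h8 := (chk_W' w hw hwW).1
  have hval : ∀ (b : Bool), F.Coset (2 * lab w + (bif b then 1 else 0)) (I.el b w) := fun b => by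
    obtain ⟨hlt, hb, hlk, hvk⟩ := chk_point b (lab w) h8 0 (by norm_num)
    simp only [Nat.mul_zero, Nat.zero_add] at hlt hb hlk hvk
    obtain ⟨u, hu, he⟩ := I.el_rep b hw hwW
    refine ⟨u, hu, ?_⟩
    rw [he, Frame.elt, hb, hlk, hvk]
    simp [Frame.tr]
  have hwc : ∀ c < 4, FusedModel.wc c = 2 * (1 + 2 * c) ∧ 1 ^^^ FusedModel.wc c = 2 * (1 + 2 * c) + 1 ∧
      FusedModel.wc c < 64 := by decide
  obtain ⟨hwc1, hwc2, hwc3⟩ := hwc c hc
  refine ⟨f, ⟨fun k hk => (hf k hk).1, fun k hk l hl => ?_, fun k hk l hl h => ?_, fun k hk => ?_, ?_, ?_⟩,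
    hmap, hR⟩
  · refine F.coset_unique (hf _ (fused_xor_lt_64 hk hl)).1 (fused_xor_lt_64 (hf k hk).1 (hf l hl).1)
      (hmap _ (fused_xor_lt_64 hk hl) _ (F.coset_mul hk hl F.coset_elt F.coset_elt)) ?_
    rw [← conj_mul]
    exact F.coset_mul (hf k hk).1 (hf l hl).1 (hf k hk).2 (hf l hl).2
  · obtain ⟨u, hu, h1⟩ := (hf k hk).2
    obtain ⟨u', hu', h2⟩ := (hf l hl).2
    rw [h] at h1
    have h12 : t * F.elt k * t⁻¹ = t * (F.elt l * I.vel (u' ^^^ u)) * t⁻¹ := by
      rw [← conj_mul, M.fixV _ (xor_lt_four _ hu' _ hu), h2, h1, mul_assoc, I.vel_mul hu'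
        (xor_lt_four _ hu' _ hu), ← Nat.xor_assoc, Nat.xor_self, Nat.zero_xor]
    exact F.coset_unique hk hl F.coset_elt ⟨_, xor_lt_four _ hu' _ hu,
      mul_left_cancel (mul_right_cancel h12)⟩
  · have h1 : t * F.elt k * t⁻¹ * (t * F.elt k * t⁻¹) = t * (F.elt k * F.elt k) * t⁻¹ := by group
    rw [F.coset_sq (hf k hk).1 (hf k hk).2, F.coset_sq hk F.coset_elt] at h1
    have hs : ∀ j < 64, sqm F.L F.q F.d j < 4 := fun j hj => by
      have : ∀ L ∈ [0, FusedModel.outerL], ∀ q < 4, ∀ d < 4, ∀ j < 64, sqm L q d j < 4 := by decide +kernel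
      exact this F.L (by rcases F.hL with h | h <;> rw [h] <;> decide) F.q F.q_lt F.d F.d_lt j hj
    rw [M.fixV _ (hs k hk)] at h1
    exact I.vel_inj (hs _ (hf k hk).1) (hs k hk) h1
  · rw [hwc2]
    refine F.coset_unique (hf 1 (by norm_num)).1 (by omega) (hf 1 (by norm_num)).2 ?_
    have he1 : F.elt 1 = I.e := by
      rw [Frame.elt, show Nat.testBit (1 / 16) 0 = false from rfl, show Nat.testBit (1 / 16) 1 = false from rfl,
        show Nat.testBit 1 0 = true from rfl, show rep (1 / 2 % 8) = 0 from rfl, I.el_e]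
      simp [Frame.tr]
    rw [he1, M.moveE, ← hy, hy, ← I.el_true_eq, ← hlw]
    exact hval true
  · rw [hwc1]
    have hlt : 2 * (1 + 2 * c) < 64 := by omega
    refine F.coset_unique (hf _ hlt).1 hlt ?_ (by rw [← hlw]; exact hval false)
    rw [← M.fixw]
    exact hmap _ hlt _ (by rw [← hlw]; exact hval false)

end Inp

end Cfsg.Agent.Co3Inv
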