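import Cfsg.Agent.Lib.Compute.PermCert

/-!
Recognition of the third Conway group: the stabilizer of a maximal isotropic subspace of the six-dimensional
symplectic space over two elements, by codes: a symmetric matrix has six bits (11, 12, 13, 22, 23, 33), an
invertible matrix nine (bit `3r + c`).
-/

set_option autoImplicit false
set_option maxRecDepth 100000

namespace Cfsg.Agent.Co3Inv

open Cfsg.Agent.PermCert

/-- The squares of the lifts of the symmetric matrices. -/
def qS (S : ℕ) : Bool := Nat.testBit 14094412179365171114 S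

/-- The invertible non-alternating symmetric matrices. -/
def kS (S : ℕ) : Bool := Nat.testBit 4352331894338809856 S

/-- The commutator of the lifts. -/
def bS (S S' : ℕ) : Bool := qS (S ^^^ S') ^^ qS S ^^ qS S'

/-- Off the orthogonal of the identity matrix. -/
def oS (S : ℕ) : Bool := bS S 41

/-- A linear map given by six images, six bits each. -/
def apS (c S : ℕ) : ℕ :=
  (List.range 6).foldl (fun acc k => bif S.testBit k then acc ^^^ get 6 c k else acc) 0

/-- The index pair of a coordinate. -/
def idx1 (k : ℕ) : ℕ := get 2 (0 + 4 * (0 + 4 * (0 + 4 * (1 + 4 * (1 + 4 * 2))))) k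

/-- The index pair of a coordinate. -/
def idx2 (k : ℕ) : ℕ := get 2 (0 + 4 * (1 + 4 * (2 + 4 * (1 + 4 * (2 + 4 * 2))))) k

/-- An entry of a matrix. -/
def ent (M r c : ℕ) : Bool := M.testBit (3 * r + c)

/-- The image of the `k`-th coordinate under congruence by a matrix. -/
def imgK (M k : ℕ) : ℕ :=
  (List.range 6).foldl (fun acc p =>
    bif ((ent M (idx1 p) (idx1 k) && ent M (idx2 p) (idx2 k)) ^^
      (!Nat.beq (idx1 k) (idx2 k) && ent M (idx1 p) (idx2 k) && ent M (idx2 p) (idx1 k)))
    then acc + 2 ^ p else acc) 0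

/-- The congruence of a symmetric matrix by a matrix. -/
def actS (M S : ℕ) : ℕ :=
  (List.range 6).foldl (fun acc k => bif S.testBit k then acc ^^^ imgK M k else acc) 0

/-- The product of two matrices. -/
def mm (M N : ℕ) : ℕ :=
  (List.range 9).foldl (fun acc p =>
    bif (ent M (p / 3) 0 && ent N 0 (p % 3)) ^^ (ent M (p / 3) 1 && ent N 1 (p % 3)) ^^
      (ent M (p / 3) 2 && ent N 2 (p % 3))
    then acc + 2 ^ p else acc) 0

theorem xor_lt_64 {a b : ℕ} (ha : a < 64) (hb : b < 64) : a ^^^ b < 64 :=
  Nat.xor_lt_two_pow (n := 6) ha hb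

end Cfsg.Agent.Co3Inv
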