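import Cfsg.Agent.Lib.Co3Inv.Tbl
import Cfsg.Agent.Lib.Co3Inv.Model

/-!
Recognition of the third Conway group: the radical in the coordinates of symmetric matrices, checked facts.
-/

set_option autoImplicit false
set_option maxRecDepth 100000

namespace Cfsg.Agent.Co3Inv

open Cfsg.Agent.PermCert

/-- The code of the part in `R₀` of a symmetric matrix. -/
def tabS (S : ℕ) : ℕ := get 9 92766246465056862084429868943832001351342858673218405952491773762960409740992083891581582637616180476614477818878580350514685260559503979663545696664960683024480469496734720 S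

/-- The coordinates of a symmetric matrix in a basis of the orthogonal of the identity. -/
def coefS (S : ℕ) : ℕ := get 5 2083752531871526174461149869273975448120869059275602179023554921868565278530976673076260896800 S

/-- The basis of the orthogonal of the identity. -/
def basisS (k : ℕ) : ℕ := get 6 (1 + 64 * (6 + 64 * (8 + 64 * (18 + 64 * 32)))) k

/-- The combination of the basis with given coordinates. -/
def combS (m : ℕ) : ℕ :=
  (List.range 5).foldl (fun acc k => bif m.testBit k then acc ^^^ basisS k else acc) 0

/-- The linear function with given values on the basis. -/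
def linS (β S : ℕ) : Bool :=
  (List.range 5).foldl (fun acc k => bif (coefS S).testBit k then acc ^^ β.testBit k else acc) false

/-- The part in the orthogonal of the identity. -/
def inS (S : ℕ) : ℕ := bif oS S then S ^^^ 22 else S

theorem chk_tabS : allBelow (fun S => Nat.blt (tabS S) 384 && in0 (tabS S) &&
    (hQ (tabS S) == qS (inS S)) && (oS S || hK (tabS S) == kS S) &&
    allBelow (fun S' =>
      (Nat.beq (hT (tabS S) (tabS S')) (tabS (S ^^^ S')) ||
        Nat.beq (hT (hT (tabS S) (tabS S')) 1) (tabS (S ^^^ S'))) &&
      (!hcm (tabS S) (tabS S') == bS (inS S) (inS S')) && (oS (S ^^^ S') == (oS S ^^ oS S')) &&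
      (oS S || oS S' || Nat.beq S S' ||
        !(Nat.beq (tabS S') (tabS S) || Nat.beq (tabS S') (hT (tabS S) 1)))) 64) 64 = true := by
  decide +kernel

theorem chk_cover : allBelow (fun a => !in0 a || (List.range 64).any fun S =>
    !oS S && (Nat.beq (tabS S) a || Nat.beq (hT (tabS S) 1) a)) 384 = true := by decide +kernel

theorem chk_coefS : allBelow (fun S => oS S || Nat.beq (combS (coefS S)) S) 64 = true ∧
    allBelow (fun k => !oS (basisS k) && Nat.blt (basisS k) 64) 5 = true ∧ coefS 41 = 21 ∧ oS 22 = true ∧
    tabS 22 = 0 ∧ tabS 0 = 0 ∧ tabS 41 = 192 ∧ qS 0 = false ∧ inS 22 = 0 := by decide +kernel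

theorem chk_lin : allBelow (fun S => oS S ||
    (linS 21 S == bS 22 S && allBelow (fun k => linS (2 ^ k) S == (coefS S).testBit k) 5)) 64 = true := by
  decide +kernel

/-- A swap can be normalized. -/
theorem chk_norm : allBelow (fun β => !linS β 41 || allBelow (fun qr => (List.range 64).any fun u =>
    !oS u && allBelow (fun k =>
        (β.testBit k ^^ bS u (basisS k)) == bS 22 (basisS k)) 5 &&
      ((Nat.beq qr 1 ^^ qS u ^^ linS β u) == qS 22)) 2) 32 = true := by decide +kernel

end Cfsg.Agent.Co3Inv
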