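import Cfsg.Agent.Lib.Co3Inv.NormData
import Cfsg.Agent.Lib.Co3Inv.RadData

/-!
Recognition of the third Conway group: the checks on the action of the normalizer of the radical.
-/

set_option autoImplicit false
set_option maxRecDepth 100000

namespace Cfsg.Agent.Co3Inv

open Cfsg.Agent.PermCert

/-- The symmetric matrix with given coordinates in the enumeration basis. -/
def domS (j : ℕ) : ℕ := get 6 domC j

/-- The coordinates of a symmetric matrix in the enumeration basis. -/
def crdS (S : ℕ) : ℕ := get 6 crdC S

/-- The six images of a partial table. -/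
def keyT (tab : List ℕ) : ℕ :=
  (List.range 6).foldl (fun acc k => acc + 2 ^ (6 * k) * tab.getD (crdS (2 ^ k)) 0) 0

/-- The map of a letter: one of the six matrices, or the mover. -/
def letAct (t i S : ℕ) : ℕ := bif Nat.blt i 6 then actS (s6.getD i 0) S else apS t S

/-- The map of a word, the last letter acting first. -/
def wAct (t : ℕ) : List ℕ → ℕ → ℕ
  | [], S => S
  | i :: w, S => letAct t i (wAct t w S)

/-- A verdict holds for a candidate. -/
def vOK (t v : ℕ) (w : List ℕ) (a : ℕ) : Bool :=
  bif Nat.beq v 1 then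
    !oS a && Nat.blt a 64 && !oS (wAct t w a) && !(kS a == kS (wAct t w a))
  else bif Nat.beq v 2 then
    Nat.beq (wAct t w 41) 41 &&
      s6.all fun M => (List.range 64).any fun S => !Nat.beq (wAct t w S) (actS M S)
  else bif Nat.beq v 0 then
    match w with
    | [i] => Nat.blt i 6 && allBelow (fun S => Nat.beq (apS t (actS (s6.getD i 0) S)) (apS t0C S)) 64
    | _ => false
  else
    match w with
    | [i] => Nat.blt i 6 && allBelow (fun S => Nat.beq (apS t (actS (s6.getD i 0) S)) (apS tbC S)) 64
    | _ => false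

/-- All extensions of a partial table have a verdict. -/
def enum : ℕ → List ℕ → Bool
  | 0, tab =>
    verdicts.any fun p => Nat.beq p.1 (keyT tab) &&
      allBelow (fun S => Nat.beq (tab.getD (crdS S) 0) (apS p.1 S)) 64 && vOK p.1 p.2.1 p.2.2.1 p.2.2.2
  | fuel + 1, tab => allBelow (fun v =>
      (Nat.beq tab.length 1 && !Nat.beq v 60) || tab.any (fun w => Nat.beq w v) ||
      !allBelow (fun j =>
        qS (domS (tab.length + j)) == qS (tab.getD j 0 ^^^ v) &&
          (oS (domS (tab.length + j)) || oS (tab.getD j 0 ^^^ v) ||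
            kS (domS (tab.length + j)) == kS (tab.getD j 0 ^^^ v))) tab.length ||
      enum fuel (tab ++ tab.map (fun w => w ^^^ v))) 64

theorem chk_enum : enum 6 [0] = true := by decide +kernel

theorem chk_coord : allBelow (fun S => Nat.blt (crdS S) 64 && Nat.beq (domS (crdS S)) S &&
    Nat.blt (domS S) 64 && allBelow (fun j => Nat.beq (domS (S ^^^ j)) (domS S ^^^ domS j)) 64) 64 = true ∧
    domS 0 = 0 ∧ domS 1 = 41 ∧ oS 60 = false ∧ kS 60 = true := by decide +kernel

theorem chk_s6 : allBelow (fun S => allBelow (fun i =>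
    Nat.blt (actS (s6.getD i 0) S) 64 && (oS (actS (s6.getD i 0) S) == oS S)) 6) 64 = true ∧
    allBelow (fun i => Nat.beq (actS (s6.getD i 0) 41) 41 &&
      (List.range 384).any (fun n => allBelow (fun a => oS a ||
        Nat.beq (hT n (tabS a)) (hT (tabS (actS (s6.getD i 0) a)) n) ||
        Nat.beq (hT n (tabS a)) (hT (hT (tabS (actS (s6.getD i 0) a)) n) 1)) 64)) 6 = true := by
  decide +kernel

theorem chk_H : allBelow (fun n => (List.range 6).any fun i => allBelow (fun a => oS a ||
    Nat.beq (hT n (tabS a)) (hT (tabS (actS (s6.getD i 0) a)) n) ||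
    Nat.beq (hT n (tabS a)) (hT (hT (tabS (actS (s6.getD i 0) a)) n) 1)) 64) 384 = true := by
  decide +kernel

/-- Two elements of the centralizer of the image of `e` with the same action on the orthogonal agree. -/
theorem chk_ext : allBelow (fun i => allBelow (fun c =>
    !(oS c && (qS c == qS 22) && allBelow (fun k =>
      qS (actS (s6.getD i 0) (basisS k) ^^^ c) == qS (basisS k ^^^ 22)) 5) ||
    Nat.beq c (actS (s6.getD i 0) 22)) 64) 6 = true := by decide +kernel

theorem chk_jj : allBelow (fun S => Nat.blt (apS jjC S) 64 && Nat.beq (apS jiC (apS jjC S)) S &&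
    Nat.beq (apS jjC (apS jiC S)) S && (qS (apS jiC S) == qS S) && (kS (apS jiC S) == kS S) &&
    (oS (apS jiC S) == oS S) && Nat.blt (apS jiC S) 64 &&
    Nat.beq (apS jjC (apS tbC (apS jiC S))) (apS t0bC S) &&
    allBelow (fun T => Nat.beq (apS jiC (S ^^^ T)) (apS jiC S ^^^ apS jiC T)) 64) 64 = true ∧
    apS jiC 41 = 41 ∧
    allBelow (fun i => (List.range 6).any fun j => allBelow (fun S =>
      Nat.beq (apS jjC (actS (s6.getD j 0) (apS jiC S))) (actS (s6.getD i 0) S)) 64) 6 = true ∧
    allBelow (fun S => Nat.beq (wAct t0bC t0Word S) (apS t0C S)) 64 = true := by decide +kernel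

theorem chk_glWords : glWords.all (fun p => Nat.blt p.1 512 &&
    allBelow (fun S => Nat.beq (wAct t0C p.2 S) (actS p.1 S)) 64) = true ∧
    allBelow (fun c => !kS c || glWords.any (fun p => Nat.beq (actS p.1 41) c)) 64 = true ∧
    allBelow (fun c => !oS c || (List.range 64).any (fun b => !oS b && (kS b == kS c) &&
      glWords.any (fun p => Nat.beq (actS p.1 b) c))) 64 = true := by decide +kernel

theorem chk_stab : glWords.all (fun p => !Nat.beq (actS p.1 41) 41 || s6.any fun M => Nat.beq M p.1) = true ∧
    s6.all (fun M => glWords.any fun p => Nat.beq p.1 M) = true := by decide +kernel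

end Cfsg.Agent.Co3Inv
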