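import Cfsg.Agent.Lib.Co3Inv.Rad
import Cfsg.Agent.Lib.Co3Inv.NormCheck

/-!
Recognition of the third Conway group: the normalizer of the radical acts on it as the linear group in
dimension three on the symmetric matrices.
-/

set_option autoImplicit false

namespace Cfsg.Agent.Co3Inv

open Cfsg.Agent.PermCert

/-- Conjugation by `x` acts on the radical as `f`. -/
def Maps {X : Type*} [Group X] (θ : ℕ → X) (x : X) (f : ℕ → ℕ) : Prop :=
  ∀ a < 64, x * θ a * x⁻¹ = θ (f a)

theorem Maps.mul {X : Type*} [Group X] {θ : ℕ → X} {x y : X} {f g : ℕ → ℕ} (hx : Maps θ x f)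
    (hy : Maps θ y g) (hg : ∀ a < 64, g a < 64) : Maps θ (x * y) (fun a => f (g a)) := fun a ha => by
  rw [← hx _ (hg a ha), ← hy a ha]; group

theorem apS_lt (c : ℕ) {S : ℕ} : apS c S < 64 := by
  suffices h : ∀ (l : List ℕ) (acc : ℕ), acc < 64 →
      l.foldl (fun acc k => bif S.testBit k then acc ^^^ get 6 c k else acc) acc < 64 from h _ 0 (by norm_num)
  intro l
  induction l with
  | nil => exact fun acc h => h
  | cons k l ih =>
    intro acc h
    rw [List.foldl_cons]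
    refine ih _ ?_
    cases S.testBit k
    · exact h
    · exact xor_lt_64 h (get_lt 6 c k)

theorem imgK_lt (M k : ℕ) : imgK M k < 64 := by
  have h : ∀ (n : ℕ) (b : ℕ → Bool),
      (List.range n).foldl (fun acc p => bif b p then acc + 2 ^ p else acc) 0 < 2 ^ n := by
    intro n b
    induction n with
    | zero => simp
    | succ n ih =>
      rw [List.range_succ, List.foldl_append, List.foldl_cons, List.foldl_nil, pow_succ]
      cases b n <;> simp only [cond_true, cond_false] <;> omega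
  exact h 6 _

theorem actS_lt (M : ℕ) {S : ℕ} : actS M S < 64 := by
  suffices h : ∀ (l : List ℕ) (acc : ℕ), acc < 64 →
      l.foldl (fun acc k => bif S.testBit k then acc ^^^ imgK M k else acc) acc < 64 from h _ 0 (by norm_num)
  intro l
  induction l with
  | nil => exact fun acc h => h
  | cons k l ih =>
    intro acc h
    rw [List.foldl_cons]
    refine ih _ ?_
    cases S.testBit k
    · exact h
    · exact xor_lt_64 h (imgK_lt M k)

theorem wAct_lt (t : ℕ) : ∀ (w : List ℕ) {S : ℕ}, S < 64 → wAct t w S < 64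
  | [], _, h => h
  | i :: w, S, h => by
    show letAct t i (wAct t w S) < 64
    rw [letAct]
    cases Nat.blt i 6
    · exact apS_lt t
    · exact actS_lt _

/-- The radical with a normalized mover. -/
structure Pre {G : Type*} [Group G] (S : Setup G) where
  θ : ℕ → S.X
  hom : ∀ a < 64, ∀ b < 64, θ a * θ b = θ (a ^^^ b)
  inj : ∀ a < 64, θ a = 1 → a = 0
  e_eq : θ 41 = S.ebar
  q_eq : ∀ a < 64, S.qx (θ a) = qS a
  K_in : ∀ a < 64, oS a = false → (S.Kx (θ a) ↔ kS a = true)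
  cent : ∀ x : S.X, x * S.ebar = S.ebar * x → (∀ a < 64, oS a = false → x * θ a = θ a * x) →
    ∃ a < 64, θ a = x
  gens : ∀ i < 6, ∃ x, Maps θ x (actS (s6.getD i 0))
  stab : ∀ x : S.X, x * S.ebar = S.ebar * x → ∃ i < 6, Maps θ x (actS (s6.getD i 0))
  mover : ∃ y, Maps θ y (apS t0C)

theorem eq_of_theta {G : Type*} [Group G] {S : Setup G} {θ : ℕ → S.X}
    (hom : ∀ a < 64, ∀ b < 64, θ a * θ b = θ (a ^^^ b)) (inj : ∀ a < 64, θ a = 1 → a = 0)
    {a b : ℕ} (ha : a < 64) (hb : b < 64) (h : θ a = θ b) : a = b := by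
  have h0 : θ (b ^^^ b) = 1 := by
    rw [Nat.xor_self]
    have := hom 0 (by norm_num) 0 (by norm_num)
    rwa [Nat.xor_self, mul_eq_left] at this
  exact Nat.xor_eq_zero_iff.1 (inj _ (xor_lt_64 ha hb) (by rw [← hom a ha b hb, h, hom b hb b hb, h0]))

theorem exists_word {G : Type*} [Group G] {S : Setup G} {θ : ℕ → S.X} {y : S.X} {t : ℕ}
    (gens : ∀ i < 6, ∃ x, Maps θ x (actS (s6.getD i 0))) (hy : Maps θ y (apS t)) :
    ∀ w : List ℕ, ∃ x, Maps θ x (wAct t w)
  | [] => ⟨1, fun a _ => by rw [one_mul, inv_one, mul_one]; rfl⟩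
  | i :: w => by
    obtain ⟨x, hx⟩ := exists_word gens hy w
    cases h : Nat.blt i 6
    · refine ⟨y * x, fun a ha => ?_⟩
      rw [hy.mul hx (fun a ha => wAct_lt t w ha) a ha]
      show θ (apS t (wAct t w a)) = θ (letAct t i (wAct t w a))
      rw [letAct, h, cond_false]
    · obtain ⟨g, hg⟩ := gens i (Nat.blt_eq ▸ h)
      refine ⟨g * x, fun a ha => ?_⟩
      rw [hg.mul hx (fun a ha => wAct_lt t w ha) a ha]
      show θ (actS _ (wAct t w a)) = θ (letAct t i (wAct t w a))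
      rw [letAct, h, cond_true]

theorem xor_pow {k j : ℕ} (hk : k < 6) (hj : j < 2 ^ k) : 2 ^ k + j = 2 ^ k ^^^ j := by
  have h : ∀ k : Fin 6, ∀ j : Fin 64, (j : ℕ) < 2 ^ (k : ℕ) → 2 ^ (k : ℕ) + j = 2 ^ (k : ℕ) ^^^ (j : ℕ) := by
    decide +kernel
  exact h ⟨k, hk⟩ ⟨j, lt_of_lt_of_le hj (le_trans (Nat.pow_le_pow_right (by norm_num) hk.le) (by norm_num))⟩ hj

theorem enum_sound (f : ℕ → ℕ) (hlt : ∀ j < 64, f j < 64) (hadd : ∀ i < 64, ∀ j < 64, f (i ^^^ j) = f i ^^^ f j)
    (h1 : f 1 = 60) (hinj : ∀ i < 64, ∀ j < 64, f i = f j → i = j)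
    (hq : ∀ j < 64, qS (domS j) = qS (f j))
    (hk : ∀ j < 64, oS (domS j) = false → oS (f j) = false → kS (domS j) = kS (f j)) :
    ∀ fuel k, k + fuel = 6 → enum fuel ((List.range (2 ^ k)).map f) = true →
      ∃ p ∈ verdicts, vOK p.1 p.2.1 p.2.2.1 p.2.2.2 = true ∧ ∀ S < 64, f (crdS S) = apS p.1 S := by
  intro fuel
  induction fuel with
  | zero =>
    intro k hk6 he
    obtain rfl : k = 6 := by omega
    simp only [enum, List.any_eq_true, Bool.and_eq_true] at he
    obtain ⟨p, hp, ⟨-, htab⟩, hv⟩ := he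
    refine ⟨p, hp, hv, fun S hS => ?_⟩
    have h := allBelow_spec _ _ htab S hS
    have hc := allBelow_spec _ _ chk_coord.1 S hS
    simp only [Bool.and_eq_true, Nat.blt_eq] at hc
    rw [List.getD_eq_getElem _ _ (by simpa using hc.1.1.1), List.getElem_map, List.getElem_range,
      Nat.beq_eq] at h
    exact h
  | succ fuel ih =>
    intro k hk6 he
    have hk' : k < 6 := by omega
    have hp64 : 2 ^ k < 64 := lt_of_lt_of_le (Nat.pow_lt_pow_right (by norm_num) hk') le_rfl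
    have hge : ∀ j < 2 ^ k, 2 ^ k + j < 64 := fun j hj => by
      have : 2 ^ (k + 1) ≤ 2 ^ 6 := Nat.pow_le_pow_right (by norm_num) hk'
      rw [pow_succ] at this
      omega
    have h := allBelow_spec _ _ (show _ = true from he) (f (2 ^ k)) (hlt _ hp64)
    simp only [Bool.or_eq_true, Bool.and_eq_true, Bool.not_eq_true', List.any_eq_true, List.mem_map,
      List.mem_range, Nat.beq_eq, List.length_map, List.length_range] at h
    have hnext : (List.range (2 ^ k)).map f ++ ((List.range (2 ^ k)).map f).map (fun w => w ^^^ f (2 ^ k)) =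
        (List.range (2 ^ (k + 1))).map f := by
      rw [pow_succ, Nat.mul_two, List.range_add, List.map_append, List.map_map, List.map_map]
      refine congrArg _ (List.map_congr_left fun j hj => ?_)
      have hj' := List.mem_range.1 hj
      show f j ^^^ f (2 ^ k) = f (2 ^ k + j)
      rw [xor_pow hk' hj', hadd _ hp64 _ (lt_trans hj' hp64), Nat.xor_comm]
    rcases h with ((⟨hk0, hne⟩ | ⟨w, ⟨j, hj, rfl⟩, hw⟩) | hfail) | h
    · exfalso
      obtain rfl : k = 0 := by
        rcases Nat.eq_zero_or_pos k with h0 | h0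
        · exact h0
        · exact absurd hk0 (Nat.one_lt_two_pow h0.ne').ne'
      rw [pow_zero, h1] at hne
      simp at hne
    · exact absurd (hinj j (lt_trans hj hp64) _ hp64 hw) hj.ne
    · exfalso
      rw [Bool.eq_false_iff] at hfail
      apply hfail
      refine allBelow_of_forall _ _ fun j hj => ?_
      rw [List.getD_eq_getElem _ _ (by simpa using hj), List.getElem_map, List.getElem_range]
      have e : f j ^^^ f (2 ^ k) = f (2 ^ k + j) := by
        rw [xor_pow hk' hj, hadd _ hp64 _ (lt_trans hj hp64), Nat.xor_comm]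
      rw [e]
      simp only [Bool.and_eq_true, Bool.or_eq_true, beq_iff_eq]
      refine ⟨hq _ (hge j hj), ?_⟩
      cases o1 : oS (domS (2 ^ k + j))
      · cases o2 : oS (f (2 ^ k + j))
        · exact Or.inr (hk _ (hge j hj) o1 o2)
        · exact Or.inl (Or.inr rfl)
      · exact Or.inl (Or.inl rfl)
    · rw [hnext] at h
      exact ih (k + 1) (by omega) h
where
  allBelow_of_forall (f : ℕ → Bool) : ∀ n, (∀ i < n, f i = true) → allBelow f n = true := by
    intro n hn
    induction n with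
    | zero => rfl
    | succ n ih =>
      show (allBelow f n && f n) = true
      rw [hn n (Nat.lt_succ_self n), ih fun i hi => hn i (Nat.lt_succ_of_lt hi)]
      rfl

theorem s6_getD_mem {i : ℕ} (hi : i < 6) : s6.getD i 0 ∈ s6 :=
  (by decide +kernel : ∀ j : Fin 6, s6.getD j 0 ∈ s6) ⟨i, hi⟩

namespace Rad

variable {G : Type*} [Group G] {S : Setup G} (R : Rad S)

theorem maps_of_hb {n : ℕ} {i : ℕ} (hi : i < 6)
    (h : allBelow (fun a => oS a || Nat.beq (hT n (tabS a)) (hT (tabS (actS (s6.getD i 0) a)) n) ||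
      Nat.beq (hT n (tabS a)) (hT (hT (tabS (actS (s6.getD i 0) a)) n) 1)) 64 = true)
    (hcomm : S.hb n * S.ebar = S.ebar * S.hb n) :
    Maps R.θ (S.hb n) (actS (s6.getD i 0)) := by
  set x := S.hb n
  set M := s6.getD i 0 with hM
  have hs := fun a (ha : a < 64) => allBelow_spec _ _ (allBelow_spec _ _ chk_s6.1 a ha) i hi
  simp only [Bool.and_eq_true, beq_iff_eq] at hs
  have hin : ∀ a < 64, oS a = false → x * R.θ a * x⁻¹ = R.θ (actS M a) := by
    intro a ha o
    have h1 := allBelow_spec _ _ h a ha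
    simp only [o, Bool.false_or, Bool.or_eq_true, Nat.beq_eq] at h1
    rw [R.tab_eq a ha o, R.tab_eq _ (actS_lt M) ((hs a ha).2.trans o), mul_inv_eq_iff_eq_mul,
      S.hb_mul, S.hb_mul, S.hb_eq_iff (hT_lt _ _) (hT_lt _ _)]
    rcases h1 with h1 | h1
    · exact Or.inl h1.symm
    · right
      rw [h1]
      exact S.h_inj (hT_lt _ _) (hT_lt _ _) (by
        rw [← S.h_mul _ 1, ← S.h_mul _ 1, S.h_one, mul_assoc, S.z_sq, mul_one])
  obtain ⟨c, hc, hc22⟩ := R.normal x hcomm 22 (by norm_num)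
  have hc' : x * R.θ 22 * x⁻¹ = R.θ c := hc22
  have hqb : ∀ b < 64, oS b = false → qS (actS M b ^^^ c) = qS (b ^^^ 22) := by
    intro b hb o
    rw [← R.q_eq _ (xor_lt_64 (actS_lt M) hc), ← R.hom _ (actS_lt M) _ hc, ← hin b hb o, ← hc',
      show x * R.θ b * x⁻¹ * (x * R.θ 22 * x⁻¹) = x * (R.θ b * R.θ 22) * x⁻¹ by group, S.qx_conj,
      R.hom b hb 22 (by norm_num), R.q_eq _ (xor_lt_64 hb (by norm_num))]
  have hqc : qS c = qS 22 := by
    rw [← R.q_eq c hc, ← hc', S.qx_conj, R.q_eq 22 (by norm_num)]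
  have hoc : oS c = true := by
    have h41 : oS 41 = false := by decide +kernel
    have e41 : actS M 41 = 41 := by
      have := allBelow_spec _ _ chk_s6.2 i hi
      simp only [Bool.and_eq_true, Nat.beq_eq] at this
      exact this.1
    have h1 := hqb 41 (by norm_num) h41
    rw [e41] at h1
    rw [oS, bS, Nat.xor_comm, h1, hqc]
    decide +kernel
  have hext := allBelow_spec _ _ (allBelow_spec _ _ chk_ext i hi) c hc
  rw [← hM, hoc, hqc] at hext
  simp only [beq_self_eq_true, Bool.and_true, Bool.true_and, Bool.or_eq_true, Bool.not_eq_true',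
    Nat.beq_eq] at hext
  have hcM : c = actS M 22 := by
    refine hext.resolve_left ?_
    rw [Bool.not_eq_false]
    refine enum_sound.allBelow_of_forall _ _ fun k hk => ?_
    have hb := allBelow_spec _ _ chk_coefS.2.1 k hk
    simp only [Bool.and_eq_true, Bool.not_eq_true', Nat.blt_eq] at hb
    rw [beq_iff_eq]
    exact hqb _ hb.2 hb.1
  intro a ha
  cases o : oS a
  · exact hin a ha o
  · have ob : oS (a ^^^ 22) = false := by
      rw [oS_xor ha (by norm_num), o, chk_coefS.2.2.2.1]; rfl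
    have hlin : actS M a = actS M (a ^^^ 22) ^^^ actS M 22 := by
      rw [hM]; exact lin6 i hi a ha
    rw [hlin, ← R.hom _ (actS_lt M) _ (actS_lt M), ← hin _ (xor_lt_64 ha (by norm_num)) ob, ← hcM, ← hc',
      show x * R.θ (a ^^^ 22) * x⁻¹ * (x * R.θ 22 * x⁻¹) = x * (R.θ (a ^^^ 22) * R.θ 22) * x⁻¹ by group,
      R.hom _ (xor_lt_64 ha (by norm_num)) 22 (by norm_num), Nat.xor_assoc, Nat.xor_self, Nat.xor_zero]
where
  lin6 : ∀ i < 6, ∀ a < 64, actS (s6.getD i 0) a =
      actS (s6.getD i 0) (a ^^^ 22) ^^^ actS (s6.getD i 0) 22 := by decide +kernel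

theorem hb_ebar (n : ℕ) : S.hb n * S.ebar = S.ebar * S.hb n := by
  rw [← S.hb_e, S.hb_comm_iff, hcm', hcm, Bool.or_eq_true, Nat.beq_eq]
  exact Or.inl (S.h_inj (hT_lt _ _) (hT_lt _ _) (by rw [← S.h_mul, ← S.h_mul, S.h_e, (S.h_comm n).1]))

theorem stab (x : S.X) (hx : x * S.ebar = S.ebar * x) : ∃ i < 6, Maps R.θ x (actS (s6.getD i 0)) := by
  obtain ⟨n, hn, hnx⟩ := R.split x hx
  have h := allBelow_spec _ _ chk_H n hn
  simp only [List.any_eq_true, List.mem_range] at h
  obtain ⟨i, hi, hi'⟩ := h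
  have hm := R.maps_of_hb hi hi' (hb_ebar n)
  refine ⟨i, hi, fun a ha => ?_⟩
  rcases hnx with rfl | rfl
  · exact hm a ha
  · rw [← hm a ha]
    have h22 : R.θ 22 * R.θ a = R.θ a * R.θ 22 := by
      rw [R.hom 22 (by norm_num) a ha, R.hom a ha 22 (by norm_num), Nat.xor_comm]
    rw [mul_inv_rev, mul_assoc (S.hb n), h22]
    group

theorem gens (i : ℕ) (hi : i < 6) : ∃ x, Maps R.θ x (actS (s6.getD i 0)) := by
  have h := allBelow_spec _ _ chk_s6.2 i hi
  simp only [Bool.and_eq_true, List.any_eq_true, List.mem_range] at h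
  obtain ⟨-, n, -, hn⟩ := h
  exact ⟨_, R.maps_of_hb hi hn (hb_ebar n)⟩

theorem exists_pre (R : Rad S) : Nonempty (Pre S) := by
  classical
  obtain ⟨y, hy41, hy⟩ := R.move
  choose c hc hcy using hy
  let c' : ℕ → ℕ := fun a => if h : a < 64 then c a h else 0
  have hc' : Maps R.θ y c' := fun a ha => by simp only [c', dif_pos ha]; exact hcy a ha
  have hc'lt : ∀ a, c' a < 64 := fun a => by
    simp only [c']; split_ifs with h
    · exact hc a h
    · norm_num
  have heq : ∀ {a b : ℕ}, a < 64 → b < 64 → R.θ a = R.θ b → a = b :=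
    fun ha hb h => eq_of_theta R.hom R.inj ha hb h
  have hadd : ∀ a < 64, ∀ b < 64, c' (a ^^^ b) = c' a ^^^ c' b := fun a ha b hb =>
    heq (hc'lt _) (xor_lt_64 (hc'lt _) (hc'lt _)) (by
      rw [← R.hom _ (hc'lt _) _ (hc'lt _), ← hc' _ (xor_lt_64 ha hb), ← hc' a ha, ← hc' b hb,
        ← R.hom a ha b hb]
      group)
  have hcrd := fun a (ha : a < 64) => allBelow_spec _ _ chk_coord.1 a ha
  simp only [Bool.and_eq_true, Nat.blt_eq, Nat.beq_eq] at hcrd
  have hdlt : ∀ j < 64, domS j < 64 := fun j hj => (hcrd j hj).1.2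
  have hdadd : ∀ i < 64, ∀ j < 64, domS (i ^^^ j) = domS i ^^^ domS j := fun i hi j hj => by
    have := allBelow_spec _ _ (hcrd i hi).2 j hj
    rwa [Nat.beq_eq] at this
  obtain ⟨p, hp, hv, hpt⟩ := enum_sound (fun j => c' (domS j)) (fun j _ => hc'lt _)
    (fun i hi j hj => by
      try dsimp only
      rw [hdadd i hi j hj, hadd _ (hdlt i hi) _ (hdlt j hj)])
    (by
      try dsimp only
      rw [chk_coord.2.2.1]
      exact heq (hc'lt _) (by norm_num) (by rw [← hc' 41 (by norm_num), R.e_eq, hy41]))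
    (fun i hi j hj h => by
      have h1 : R.θ (domS i) = R.θ (domS j) := by
        have h2 := congrArg R.θ h
        rw [← hc' _ (hdlt i hi), ← hc' _ (hdlt j hj), mul_left_inj, mul_right_inj] at h2
        exact h2
      have h3 := heq (hdlt i hi) (hdlt j hj) h1
      exact dom_inj i hi j hj h3)
    (fun j hj => by
      try dsimp only
      rw [← R.q_eq _ (hc'lt _), ← hc' _ (hdlt j hj), S.qx_conj, R.q_eq _ (hdlt j hj)])
    (fun j hj o1 o2 => by
      rw [Bool.eq_iff_iff, ← R.K_in _ (hdlt j hj) o1, ← R.K_in _ (hc'lt _) o2, ← hc' _ (hdlt j hj), S.Kx_conj])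
    6 0 rfl (by
      rw [show (List.range (2 ^ 0)).map (fun j => c' (domS j)) = [0] from ?_]
      · exact chk_enum
      · show [c' (domS 0)] = [0]
        rw [chk_coord.2.1]
        have h0 := hadd 0 (by norm_num) 0 (by norm_num)
        rw [Nat.xor_self, Nat.xor_self] at h0
        rw [h0])
  have hmy : Maps R.θ y (apS p.1) := fun a ha => by
    rw [hc' a ha, ← hpt a ha]
    try dsimp only
    rw [(hcrd a ha).1.1.2]
  unfold vOK at hv
  cases h1 : Nat.beq p.2.1 1
  swap
  · exfalso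
    rw [h1, cond_true] at hv
    simp only [Bool.and_eq_true, Bool.not_eq_true', beq_eq_false_iff_ne, Nat.blt_eq] at hv
    obtain ⟨⟨⟨o1, ha⟩, o2⟩, hne⟩ := hv
    obtain ⟨x, hx⟩ := exists_word R.gens hmy p.2.2.1
    apply hne
    rw [Bool.eq_iff_iff, ← R.K_in _ ha o1, ← R.K_in _ (wAct_lt _ _ ha) o2, ← hx _ ha, S.Kx_conj]
  rw [h1, cond_false] at hv
  cases h2 : Nat.beq p.2.1 2
  swap
  · exfalso
    rw [h2, cond_true] at hv
    simp only [Bool.and_eq_true, Nat.beq_eq, List.all_eq_true, List.any_eq_true, List.mem_range,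
      Bool.not_eq_true'] at hv
    obtain ⟨x, hx⟩ := exists_word R.gens hmy p.2.2.1
    have hxe : x * S.ebar = S.ebar * x := by
      rw [← mul_inv_eq_iff_eq_mul, ← R.e_eq, hx 41 (by norm_num), hv.1]
    obtain ⟨i, hi, hi'⟩ := R.stab x hxe
    obtain ⟨T, hT, hT'⟩ := hv.2 _ (s6_getD_mem hi)
    exact Bool.eq_false_iff.1 hT' (Nat.beq_eq ▸
      heq (wAct_lt _ _ hT) (actS_lt _) (by rw [← hx T hT, hi' T hT]))
  rw [h2, cond_false] at hv
  -- a mover normalized by one of the six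
  have norm : ∀ (C : ℕ) (i : ℕ), i < 6 →
      allBelow (fun T => Nat.beq (apS p.1 (actS (s6.getD i 0) T)) (apS C T)) 64 = true →
      ∃ x, Maps R.θ x (apS C) := fun C i hi hall => by
    obtain ⟨g, hg⟩ := R.gens i hi
    refine ⟨y * g, fun a ha => ?_⟩
    rw [hmy.mul hg (fun a _ => actS_lt _) a ha]
    try dsimp only
    have := allBelow_spec _ _ hall a ha
    rw [Nat.beq_eq] at this
    rw [this]
  cases h0 : Nat.beq p.2.1 0
  swap
  · rw [h0, cond_true] at hv
    split at hv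
    · simp only [Bool.and_eq_true, Nat.blt_eq] at hv
      exact ⟨⟨R.θ, R.hom, R.inj, R.e_eq, R.q_eq, R.K_in, R.cent, R.gens, R.stab, norm _ _ hv.1 hv.2⟩⟩
    · simp at hv
  rw [h0, cond_false] at hv
  split at hv
  swap
  · simp at hv
  simp only [Bool.and_eq_true, Nat.blt_eq] at hv
  obtain ⟨x, hx⟩ := norm _ _ hv.1 hv.2
  -- relabel
  have hj := fun a (ha : a < 64) => allBelow_spec _ _ chk_jj.1 a ha
  simp only [Bool.and_eq_true, Nat.blt_eq, Nat.beq_eq, beq_iff_eq] at hj
  have hji : ∀ {a}, a < 64 → apS jiC a < 64 := fun _ => apS_lt _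
  have key : ∀ (g : S.X) (f : ℕ → ℕ), Maps R.θ g f → (∀ a < 64, f a < 64) →
      Maps (fun a => R.θ (apS jiC a)) g (fun a => apS jjC (f (apS jiC a))) := fun g f hg hf a ha => by
    show g * R.θ (apS jiC a) * g⁻¹ = R.θ (apS jiC (apS jjC (f (apS jiC a))))
    rw [hg _ (hji ha), ((hj _ (hf _ (hji ha))).1.1.1.1.1.1.1.2)]
  have gens' : ∀ i < 6, ∃ g, Maps (fun a => R.θ (apS jiC a)) g (actS (s6.getD i 0)) := by
    intro i hi
    have h := allBelow_spec _ _ chk_jj.2.2.1 i hi
    simp only [List.any_eq_true, List.mem_range] at h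
    obtain ⟨j, hjl, hje⟩ := h
    obtain ⟨g, hg⟩ := R.gens j hjl
    refine ⟨g, fun a ha => ?_⟩
    rw [key g _ hg (fun a _ => actS_lt _) a ha]
    have := allBelow_spec _ _ hje a ha
    rw [Nat.beq_eq] at this
    try dsimp only
    rw [this]
  have hxb : Maps (fun a => R.θ (apS jiC a)) x (apS t0bC) := fun a ha => by
    rw [key x _ hx (fun a _ => apS_lt _) a ha]
    try dsimp only
    rw [(hj a ha).1.2]
  refine ⟨⟨fun a => R.θ (apS jiC a), fun a ha b hb => ?_, fun a ha h => ?_, ?_, fun a ha => ?_,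
    fun a ha o => ?_, fun g hg hc => ?_, gens', fun g hg => ?_, ?_⟩⟩
  · try dsimp only
    rw [R.hom _ (hji ha) _ (hji hb)]
    have := allBelow_spec _ _ (hj a ha).2 b hb
    rw [Nat.beq_eq] at this
    rw [this]
  · have := R.inj _ (hji ha) h
    have h1 := (hj a ha).1.1.1.1.1.1.2
    rw [this] at h1
    rw [← h1]
    decide +kernel
  · try dsimp only
    rw [chk_jj.2.1, R.e_eq]
  · try dsimp only
    rw [R.q_eq _ (hji ha), (hj a ha).1.1.1.1.1.2]
  · try dsimp only
    rw [R.K_in _ (hji ha) ((hj a ha).1.1.1.2.trans o), (hj a ha).1.1.1.1.2]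
  · obtain ⟨b, hb, hbg⟩ := R.cent g hg fun a ha o => by
      have h1 := hc (apS jjC a) (apS_lt _) (by
        rw [← (hj _ (apS_lt _)).1.1.1.2, (hj a ha).1.1.1.1.1.1.1.2, o])
      rwa [(hj a ha).1.1.1.1.1.1.1.2] at h1
    exact ⟨apS jjC b, apS_lt _, by
      show R.θ (apS jiC (apS jjC b)) = g
      rw [(hj b hb).1.1.1.1.1.1.1.2, hbg]⟩
  · obtain ⟨i, hi, hi'⟩ := R.stab g hg
    obtain ⟨k, hk, hk'⟩ := conj6 i hi
    refine ⟨k, hk, fun a ha => ?_⟩
    rw [key g _ hi' (fun a _ => actS_lt _) a ha]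
    try dsimp only
    rw [hk' a ha]
  · obtain ⟨g, hg⟩ := exists_word gens' hxb t0Word
    refine ⟨g, fun a ha => ?_⟩
    rw [hg a ha]
    have := allBelow_spec _ _ chk_jj.2.2.2 a ha
    rw [Nat.beq_eq] at this
    rw [this]
where
  dom_inj : ∀ i < 64, ∀ j < 64, domS i = domS j → i = j := by decide +kernel
  conj6 : ∀ i < 6, ∃ k < 6, ∀ a < 64,
      apS jjC (actS (s6.getD i 0) (apS jiC a)) = actS (s6.getD k 0) a := by decide +kernel

end Rad

/-- The radical with the action of its normalizer. -/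
structure Nrm {G : Type*} [Group G] (S : Setup G) where
  θ : ℕ → S.X
  hom : ∀ a < 64, ∀ b < 64, θ a * θ b = θ (a ^^^ b)
  inj : ∀ a < 64, θ a = 1 → a = 0
  e_eq : θ 41 = S.ebar
  q_eq : ∀ a < 64, S.qx (θ a) = qS a
  K_eq : ∀ a < 64, (S.Kx (θ a) ↔ kS a = true)
  cent : ∀ x : S.X, x * S.ebar = S.ebar * x → (∀ a < 64, oS a = false → x * θ a = θ a * x) →
    ∃ a < 64, θ a = x
  lift : ∀ p ∈ glWords, ∃ x, Maps θ x (actS p.1)
  act : ∀ x : S.X, (∀ a < 64, ∃ b < 64, x * θ a * x⁻¹ = θ b) → ∃ y, ∃ p ∈ glWords, Maps θ y (actS p.1) ∧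
    (y⁻¹ * x) * S.ebar = S.ebar * (y⁻¹ * x)
  stab : ∀ x : S.X, x * S.ebar = S.ebar * x → ∃ i < 6, Maps θ x (actS (s6.getD i 0))

theorem Pre.exists_nrm {G : Type*} [Group G] {S : Setup G} (P : Pre S) : Nonempty (Nrm S) := by
  obtain ⟨y, hy⟩ := P.mover
  have lift : ∀ p ∈ glWords, ∃ x, Maps P.θ x (actS p.1) := fun p hp => by
    have h := List.all_eq_true.1 chk_glWords.1 p hp
    simp only [Bool.and_eq_true] at h
    obtain ⟨x, hx⟩ := exists_word P.gens hy p.2
    refine ⟨x, fun a ha => ?_⟩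
    rw [hx a ha]
    have := allBelow_spec _ _ h.2 a ha
    rw [Nat.beq_eq] at this
    rw [this]
  have hK : ∀ a < 64, (S.Kx (P.θ a) ↔ kS a = true) := by
    intro a ha
    cases o : oS a
    · exact P.K_in a ha o
    · have h := allBelow_spec _ _ chk_glWords.2.2 a ha
      simp only [o, Bool.not_true, Bool.false_or, List.any_eq_true, List.mem_range, Bool.and_eq_true,
        Bool.not_eq_true', beq_iff_eq, Nat.beq_eq] at h
      obtain ⟨b, hb, ⟨ob, hkb⟩, p, hp, hpb⟩ := h
      obtain ⟨x, hx⟩ := lift p hp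
      rw [← hpb, ← hx b hb, S.Kx_conj, P.K_in b hb ob, hkb, hpb]
  refine ⟨⟨P.θ, P.hom, P.inj, P.e_eq, P.q_eq, hK, P.cent, lift, fun x hx => ?_, P.stab⟩⟩
  obtain ⟨c, hc, hcx⟩ := hx 41 (by norm_num)
  rw [P.e_eq] at hcx
  have hkc : kS c = true := by
    rw [← hK c hc, ← hcx, S.Kx_conj]
    exact S.Kx_ebar
  have h := allBelow_spec _ _ chk_glWords.2.1 c hc
  simp only [hkc, Bool.not_true, Bool.false_or, List.any_eq_true, Nat.beq_eq] at h
  obtain ⟨p, hp, hpc⟩ := h
  obtain ⟨g, hg⟩ := lift p hp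
  refine ⟨g, p, hp, hg, ?_⟩
  have h1 : x * S.ebar * x⁻¹ = g * S.ebar * g⁻¹ := by rw [hcx, ← P.e_eq, hg 41 (by norm_num), hpc]
  apply mul_left_cancel (a := g)
  apply mul_right_cancel (b := x⁻¹)
  calc g * (g⁻¹ * x * S.ebar) * x⁻¹ = x * S.ebar * x⁻¹ := by group
    _ = g * S.ebar * g⁻¹ := h1
    _ = g * (S.ebar * (g⁻¹ * x)) * x⁻¹ := by group

theorem Setup.exists_nrm {G : Type*} [Group G] [Finite G] (S : Setup G) : Nonempty (Nrm S) := by
  obtain ⟨R⟩ := S.exists_rad
  obtain ⟨P⟩ := R.exists_pre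
  exact P.exists_nrm

end Cfsg.Agent.Co3Inv
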