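import Cfsg.Agent.Lib.Co3Inv.GLCheck
import Cfsg.Agent.Lib.Co3Inv.Norm

/-!
Recognition of the third Conway group: the linear group in dimension three acting on symmetric matrices.
-/

set_option autoImplicit false

namespace Cfsg.Agent.Co3Inv

open Cfsg.Agent.PermCert

theorem bif_xor (b c : Bool) (x : ℕ) :
    (bif b ^^ c then x else 0) = (bif b then x else 0) ^^^ (bif c then x else 0) := by
  cases b <;> cases c <;> simp

theorem foldl_xor (f : ℕ → ℕ) (l : List ℕ) (S : ℕ) : ∀ acc,
    l.foldl (fun acc k => bif S.testBit k then acc ^^^ f k else acc) acc =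
      acc ^^^ (l.map fun k => bif S.testBit k then f k else 0).foldr (· ^^^ ·) 0 := by
  induction l with
  | nil => intro acc; simp
  | cons k l ih =>
    intro acc
    rw [List.foldl_cons, ih, List.map_cons, List.foldr_cons]
    cases S.testBit k <;> simp [Nat.xor_assoc]

theorem linFold_xor (f : ℕ → ℕ) (l : List ℕ) (S T : ℕ) :
    l.foldl (fun acc k => bif (S ^^^ T).testBit k then acc ^^^ f k else acc) 0 =
      l.foldl (fun acc k => bif S.testBit k then acc ^^^ f k else acc) 0 ^^^
      l.foldl (fun acc k => bif T.testBit k then acc ^^^ f k else acc) 0 := by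
  simp only [foldl_xor, Nat.zero_xor]
  induction l with
  | nil => simp
  | cons k l ih =>
    simp only [List.map_cons, List.foldr_cons, Nat.testBit_xor] at ih ⊢
    rw [ih, bif_xor]
    ac_rfl

theorem apS_xor (c S T : ℕ) : apS c (S ^^^ T) = apS c S ^^^ apS c T := linFold_xor _ _ S T

theorem actS_xor (M S T : ℕ) : actS M (S ^^^ T) = actS M S ^^^ actS M T := linFold_xor _ _ S T

theorem aS_xor (M S T : ℕ) : aS M (S ^^^ T) = aS M S ^^^ aS M T := apS_xor _ _ _

theorem aS_lt (M : ℕ) {S : ℕ} : aS M S < 64 := apS_lt _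

theorem aS_zero (M : ℕ) : aS M 0 = 0 := by
  have h := aS_xor M 0 0
  rwa [Nat.xor_self, Nat.xor_self] at h

/-- Additive maps agreeing on the six coordinates agree. -/
theorem lin_ext {f g : ℕ → ℕ} (hf : ∀ a b, f (a ^^^ b) = f a ^^^ f b) (hg : ∀ a b, g (a ^^^ b) = g a ^^^ g b)
    (h : ∀ k < 6, f (2 ^ k) = g (2 ^ k)) {S : ℕ} (hS : S < 64) : f S = g S := by
  have h0 : f 0 = g 0 := by
    have h1 := hf 0 0
    have h2 := hg 0 0
    rw [Nat.xor_self, Nat.xor_self] at h1 h2
    rw [h1, h2]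
  suffices key : ∀ n ≤ 6, ∀ S < 2 ^ n, f S = g S from key 6 le_rfl S hS
  intro n
  induction n with
  | zero => intro _ S hS; rw [show S = 0 by simpa using hS]; exact h0
  | succ n ih =>
    intro hn S hS
    by_cases hlt : S < 2 ^ n
    · exact ih (by omega) S hlt
    · have hd : S = 2 ^ n ^^^ (S - 2 ^ n) := by
        rw [← xor_pow (show n < 6 by omega) (by rw [pow_succ] at hS; omega)]
        omega
      rw [hd, hf, hg, h n (by omega), ih (by omega) _ (by rw [pow_succ] at hS; omega)]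

theorem glB_iff {M : ℕ} (hM : M < 512) : glB M = true ↔ M ∈ glL := by
  constructor
  · intro h
    have h1 := allBelow_spec _ _ chk_glL.2.1 M hM
    simp only [h, Bool.not_true, Bool.false_or, List.any_eq_true, Nat.beq_eq] at h1
    obtain ⟨N, hN, rfl⟩ := h1
    exact hN
  · intro h
    have h1 := List.all_eq_true.1 chk_glL.1 M h
    simp only [Bool.and_eq_true] at h1
    exact h1.1.1

theorem gl_spec {M : ℕ} (h : M ∈ glL) : glB M = true ∧ M < 512 ∧ ∀ S < 64, aS M S = actS M S := by
  have h1 := List.all_eq_true.1 chk_glL.1 M h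
  simp only [Bool.and_eq_true, Nat.blt_eq] at h1
  refine ⟨h1.1.1, h1.1.2, fun S hS => lin_ext (aS_xor M) (actS_xor M) (fun k hk => ?_) hS⟩
  have h2 := allBelow_spec _ _ h1.2 k hk
  rw [Nat.beq_eq] at h2
  have ea : ∀ c k, k < 6 → apS c (2 ^ k) = get 6 c k := fun c k hk => by
    interval_cases k <;> simp [apS, List.range_succ, Nat.testBit, Nat.shiftRight_eq_div_pow]
  have eb : ∀ M k, k < 6 → actS M (2 ^ k) = imgK M k := fun M k hk => by
    interval_cases k <;> simp [actS, List.range_succ, Nat.testBit, Nat.shiftRight_eq_div_pow]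
  rw [aS, ea _ k hk, eb M k hk, h2]

theorem apS_pow (c : ℕ) {k : ℕ} (hk : k < 6) : apS c (2 ^ k) = get 6 c k := by
  interval_cases k <;> simp [apS, List.range_succ, Nat.testBit, Nat.shiftRight_eq_div_pow]

theorem lt_512_of_glB {M : ℕ} (h : glB M = true) : M < 512 := by
  by_contra hh
  have hlt : glMask < 2 ^ M := lt_of_lt_of_le (show glMask < 2 ^ 512 by decide +kernel)
    (Nat.pow_le_pow_right (by norm_num) (by omega))
  rw [glB, Nat.testBit_lt_two_pow hlt] at h
  simp at h

theorem mem_glL {M : ℕ} (h : glB M = true) : M ∈ glL := (glB_iff (lt_512_of_glB h)).1 h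

theorem aS_eq {M : ℕ} (h : glB M = true) {S : ℕ} (hS : S < 64) : aS M S = actS M S :=
  (gl_spec (mem_glL h)).2.2 S hS

theorem mm_gl {M N : ℕ} (hM : glB M = true) (hN : glB N = true) :
    glB (mm M N) = true ∧ ∀ S < 64, aS M (aS N S) = aS (mm M N) S := by
  have h := List.all_eq_true.1 (List.all_eq_true.1 chk_glMul M (mem_glL hM)) N (mem_glL hN)
  simp only [Bool.and_eq_true] at h
  refine ⟨h.1, fun S hS => lin_ext (f := fun S => aS M (aS N S)) (g := aS (mm M N))
    (fun a b => by simp only [aS_xor]) (aS_xor _) (fun k hk => ?_) hS⟩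
  have h2 := allBelow_spec _ _ h.2 k hk
  rw [Nat.beq_eq] at h2
  rw [aS, aS, aS, apS_pow _ hk, apS_pow _ hk, ← aS, h2]

theorem gInv_spec {M : ℕ} (hM : glB M = true) :
    glB (gInv M) = true ∧ mm M (gInv M) = 273 ∧ mm (gInv M) M = 273 := by
  have h := List.all_eq_true.1 chk_glInj.2.1 M (mem_glL hM)
  simpa only [Bool.and_eq_true, Nat.beq_eq, and_assoc] using h

theorem aS_one {S : ℕ} (hS : S < 64) : aS 273 S = S :=
  lin_ext (g := id) (aS_xor 273) (fun _ _ => rfl) (fun k hk => by
    have h := allBelow_spec _ _ chk_glL.2.2.2.2 k hk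
    rw [Nat.beq_eq] at h
    exact h) hS

theorem aS_inj {M N : ℕ} (hM : glB M = true) (hN : glB N = true) (h : ∀ S < 64, aS M S = aS N S) : M = N := by
  have h1 := List.all_eq_true.1 (List.all_eq_true.1 chk_glInj.1 M (mem_glL hM)) N (mem_glL hN)
  simp only [Bool.or_eq_true, Bool.not_eq_true', Nat.beq_eq] at h1
  refine h1.resolve_right ?_
  rw [Bool.not_eq_false, Nat.beq_eq]
  have a1 := List.all_eq_true.1 chk_glInj.2.2 M (mem_glL hM)
  have a2 := List.all_eq_true.1 chk_glInj.2.2 N (mem_glL hN)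
  rw [Nat.blt_eq] at a1 a2
  have e := fun k (hk : k < 6) => h (2 ^ k) (lt_of_lt_of_le (Nat.pow_lt_pow_right (by norm_num) hk) le_rfl)
  simp only [aS] at e
  have e0 := e 0 (by norm_num); have e1 := e 1 (by norm_num); have e2 := e 2 (by norm_num)
  have e3 := e 3 (by norm_num); have e4 := e 4 (by norm_num); have e5 := e 5 (by norm_num)
  rw [apS_pow _ (by norm_num), apS_pow _ (by norm_num)] at e0 e1 e2 e3 e4 e5
  simp only [PermCert.get, Nat.shiftRight_eq_div_pow] at e0 e1 e2 e3 e4 e5 ⊢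
  norm_num at e0 e1 e2 e3 e4 e5 a1 a2 ⊢
  omega

theorem glWord_mem {p : ℕ × List ℕ} (hp : p ∈ glWords) : p.1 ∈ glL := by
  rw [← chk_glL.2.2.1]
  exact List.mem_map_of_mem hp

theorem s6_gl : ∀ i < 6, glB (s6.getD i 0) = true := by decide +kernel

end Cfsg.Agent.Co3Inv
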