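import Cfsg.Agent.Lib.Co3Inv.Model

/-!
Recognition of the third Conway group: the candidates for the action of an element moving the image of `e`
to a neighbour, and words for the elements of the linear group. Generated by
`tools/co3from2m12/close11`.
-/

set_option autoImplicit false

namespace Cfsg.Agent.Co3Inv

/-- The matrices fixing the identity form. -/
def s6 : List ℕ := [84, 98, 140, 161, 266, 273]

/-- The symmetric matrix with given coordinates in the enumeration basis. -/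
def domC : ℕ := 33551990522664548412311684030462313653057494232447371647759005350104501706472749221105669825699947686472264938691136

/-- The coordinates of a symmetric matrix in the enumeration basis. -/
def crdC : ℕ := 28162923180016555717642717962274927547603265026083891948252281746496914970816833891180696370494297230107877767135360

/-- The normalized mover, by six images. -/
def t0C : ℕ := 67984236680

/-- The normalized mover of the other kind. -/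
def tbC : ℕ := 61548339489

/-- The other mover after relabelling. -/
def t0bC : ℕ := 67989741861

/-- The relabelling. -/
def jjC : ℕ := 56109842567

/-- The inverse relabelling. -/
def jiC : ℕ := 56109842567

/-- The normalized mover as a word in the relabelled generators. -/
def t0Word : List ℕ := [3, 6, 4]

/-- Verdicts on the candidates. -/
def verdicts : List (ℕ × ℕ × List ℕ × ℕ) := [
  (59359903875, 2, [6, 2, 6, 1, 6], 0),
  (56173019267, 2, [6, 3, 6], 0),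
  (12160344323, 2, [6, 6], 0),
  (8906350851, 2, [6, 0, 6, 4, 6], 0),
  (59444027075, 1, [6, 0, 6], 20),
  (56122924739, 1, [6, 0, 6], 20),
  (12110249795, 1, [6, 0, 6], 20),
  (8990474051, 1, [6, 0, 6], 20),
  (35741778053, 2, [6, 3, 6], 0),
  (38997868677, 2, [6, 1, 6, 2, 6], 0),
  (26080452869, 2, [6, 6], 0),
  (31483502853, 2, [6, 4, 6, 0, 6], 0),
  (26063920837, 1, [6, 0, 6], 15),
  (31534079685, 1, [6, 0, 6], 14),
  (35725229893, 1, [6, 0, 6], 18),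
  (39048429381, 1, [6, 0, 6], 18),
  (59123769480, 2, [6, 3, 6, 0, 6], 0),
  (67984236680, 0, [5], 0),
  (3302761608, 2, [6, 6, 2, 6], 0),
  (12163228808, 0, [3], 0),
  (4259296712, 1, [6, 6], 6),
  (12113130952, 1, [6, 6], 6),
  (60080094920, 1, [6, 6], 20),
  (67933929160, 1, [6, 6], 18),
  (55902552203, 2, [6, 2, 6], 0),
  (67949904011, 0, [4], 0),
  (4258509899, 1, [6, 6], 6),
  (8992568395, 1, [6, 6], 6),
  (3301975307, 2, [6, 0, 6], 0),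
  (8908449035, 0, [1], 0),
  (56858844875, 1, [6, 6], 20),
  (68033781451, 1, [6, 6], 18),
  (35501973656, 2, [6, 2, 6], 0),
  (61546504344, 2, [6, 4, 6, 3, 6], 0),
  (6367466584, 1, [6, 6], 18),
  (31539582040, 1, [6, 6], 20),
  (5444478104, 2, [6, 0, 6], 0),
  (31489008792, 2, [6, 1, 6, 6], 0),
  (36424720216, 1, [6, 6], 6),
  (61596835672, 1, [6, 6], 6),
  (38723207325, 2, [6, 0, 6, 3, 6], 0),
  (61511647389, 2, [6, 6, 2, 6], 0),
  (5445264669, 2, [6, 2, 6, 6], 0),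
  (26086745373, 2, [6, 3, 6, 0, 6], 0),
  (6368253405, 1, [6, 6], 18),
  (26070210013, 1, [6, 6], 20),
  (39645970269, 1, [6, 6], 6),
  (61494886237, 1, [6, 6], 6),
  (25804742945, 2, [6, 4, 6], 0),
  (61548339489, 3, [5], 0),
  (6398653537, 1, [6, 6], 18),
  (39055766625, 1, [6, 6], 20),
  (5408572577, 2, [6, 1, 6], 0),
  (39005209761, 3, [3], 0),
  (26794598113, 1, [6, 6], 6),
  (61598670561, 1, [6, 6], 6),
  (31173460260, 2, [6, 6, 1, 6], 0),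
  (61514006820, 3, [4], 0),
  (5409883428, 2, [6, 3, 6, 4, 6], 0),
  (35750429988, 3, [1], 0),
  (6399964644, 1, [6, 6], 18),
  (35733878244, 1, [6, 6], 15),
  (32163331812, 1, [6, 6], 6),
  (61497245412, 1, [6, 6], 6),
  (11845583156, 2, [6, 4, 6], 0),
  (67962224948, 2, [6, 2, 6, 6], 0),
  (4214215796, 1, [6, 6], 6),
  (59458442356, 1, [6, 6], 6),
  (3257681204, 2, [6, 1, 6], 0),
  (59374322996, 2, [6, 0, 6, 3, 6], 0),
  (12801875828, 1, [6, 6], 20),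
  (68046102388, 1, [6, 6], 18),
  (8624349495, 2, [6, 1, 6, 6], 0),
  (67994984759, 2, [6, 3, 6, 4, 6], 0),
  (3256894647, 2, [6, 4, 6, 3, 6], 0),
  (56186651831, 2, [6, 6, 1, 6], 0),
  (4213429751, 1, [6, 6], 6),
  (56136553975, 1, [6, 6], 6),
  (9580674935, 1, [6, 6], 15),
  (67944677239, 1, [6, 6], 18),
  (32168309881, 1, [6, 0, 6], 20),
  (39653307513, 2, [6, 6], 0),
  (31178441913, 2, [6, 0, 6, 4, 6], 0),
  (38730548409, 3, [2], 0),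
  (25811035449, 2, [6, 2, 6, 1, 6], 0),
  (35510101305, 3, [0], 0),
  (26800887289, 1, [6, 0, 6], 20),
  (36432844281, 1, [6, 0, 6], 20),
  (9582769279, 1, [6, 0, 6], 14),
  (60092937343, 2, [6, 6], 0),
  (11846894783, 0, [2], 0),
  (55916184767, 2, [6, 4, 6, 0, 6], 0),
  (8626447679, 0, [0], 0),
  (59136615743, 2, [6, 1, 6, 2, 6], 0),
  (12803184127, 1, [6, 0, 6], 18),
  (56872474111, 1, [6, 0, 6], 18)]

/-- The invertible matrices with words in the generators. -/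
def glWords : List (ℕ × List ℕ) := [
  (84, [0]),
  (85, [4, 6, 4, 6, 0]),
  (86, [1, 6, 4, 6, 2]),
  (87, [6, 4, 6, 6, 0]),
  (92, [6, 4, 6, 1]),
  (93, [3, 6, 6, 0, 6, 2]),
  (94, [6, 6, 1]),
  (95, [4, 6, 0]),
  (98, [1]),
  (99, [4, 6, 4, 6, 1]),
  (102, [1, 6, 4, 6, 4]),
  (103, [6, 4, 6, 6, 1]),
  (106, [6, 4, 6, 0]),
  (107, [2, 6, 6, 0, 6, 2]),
  (110, [6, 6, 0]),
  (111, [4, 6, 1]),
  (114, [6, 6, 4, 6, 1]),
  (115, [4, 6, 6, 1]),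
  (116, [6, 6, 4, 6, 0]),
  (117, [4, 6, 6, 0]),
  (122, [3, 6, 6, 3, 6]),
  (123, [6, 0]),
  (124, [4, 6, 4, 6, 6, 1]),
  (125, [6, 1]),
  (140, [2]),
  (141, [1, 6, 4, 6, 0]),
  (142, [4, 6, 4, 6, 2]),
  (143, [6, 4, 6, 6, 2]),
  (156, [6, 4, 6, 3]),
  (157, [6, 6, 3]),
  (158, [2, 6, 6, 0, 6]),
  (159, [4, 6, 2]),
  (161, [3]),
  (163, [4, 6, 4, 6, 3]),
  (165, [1, 6, 4, 6]),
  (167, [6, 4, 6, 6, 3]),
  (169, [0, 6, 4, 6, 0]),
  (171, [4, 6, 6, 3]),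
  (172, [0, 6, 4, 6]),
  (174, [4, 6, 6, 2]),
  (177, [6, 4, 6, 2]),
  (179, [3, 6, 6, 0, 6]),
  (181, [6, 6, 2]),
  (183, [4, 6, 3]),
  (185, [1, 6, 6, 3, 6]),
  (187, [6, 2]),
  (188, [2, 6, 4, 6, 6]),
  (190, [6, 3]),
  (204, [3, 6, 4, 6, 1]),
  (205, [6, 6, 0, 6, 2]),
  (206, [3, 6, 6, 1]),
  (207, [1, 6, 0]),
  (212, [3, 6, 4, 6, 3]),
  (213, [3, 6, 6, 3]),
  (214, [6, 0, 6, 6]),
  (215, [1, 6, 2]),
  (225, [2, 6, 4, 6, 1]),
  (226, [6, 3, 6, 6, 1]),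
  (229, [1, 6, 6]),
  (230, [1, 6, 6, 4]),
  (233, [4, 6, 6, 0, 6, 2]),
  (234, [6, 1, 6, 0]),
  (236, [0, 6, 6]),
  (239, [0, 6, 3, 6]),
  (241, [2, 6, 6, 1]),
  (242, [1, 6, 6, 0, 6]),
  (244, [6, 0, 6, 2]),
  (247, [2, 6, 3, 6, 1]),
  (249, [0, 6, 0]),
  (250, [0, 6, 2]),
  (253, [1, 6, 3, 6]),
  (254, [3, 6, 3, 6, 1]),
  (266, [4]),
  (267, [1, 6, 4, 6, 1]),
  (270, [4, 6, 4, 6, 4]),
  (271, [6, 4, 6, 6, 4]),
  (273, []),
  (275, [1, 6, 4, 6, 3]),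
  (277, [4, 6, 4, 6]),
  (279, [6, 4, 6, 6]),
  (281, [6, 6, 4, 6]),
  (282, [0, 6, 4, 6, 3]),
  (285, [4, 6, 6]),
  (286, [4, 6, 6, 4]),
  (298, [6, 4, 6]),
  (299, [6, 6]),
  (302, [3, 6, 6, 0, 6, 1]),
  (303, [4, 6, 4]),
  (305, [6, 4, 6, 4]),
  (307, [6, 6, 4]),
  (309, [2, 6, 6, 0, 6, 1]),
  (311, [4, 6]),
  (313, [2, 6, 4, 6, 6, 1]),
  (314, [4, 6, 4, 6, 6]),
  (317, [6, 4]),
  (318, [6]),
  (330, [3, 6, 4, 6, 0]),
  (331, [6, 0, 6, 6, 2]),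
  (334, [3, 6, 6, 0]),
  (335, [1, 6, 1]),
  (337, [6, 3, 6, 6]),
  (339, [1, 6, 6, 3]),
  (340, [2, 6, 4, 6]),
  (342, [1, 6, 6, 2]),
  (345, [6, 3, 6, 4, 6]),
  (346, [6, 0, 6, 1]),
  (348, [2, 6, 6]),
  (351, [2, 6, 3, 6]),
  (354, [3, 6, 4, 6]),
  (355, [3, 6, 6]),
  (358, [6, 6, 0, 6, 1]),
  (359, [1, 6, 4]),
  (369, [2, 6, 6, 0]),
  (370, [0, 6, 6, 2]),
  (372, [6, 3, 6, 4, 6, 0]),
  (375, [2, 6, 3, 6, 0]),
  (377, [0, 6, 1]),
  (379, [3, 6, 3, 6]),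
  (380, [0, 6, 4]),
  (382, [3, 6, 3, 6, 0]),
  (394, [2, 6, 4, 6, 2]),
  (395, [1, 6, 6, 1]),
  (396, [6, 3, 6, 6, 2]),
  (397, [1, 6, 6, 0]),
  (401, [3, 6, 4, 6, 2]),
  (403, [6, 6, 0, 6]),
  (405, [3, 6, 6, 2]),
  (407, [1, 6, 3]),
  (409, [0, 6, 6, 1]),
  (410, [4, 6, 6, 0, 6]),
  (412, [6, 1, 6, 3]),
  (415, [0, 6, 3, 6, 1]),
  (417, [3, 6, 4, 6, 4]),
  (419, [3, 6, 6, 4]),
  (421, [6, 0, 6, 6, 1]),
  (423, [1, 6]),
  (425, [6, 0, 6]),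
  (426, [6, 1, 6]),
  (428, [1, 6, 6, 0, 6, 1]),
  (431, [0, 6, 3, 6, 0]),
  (442, [0, 6, 3]),
  (443, [1, 6, 3, 6, 1]),
  (444, [0, 6]),
  (445, [1, 6, 3, 6, 0]),
  (458, [6, 6, 3, 6]),
  (459, [3, 6, 0]),
  (460, [6, 6, 3, 6, 3]),
  (461, [3, 6, 1]),
  (465, [6, 6, 3, 6, 4]),
  (467, [3, 6, 2]),
  (468, [6, 6, 3, 6, 1]),
  (470, [3, 6, 3]),
  (473, [2, 6, 0]),
  (474, [2, 6, 2]),
  (477, [6, 3, 6, 3]),
  (478, [6, 3, 6, 1]),
  (481, [6, 6, 3, 6, 2]),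
  (482, [6, 6, 3, 6, 0]),
  (485, [3, 6, 4]),
  (486, [3, 6]),
  (489, [2, 6, 1]),
  (491, [6, 3, 6]),
  (492, [2, 6, 4]),
  (494, [6, 3, 6, 0]),
  (498, [2, 6, 3]),
  (499, [6, 3, 6, 4]),
  (500, [2, 6]),
  (501, [6, 3, 6, 2])]

end Cfsg.Agent.Co3Inv
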