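import Cfsg.Agent.Lib.Co3Inv.GLData
import Cfsg.Agent.Lib.Co3Inv.NormData

/-!
Recognition of the third Conway group: the checks on the linear group in dimension three over two elements
acting on symmetric matrices.
-/

set_option autoImplicit false
set_option maxRecDepth 100000

namespace Cfsg.Agent.Co3Inv

open Cfsg.Agent.PermCert

/-- The code is one of the 168 matrices. -/
def glB (M : ℕ) : Bool := Nat.testBit glMask M

/-- The congruence by a matrix, from the table. -/
def aS (M S : ℕ) : ℕ := apS (get 36 imgTab M) S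

/-- The derivation. -/
def gam (M : ℕ) : ℕ := get 6 gamTab M

/-- The inverse of a matrix. -/
def gInv (M : ℕ) : ℕ := get 9 invTab M

theorem chk_glL : glL.all (fun M => glB M && Nat.blt M 512 &&
    allBelow (fun k => Nat.beq (imgK M k) (get 6 (get 36 imgTab M) k)) 6) = true ∧
    allBelow (fun M => !glB M || glL.any (fun N => Nat.beq N M)) 512 = true ∧
    glWords.map Prod.fst = glL ∧ glB 273 = true ∧
    allBelow (fun k => Nat.beq (aS 273 (2 ^ k)) (2 ^ k)) 6 = true := by decide +kernel

theorem chk_glMul : glL.all (fun M => glL.all fun N => glB (mm M N) &&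
    allBelow (fun k => Nat.beq (aS M (get 6 (get 36 imgTab N) k)) (get 6 (get 36 imgTab (mm M N)) k)) 6) = true := by
  decide +kernel

theorem chk_glInj : glL.all (fun M => glL.all fun N => Nat.beq M N ||
    !Nat.beq (get 36 imgTab M) (get 36 imgTab N)) = true ∧
    glL.all (fun M => glB (gInv M) && Nat.beq (mm M (gInv M)) 273 && Nat.beq (mm (gInv M) M) 273) = true ∧
    glL.all (fun M => Nat.blt (get 36 imgTab M) (2 ^ 36)) = true := by decide +kernel

theorem chk_gam : glL.all (fun M => glL.all fun N =>
    Nat.beq (gam (mm M N)) (gam M ^^^ aS M (gam N))) = true ∧ gam 266 = 2 ∧ gam 273 = 0 := by decide +kernel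

/-- The dihedral group of order eight. -/
def d8 : List ℕ := [273, 266, 124, 103, 188, 167, 465, 458]

theorem chk_d8 : d8.all (fun M => glB M && d8.all fun N => d8.any fun P => Nat.beq P (mm M N)) = true ∧
    mm 266 266 = 273 ∧ mm 124 124 = 273 ∧ mm 266 124 = 103 ∧ mm 103 103 = 458 ∧ mm 458 458 = 273 ∧
    mm (mm 106 266) (gInv 106) = 124 ∧ mm (mm 110 266) (gInv 110) = 458 ∧
    glB 106 = true ∧ glB 110 = true := by decide +kernel

/-- The obstruction to a dihedral group of lifts can be absorbed. -/
theorem chk_shift : allBelow (fun s =>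
    !(Nat.beq (aS 266 (s ^^^ aS 458 s)) (s ^^^ aS 458 s) && Nat.beq (aS 124 (s ^^^ aS 458 s)) (s ^^^ aS 458 s)) ||
    (List.range 64).any (fun a => Nat.beq (aS 266 a) a && (List.range 64).any fun b => Nat.beq (aS 124 b) b &&
      Nat.beq (s ^^^ aS 458 s)
        ((aS 124 a ^^^ b ^^^ aS (gInv 103) (aS 124 a ^^^ b)) ^^^
          aS 458 (aS 124 a ^^^ b ^^^ aS (gInv 103) (aS 124 a ^^^ b))))) 64 = true := by decide +kernel

end Cfsg.Agent.Co3Inv
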