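import Cfsg.Agent.Lib.M12Cent.Table
import Mathlib.LinearAlgebra.SymplecticGroup
import Mathlib.GroupTheory.QuotientGroup.Basic

/-!
Recognition of the third Conway group from an involution centralizer `2 × M₁₂`: what the local analysis
at the fused involution `z` uses from the centralizer of `e`.
-/

set_option autoImplicit false

namespace Cfsg.Agent.Co3Inv

open Cfsg.Agent.M12Cent (T isR)

/-- The indices of the conjugates of `e` in `C(e, z)`: the involutions outside the second factor and
those of the fixed-point-free class of `M₁₂`. -/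
def isE (s : Bool) (i : ℕ) : Bool := (s && Nat.beq (T i i) 0) || (!s && isR i)

/-- An involution `e` with a commuting involution `z`, the centralizer of the pair enumerated as
`2 × C_{M₁₂}(z)`, and the fusion of `e`. -/
structure Setup (G : Type*) [Group G] where
  e : G
  z : G
  el : Bool → ℕ → G
  mem : ∀ x : G, (x * e = e * x ∧ x * z = z * x) ↔ ∃ s : Bool, ∃ i < 192, el s i = x
  inj : ∀ s : Bool, ∀ i < 192, ∀ s' : Bool, ∀ j < 192, el s i = el s' j → s = s' ∧ i = j
  mul : ∀ s : Bool, ∀ i < 192, ∀ s' : Bool, ∀ j < 192, el s i * el s' j = el (xor s s') (T i j)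
  el_zero : el false 0 = 1
  el_e : el true 0 = e
  el_z : el false 1 = z
  isE_iff : ∀ s : Bool, ∀ i < 192, (IsConj e (el s i) ↔ isE s i = true)
  trans : ∀ g : G, IsConj e g → g * z = z * g → ∃ c : G, c * z = z * c ∧ c * e * c⁻¹ = g

namespace Setup

variable {G : Type*} [Group G] (S : Setup G)

/-- The centralizer of `z`. -/
abbrev Cz : Subgroup G := Subgroup.centralizer ({S.z} : Set G)

/-- `⟨z⟩` inside the centralizer of `z`. -/
abbrev Zz : Subgroup S.Cz := (Subgroup.zpowers S.z).subgroupOf S.Cz

instance : S.Zz.Normal := ⟨fun n hn g => by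
  have h : (g : G) * n * (g : G)⁻¹ = n := by
    obtain ⟨k, hk⟩ := hn
    have hg : Commute (g : G) S.z := Subgroup.mem_centralizer_singleton_iff.1 g.2
    rw [← show S.z ^ k = (n : G) from hk, (hg.zpow_right k).eq, mul_inv_cancel_right]
  show (g : G) * n * (g : G)⁻¹ ∈ Subgroup.zpowers S.z
  rw [h]; exact hn⟩

/-- `C(z)/⟨z⟩`. -/
abbrev X : Type _ := S.Cz ⧸ S.Zz

theorem e_mem : S.e ∈ S.Cz :=
  Subgroup.mem_centralizer_singleton_iff.2 ((S.mem S.e).2 ⟨true, 0, by norm_num, S.el_e⟩).2

/-- The image of `e`. -/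
def ebar : S.X := QuotientGroup.mk ⟨S.e, S.e_mem⟩

end Setup

/-- The symplectic group. -/
abbrev Sp62 : Type := ↥(Matrix.symplecticGroup (Fin 3) (ZMod 2))

/-- The element of the radical of the plane stabilizer given by the identity symmetric matrix. -/
def e₀ : Sp62 := ⟨Matrix.fromBlocks 1 1 0 1, by
  rw [SymplecticGroup.mem_iff]; decide +kernel⟩

end Cfsg.Agent.Co3Inv
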