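import Cfsg.Agent.Lib.M12Cent.CaseTwo
import Cfsg.Agent.Lib.M12Cent.Concrete
import Cfsg.Agent.Lib.Co3Inv.Setup
import Cfsg.Prelude.Def_Transfer

/-!
Recognition of the third Conway group: an involution with centralizer `2 × M₁₂`, in coordinates, and the
fusion that follows from this alone.
-/

set_option autoImplicit false

namespace Cfsg.Agent.Co3Inv

open Cfsg
open Cfsg.Agent.M12Cent (T isR isP isY setup₀)

theorem not_comm_M12 : ¬ IsMulCommutative Spor.M12 := fun h => by
  obtain ⟨i, hi, j, hj, hn⟩ : ∃ i < 64, ∃ j < 64, M12Cent.cm i j = false := by decide +kernel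
  have hc := h.is_comm.comm (setup₀.el i) (setup₀.el j)
  rw [(setup₀.comm_iff (by omega) (by omega)).1 hc] at hn
  exact absurd hn (by decide)

/-- `M₁₂` has the fusion of its centralizer of an involution. -/
theorem full_M12 : setup₀.Full :=
  haveI := Golay.isSimpleGroup_sporM12
  setup₀.full_of_simple not_comm_M12

/-- Every involution of `M₁₂` is in the class of `t` or in that of `r`. -/
theorem cls_M12 (m : Spor.M12) (hm : orderOf m = 2) : IsConj setup₀.t m ∨ IsConj setup₀.r m := by
  rcases setup₀.invol_classes full_M12.pre hm with h | h | h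
  · exact Or.inl h
  · exact Or.inr h
  · exact Or.inl ((setup₀.tY full_M12).trans h)

/-- The hypothesis: an involution with centralizer `2 × M₁₂`. -/
structure Inp (G : Type*) [Group G] where
  e : G
  ι : Spor.M12 →* G
  he : orderOf e = 2
  inj : Function.Injective ι
  comm : ∀ m, ι m * e = e * ι m
  split : ∀ x : G, x * e = e * x → ∃ m, x = ι m ∨ x = e * ι m
  not_mem : ∀ m, ι m ≠ e

namespace Inp

variable {G : Type*} [Group G]

theorem exists_inp (e : G) (he : orderOf e = 2)
    (hC : Nonempty (↥(Subgroup.centralizer ({e} : Set G)) ≃* (Multiplicative (ZMod 2) × ↥Spor.M12))) :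
    ∃ I : Inp G, I.e = e := by
  obtain ⟨φ⟩ := hC
  set ee : Subgroup.centralizer ({e} : Set G) := ⟨e, Subgroup.mem_centralizer_singleton_iff.2 rfl⟩
  have hcen : ∀ y, y * φ ee = φ ee * y := fun y => by
    obtain ⟨x, rfl⟩ := φ.surjective y
    rw [← map_mul, ← map_mul]
    exact congrArg φ (Subtype.ext (Subgroup.mem_centralizer_singleton_iff.1 x.2))
  have h2 : (φ ee).2 = 1 := by
    have hmem : (φ ee).2 ∈ Subgroup.center Spor.M12 :=
      Subgroup.mem_center_iff.2 fun y => congrArg Prod.snd (hcen (1, y))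
    haveI := Golay.isSimpleGroup_sporM12
    rcases IsSimpleGroup.eq_bot_or_eq_top_of_normal (Subgroup.center Spor.M12) inferInstance with h | h
    · exact Subgroup.mem_bot.1 (h ▸ hmem)
    · exact absurd ⟨⟨fun a b => Subgroup.mem_center_iff.1 (h ▸ Subgroup.mem_top b) a⟩⟩ not_comm_M12
  have h1 : (φ ee).1 ≠ 1 := fun h => by
    have he1 : φ ee = 1 := Prod.ext h h2
    have := congrArg Subtype.val ((MulEquiv.map_eq_one_iff φ).1 he1)
    change e = 1 at this
    rw [this, orderOf_one] at he
    omega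
  have hd : ∀ a b : Multiplicative (ZMod 2), b ≠ 1 → a = 1 ∨ a = b := by decide
  refine ⟨⟨e, (Subgroup.subtype _).comp (φ.symm.toMonoidHom.comp (MonoidHom.inr _ _)), he,
    Subtype.val_injective.comp (φ.symm.injective.comp fun a b h => congrArg Prod.snd h),
    fun m => Subgroup.mem_centralizer_singleton_iff.1 (φ.symm (1, m)).2, fun x hx => ?_, fun m hm => ?_⟩, rfl⟩
  · refine ⟨(φ ⟨x, Subgroup.mem_centralizer_singleton_iff.2 hx⟩).2, ?_⟩
    set xx : Subgroup.centralizer ({e} : Set G) := ⟨x, Subgroup.mem_centralizer_singleton_iff.2 hx⟩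
    rcases hd (φ xx).1 (φ ee).1 h1 with h | h
    · refine Or.inl (congrArg Subtype.val (φ.injective ?_ : xx = φ.symm (1, (φ xx).2)) :)
      rw [φ.apply_symm_apply]
      exact Prod.ext h rfl
    · refine Or.inr (congrArg Subtype.val (φ.injective ?_ : xx = ee * φ.symm (1, (φ xx).2)) :)
      rw [map_mul, φ.apply_symm_apply]
      exact Prod.ext (by simpa using h) (by simp [h2])
  · have : φ.symm (1, m) = ee := Subtype.ext hm
    rw [MulEquiv.symm_apply_eq] at this
    exact h1 (congrArg Prod.fst this).symm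

variable (I : Inp G)

/-- The image of the involution `t` of `M₁₂`. -/
noncomputable abbrev z : G := I.ι setup₀.t

/-- The image of the involution `r` of `M₁₂`. -/
noncomputable abbrev a : G := I.ι setup₀.r

/-- The elements of the centralizer of `e` and `z`. -/
noncomputable def el (s : Bool) (i : ℕ) : G := (bif s then I.e else 1) * I.ι (setup₀.el i)

theorem e_sq : I.e * I.e = 1 := (M12Cent.orderOf_two_iff.1 I.he).2

theorem e_ne : I.e ≠ 1 := (M12Cent.orderOf_two_iff.1 I.he).1

theorem comm' (m : Spor.M12) : Commute (I.ι m) I.e := I.comm m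

/-- Squares of elements commuting with `e` lie in the image of `M₁₂`. -/
theorem sq_mem {x : G} (hx : x * I.e = I.e * x) : ∃ m, x * x = I.ι (m * m) := by
  obtain ⟨m, rfl | rfl⟩ := I.split x hx
  · exact ⟨m, (map_mul _ _ _).symm⟩
  · refine ⟨m, ?_⟩
    rw [map_mul, ← mul_assoc, mul_assoc I.e (I.ι m) I.e, I.comm, ← mul_assoc I.e I.e, I.e_sq, one_mul]

theorem exists_sqrt_z : ∃ w : Spor.M12, w * w = setup₀.t :=
  let ⟨d, _, _, h⟩ := (setup₀.R_sq setup₀.r_R).2
  ⟨d, h⟩

/-- `e` is not conjugate to the image of an involution of the class of `t`. -/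
theorem not_conj_of_tclass {m : Spor.M12} (hm : IsConj setup₀.t m) : ¬ IsConj I.e (I.ι m) := fun h => by
  obtain ⟨w, hw⟩ := exists_sqrt_z
  obtain ⟨c, hc⟩ := isConj_iff.1 hm
  obtain ⟨g, hg⟩ := isConj_iff.1 h.symm
  set v := c * w * c⁻¹
  have hv : I.ι v * I.ι v = I.ι m := by rw [← map_mul, conj_mul, hw, hc]
  have hy : g * I.ι v * g⁻¹ * (g * I.ι v * g⁻¹) = I.e := by rw [conj_mul, hv, hg]
  have hye : g * I.ι v * g⁻¹ * I.e = I.e * (g * I.ι v * g⁻¹) := by
    conv_lhs => rw [← hy]
    conv_rhs => rw [← hy]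
    exact (mul_assoc _ _ _).symm
  obtain ⟨n, hn⟩ := I.sq_mem hye
  exact I.not_mem _ (hn.symm.trans hy)

theorem not_conj_z : ¬ IsConj I.e I.z := I.not_conj_of_tclass (IsConj.refl _)

theorem z_ne_e : I.z ≠ I.e := fun h => I.not_mem _ h

end Inp

end Cfsg.Agent.Co3Inv
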