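import Cfsg.Agent.Lib.Co3Inv.Tbl
import Cfsg.Agent.Lib.M12Cent.Setup

/-!
Recognition of the third Conway group: the quotient of the centralizer of `z` by `z`, the class of the image
of `e` there, squares and commutators of lifts.
-/

set_option autoImplicit false

namespace Cfsg.Agent.Co3Inv

open Cfsg.Agent.M12Cent (T isR T_lt)
open Cfsg.Agent.PermCert

theorem hT_mod (a b : ℕ) : hT a b % 192 = T (a % 192) (b % 192) ∧
    Nat.ble 192 (hT a b) = xor (Nat.ble 192 a) (Nat.ble 192 b) := by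
  have h := T_lt (Nat.mod_lt a (by norm_num : 192 > 0)) (Nat.mod_lt b (by norm_num : 192 > 0))
  unfold hT
  cases xor (Nat.ble 192 a) (Nat.ble 192 b) <;> simp only [cond_true, cond_false]
  · refine ⟨by omega, Bool.eq_false_iff.2 fun hh => ?_⟩
    have := Nat.le_of_ble_eq_true hh
    omega
  · exact ⟨by omega, Nat.ble_eq_true_of_le (by omega)⟩

theorem hT_lt (a b : ℕ) : hT a b < 384 := by
  have h := T_lt (Nat.mod_lt a (by norm_num : 192 > 0)) (Nat.mod_lt b (by norm_num : 192 > 0))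
  unfold hT
  cases xor (Nat.ble 192 a) (Nat.ble 192 b) <;> simp only [cond_true, cond_false] <;> omega

namespace Setup

variable {G : Type*} [Group G] (S : Setup G)

/-- The element of a code. -/
def h (n : ℕ) : G := S.el (Nat.ble 192 n) (n % 192)

theorem h_comm (n : ℕ) : S.h n * S.e = S.e * S.h n ∧ S.h n * S.z = S.z * S.h n :=
  (S.mem _).2 ⟨_, _, Nat.mod_lt _ (by norm_num), rfl⟩

theorem h_mul (a b : ℕ) : S.h a * S.h b = S.h (hT a b) := by
  rw [h, h, h, S.mul _ _ (Nat.mod_lt _ (by norm_num)) _ _ (Nat.mod_lt _ (by norm_num)), (hT_mod a b).1,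
    (hT_mod a b).2]

theorem h_inj {a b : ℕ} (ha : a < 384) (hb : b < 384) (he : S.h a = S.h b) : a = b := by
  obtain ⟨h1, h2⟩ := S.inj _ _ (Nat.mod_lt _ (by norm_num)) _ _ (Nat.mod_lt _ (by norm_num)) he
  have e1 : (192 ≤ a) ↔ (192 ≤ b) := by rw [← Nat.ble_eq, ← Nat.ble_eq, h1]
  omega

theorem h_eq_iff {a b : ℕ} (ha : a < 384) (hb : b < 384) : S.h a = S.h b ↔ a = b :=
  ⟨S.h_inj ha hb, congrArg _⟩

theorem h_zero : S.h 0 = 1 := S.el_zero

theorem h_one : S.h 1 = S.z := S.el_z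

theorem h_e : S.h 192 = S.e := S.el_e

theorem exists_h {x : G} (h1 : x * S.e = S.e * x) (h2 : x * S.z = S.z * x) : ∃ n < 384, S.h n = x := by
  obtain ⟨s, i, hi, rfl⟩ := (S.mem x).1 ⟨h1, h2⟩
  cases s
  · exact ⟨i, by omega, by
      rw [h, show Nat.ble 192 i = false from Bool.eq_false_iff.2 fun hh => by
          have := Nat.le_of_ble_eq_true hh; omega, Nat.mod_eq_of_lt hi]⟩
  · exact ⟨i + 192, by omega, by
      rw [h, Nat.ble_eq_true_of_le (show 192 ≤ i + 192 by omega), Nat.add_mod_right, Nat.mod_eq_of_lt hi]⟩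

theorem conj_h (n : ℕ) : IsConj S.e (S.h n) ↔ hE n = true :=
  S.isE_iff _ _ (Nat.mod_lt _ (by norm_num))

theorem z_sq : S.z * S.z = 1 := by rw [← S.h_one, h_mul, chk_hT.2.1, h_zero]

theorem e_sq : S.e * S.e = 1 := by rw [← S.h_e, h_mul, chk_hT.2.2.1, h_zero]

theorem z_ne : S.z ≠ 1 := by
  rw [← S.h_one, ← S.h_zero]
  exact fun he => absurd (S.h_inj (by norm_num) (by norm_num) he) (by norm_num)

theorem conj_e_ez : IsConj S.e (S.e * S.z) := by
  rw [show S.e * S.z = S.h (hT 192 1) by rw [← h_mul, h_e, h_one]]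
  exact (S.conj_h _).2 (by decide +kernel)

theorem mem_Cz {x : G} : x ∈ S.Cz ↔ x * S.z = S.z * x := Subgroup.mem_centralizer_singleton_iff

theorem z_comm (a : S.Cz) : (a : G) * S.z = S.z * a := S.mem_Cz.1 a.2

/-- The image of the element of a code. -/
def hb (n : ℕ) : S.X := QuotientGroup.mk (⟨S.h n, S.mem_Cz.2 (S.h_comm n).2⟩ : S.Cz)

theorem hb_mul (a b : ℕ) : S.hb a * S.hb b = S.hb (hT a b) := by
  rw [hb, hb, hb, ← QuotientGroup.mk_mul]
  exact congrArg _ (Subtype.ext (S.h_mul a b))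

theorem hb_zero : S.hb 0 = 1 := by
  rw [hb, ← QuotientGroup.mk_one]
  exact congrArg _ (Subtype.ext S.h_zero)

theorem hb_e : S.hb 192 = S.ebar := congrArg QuotientGroup.mk (Subtype.ext S.h_e)

theorem mem_zpowers_z {x : G} : x ∈ Subgroup.zpowers S.z ↔ x = 1 ∨ x = S.z := by
  constructor
  · rintro ⟨k, rfl⟩
    show S.z ^ k = 1 ∨ S.z ^ k = S.z
    rcases Int.even_or_odd k with ⟨j, rfl⟩ | ⟨j, rfl⟩
    · left; rw [← two_mul, zpow_mul, zpow_two, S.z_sq, one_zpow]
    · right; rw [zpow_add, zpow_mul, zpow_two, S.z_sq, one_zpow, one_mul, zpow_one]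
  · rintro (rfl | rfl)
    · exact one_mem _
    · exact Subgroup.mem_zpowers _

theorem mk_eq_iff (a b : S.Cz) :
    (QuotientGroup.mk a : S.X) = QuotientGroup.mk b ↔ (b : G) = a ∨ (b : G) = a * S.z := by
  rw [QuotientGroup.eq, Subgroup.mem_subgroupOf, mem_zpowers_z]
  simp only [Subgroup.coe_mul, Subgroup.coe_inv, inv_mul_eq_iff_eq_mul, mul_one]

theorem hb_eq_iff {a b : ℕ} (ha : a < 384) (hb' : b < 384) : S.hb a = S.hb b ↔ b = a ∨ b = hT a 1 := by
  rw [hb, hb, mk_eq_iff]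
  dsimp only
  rw [← S.h_one, h_mul, S.h_eq_iff hb' ha, S.h_eq_iff hb' (hT_lt _ _)]

/-- Membership of the class of the image of `e`. -/
def Kx (x : S.X) : Prop := IsConj S.ebar x

theorem Kx_mk (a : S.Cz) : S.Kx (QuotientGroup.mk a) ↔ IsConj S.e (a : G) ∨ IsConj S.e ((a : G) * S.z) := by
  constructor
  · intro hk
    obtain ⟨c, hc⟩ := isConj_iff.1 hk
    induction c using QuotientGroup.induction_on with
    | H c =>
      rw [ebar, ← QuotientGroup.mk_inv, ← QuotientGroup.mk_mul, ← QuotientGroup.mk_mul, mk_eq_iff] at hc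
      simp only [Subgroup.coe_mul, Subgroup.coe_inv] at hc
      rcases hc with hc | hc
      · exact Or.inl (isConj_iff.2 ⟨c, hc.symm⟩)
      · exact Or.inr (isConj_iff.2 ⟨c, by rw [hc, mul_assoc _ S.z, S.z_sq, mul_one]⟩)
  · intro hk
    have key : ∀ b : S.Cz, IsConj S.e (b : G) → S.Kx (QuotientGroup.mk b) := fun b hb' => by
      obtain ⟨c, hc1, hc2⟩ := S.trans _ hb' (S.z_comm b)
      refine isConj_iff.2 ⟨QuotientGroup.mk ⟨c, S.mem_Cz.2 hc1⟩, ?_⟩
      rw [ebar, ← QuotientGroup.mk_inv, ← QuotientGroup.mk_mul, ← QuotientGroup.mk_mul]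
      exact congrArg _ (Subtype.ext hc2)
    rcases hk with hk | hk
    · exact key a hk
    · have h1 := key (a * ⟨S.z, S.mem_Cz.2 rfl⟩) hk
      rwa [← (S.mk_eq_iff a _).2 (Or.inr (Subgroup.coe_mul _ a _))] at h1

theorem Kx_hb (n : ℕ) : S.Kx (S.hb n) ↔ hK n = true := by
  rw [hb, Kx_mk]
  dsimp only
  rw [← S.h_one, h_mul, conj_h, conj_h, hK, Bool.or_eq_true]

theorem Kx_ebar : S.Kx S.ebar := IsConj.refl _

theorem Kx_conj (g x : S.X) : S.Kx (g * x * g⁻¹) ↔ S.Kx x :=
  ⟨fun h1 => h1.trans (isConj_iff.2 ⟨g⁻¹, by group⟩), fun h1 => h1.trans (isConj_iff.2 ⟨g, rfl⟩)⟩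

/-- The element `z` or `1`. -/
def zb (b : Bool) : G := bif b then S.z else 1

theorem zb_comm (b : Bool) (a : S.Cz) : S.zb b * a = a * S.zb b := by
  cases b
  · simp [zb]
  · exact (S.z_comm a).symm

theorem zb_mul (b c : Bool) : S.zb b * S.zb c = S.zb (b ^^ c) := by
  cases b <;> cases c <;> simp [zb, S.z_sq]

theorem zb_inj {b c : Bool} (hh : S.zb b = S.zb c) : b = c := by
  cases b <;> cases c <;> simp [zb] at hh ⊢
  · exact S.z_ne hh.symm
  · exact S.z_ne hh

open Classical in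
/-- The square of a lift is `z`. -/
noncomputable def qx (x : S.X) : Bool := decide (∃ a : S.Cz, QuotientGroup.mk a = x ∧ (a : G) * a = S.z)

open Classical in
/-- Lifts do not commute. -/
noncomputable def bx (x y : S.X) : Bool :=
  decide (∃ a b : S.Cz, QuotientGroup.mk a = x ∧ QuotientGroup.mk b = y ∧ (a : G) * b ≠ b * a)

theorem sq_lift (a : S.Cz) : (a : G) * S.z * ((a : G) * S.z) = (a : G) * a := by
  calc (a : G) * S.z * (a * S.z) = a * (S.z * a) * S.z := by group
    _ = a * a * (S.z * S.z) := by rw [← S.z_comm a]; group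
    _ = a * a := by rw [S.z_sq, mul_one]

theorem qx_eq (a : S.Cz) : S.qx (QuotientGroup.mk a) = true ↔ (a : G) * a = S.z := by
  simp only [qx, decide_eq_true_eq]
  refine ⟨?_, fun h1 => ⟨a, rfl, h1⟩⟩
  rintro ⟨b, hb', hsq⟩
  rcases (S.mk_eq_iff b a).1 hb' with h1 | h1
  · rw [h1, hsq]
  · rw [h1]
    exact (S.sq_lift b).trans hsq

theorem sq_eq {a : S.Cz} (ha : (QuotientGroup.mk a : S.X) * QuotientGroup.mk a = 1) :
    (a : G) * a = S.zb (S.qx (QuotientGroup.mk a)) := by
  rw [← QuotientGroup.mk_mul, ← QuotientGroup.mk_one, mk_eq_iff] at ha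
  rcases ha with h1 | h1 <;> rw [Subgroup.coe_one, Subgroup.coe_mul] at h1
  · rw [show S.qx (QuotientGroup.mk a) = false from Bool.eq_false_iff.2 fun h2 => S.z_ne (by rw [← (S.qx_eq a).1 h2, ← h1])]
    exact h1.symm
  · have h2 : (a : G) * a = S.z := by
      rw [← mul_one ((a : G) * a), ← S.z_sq, ← mul_assoc, ← h1, one_mul]
    rw [(S.qx_eq a).2 h2]
    exact h2

theorem qx_hb (n : ℕ) : S.qx (S.hb n) = hQ n := by
  rw [Bool.eq_iff_iff, hb, qx_eq, hQ, Nat.beq_eq]
  dsimp only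
  rw [h_mul, ← S.h_one, S.h_eq_iff (hT_lt _ _) (by norm_num)]

theorem comm_mk_iff (a b : S.Cz) :
    (QuotientGroup.mk a : S.X) * QuotientGroup.mk b = QuotientGroup.mk b * QuotientGroup.mk a ↔
      (a : G) * b = b * a ∨ (a : G) * b = b * a * S.z := by
  rw [← QuotientGroup.mk_mul, ← QuotientGroup.mk_mul, eq_comm, mk_eq_iff]
  rfl

theorem bx_eq (a b : S.Cz) :
    S.bx (QuotientGroup.mk a) (QuotientGroup.mk b) = true ↔ (a : G) * b ≠ b * a := by
  simp only [bx, decide_eq_true_eq]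
  refine ⟨?_, fun h1 => ⟨a, b, rfl, rfl, h1⟩⟩
  rintro ⟨a', b', ha', hb', hne⟩ he
  have hz : ∀ x y : S.Cz, (x : G) * S.z * y = x * y * S.z := fun x y => by
    rw [mul_assoc, ← S.z_comm y, mul_assoc]
  rcases (S.mk_eq_iff _ _).1 ha' with h1 | h1 <;> rcases (S.mk_eq_iff _ _).1 hb' with h2 | h2 <;>
    rw [h1, h2] at he
  · exact hne he
  · rw [← mul_assoc, hz, mul_left_inj] at he
    exact hne he
  · rw [← mul_assoc (b' : G), hz, mul_left_inj] at he
    exact hne he
  · rw [← mul_assoc, ← mul_assoc, hz, hz, mul_left_inj, mul_left_inj] at he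
    exact hne he

theorem comm_eq {a b : S.Cz}
    (hab : (QuotientGroup.mk a : S.X) * QuotientGroup.mk b = QuotientGroup.mk b * QuotientGroup.mk a) :
    (a : G) * b = S.zb (S.bx (QuotientGroup.mk a) (QuotientGroup.mk b)) * ((b : G) * a) := by
  by_cases hc : (a : G) * b = b * a
  · rw [show S.bx (QuotientGroup.mk a) (QuotientGroup.mk b) = false from
      Bool.eq_false_iff.2 fun h1 => (S.bx_eq a b).1 h1 hc]
    simpa [zb] using hc
  · rw [(S.bx_eq a b).2 hc]
    show (a : G) * b = S.z * _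
    have hz := S.z_comm (b * a)
    rw [Subgroup.coe_mul] at hz
    rw [← hz]
    exact ((S.comm_mk_iff a b).1 hab).resolve_left hc

theorem qx_mul {x y : S.X} (hx : x * x = 1) (hy : y * y = 1) (hxy : x * y = y * x) :
    S.qx (x * y) = (S.qx x ^^ S.qx y ^^ S.bx x y) := by
  induction x using QuotientGroup.induction_on with
  | H a =>
  induction y using QuotientGroup.induction_on with
  | H b =>
  apply S.zb_inj
  have hm : (QuotientGroup.mk (a * b) : S.X) * QuotientGroup.mk (a * b) = 1 := by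
    rw [QuotientGroup.mk_mul, show (QuotientGroup.mk a : S.X) * QuotientGroup.mk b *
      (QuotientGroup.mk a * QuotientGroup.mk b) =
      QuotientGroup.mk a * (QuotientGroup.mk b * QuotientGroup.mk a) * QuotientGroup.mk b by group, ← hxy,
      show (QuotientGroup.mk a : S.X) * (QuotientGroup.mk a * QuotientGroup.mk b) * QuotientGroup.mk b =
      QuotientGroup.mk a * QuotientGroup.mk a * (QuotientGroup.mk b * QuotientGroup.mk b) by group, hx, hy,
      one_mul]
  rw [← QuotientGroup.mk_mul, ← S.sq_eq hm, ← S.zb_mul, ← S.zb_mul, ← S.sq_eq hx, ← S.sq_eq hy,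
    Subgroup.coe_mul]
  have hz := S.zb_comm (S.bx (QuotientGroup.mk a) (QuotientGroup.mk b)) a
  have hzb := S.zb_comm (S.bx (QuotientGroup.mk a) (QuotientGroup.mk b)) b
  set w := S.zb (S.bx (QuotientGroup.mk a) (QuotientGroup.mk b)) with hw
  have hc := S.comm_eq hxy
  rw [← hw] at hc
  have hw2 : w * w = 1 := by rw [hw, S.zb_mul, Bool.xor_self]; rfl
  have hc' : (b : G) * a = w * ((a : G) * b) := by rw [hc, ← mul_assoc, hw2, one_mul]
  calc (a : G) * b * (a * b) = a * ((b : G) * a) * b := by group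
    _ = a * (w * ((a : G) * b)) * b := by rw [hc']
    _ = (a * w) * a * (b * b) := by group
    _ = w * (a * a * (b * b)) := by rw [← hz]; group
    _ = a * a * (b * b) * w := by
        have := S.zb_comm (S.bx (QuotientGroup.mk a) (QuotientGroup.mk b)) (a * a * (b * b))
        rwa [← hw] at this

theorem bx_symm (x y : S.X) : S.bx x y = S.bx y x := by
  induction x using QuotientGroup.induction_on with
  | H a =>
  induction y using QuotientGroup.induction_on with
  | H b => rw [Bool.eq_iff_iff, bx_eq, bx_eq, ne_comm]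

theorem bx_mul {x y w : S.X} (hy : x * y = y * x) (hw : x * w = w * x) :
    S.bx x (y * w) = (S.bx x y ^^ S.bx x w) := by
  induction x using QuotientGroup.induction_on with
  | H a =>
  induction y using QuotientGroup.induction_on with
  | H b =>
  induction w using QuotientGroup.induction_on with
  | H c =>
  apply S.zb_inj
  have hm : (QuotientGroup.mk a : S.X) * QuotientGroup.mk (b * c) =
      QuotientGroup.mk (b * c) * QuotientGroup.mk a := by
    rw [QuotientGroup.mk_mul, ← mul_assoc, hy, mul_assoc, hw, mul_assoc]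
  have h1 := S.comm_eq hy
  have h2 := S.comm_eq hw
  have h3 := S.comm_eq hm
  rw [Subgroup.coe_mul] at h3
  rw [← QuotientGroup.mk_mul, ← S.zb_mul]
  refine mul_right_cancel (b := (b : G) * c * a) ?_
  rw [← h3, ← mul_assoc, h1, mul_assoc, mul_assoc (b : G) a c, h2,
    ← mul_assoc (b : G), ← S.zb_comm _ b]
  group

theorem qx_one : S.qx 1 = false := by
  rw [Bool.eq_false_iff]
  intro h1
  rw [← QuotientGroup.mk_one, qx_eq] at h1
  exact S.z_ne (by rw [← h1]; simp)

theorem conj_sq_lift {x g : G} (hg : g * S.z = S.z * g) :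
    g * x * g⁻¹ * (g * x * g⁻¹) = S.z ↔ x * x = S.z := by
  rw [show g * x * g⁻¹ * (g * x * g⁻¹) = g * (x * x) * g⁻¹ by group, mul_inv_eq_iff_eq_mul, ← hg,
    mul_right_inj]

theorem qx_conj (g x : S.X) : S.qx (g * x * g⁻¹) = S.qx x := by
  induction g using QuotientGroup.induction_on with
  | H c =>
  induction x using QuotientGroup.induction_on with
  | H a =>
  rw [Bool.eq_iff_iff, ← QuotientGroup.mk_inv, ← QuotientGroup.mk_mul, ← QuotientGroup.mk_mul, qx_eq,
    qx_eq]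
  exact S.conj_sq_lift (S.z_comm c)

theorem bx_conj (g x y : S.X) : S.bx (g * x * g⁻¹) (g * y * g⁻¹) = S.bx x y := by
  induction g using QuotientGroup.induction_on with
  | H c =>
  induction x using QuotientGroup.induction_on with
  | H a =>
  induction y using QuotientGroup.induction_on with
  | H b =>
  simp only [← QuotientGroup.mk_inv, ← QuotientGroup.mk_mul]
  rw [Bool.eq_iff_iff, bx_eq, bx_eq, not_iff_not]
  simp only [Subgroup.coe_mul, Subgroup.coe_inv]
  rw [show (c : G) * a * (c : G)⁻¹ * (c * b * (c : G)⁻¹) = c * (a * b) * (c : G)⁻¹ by group,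
    show (c : G) * b * (c : G)⁻¹ * (c * a * (c : G)⁻¹) = c * (b * a) * (c : G)⁻¹ by group,
    mul_left_inj, mul_right_inj]

theorem Kx_sq {x : S.X} (hx : S.Kx x) : x * x = 1 ∧ S.qx x = false := by
  obtain ⟨g, rfl⟩ := isConj_iff.1 hx
  constructor
  · rw [show g * S.ebar * g⁻¹ * (g * S.ebar * g⁻¹) = g * (S.ebar * S.ebar) * g⁻¹ by group, ← hb_e,
      hb_mul, chk_hT.2.2.1, hb_zero, mul_one, mul_inv_cancel]
  · rw [qx_conj, ← hb_e, qx_hb]
    decide +kernel

theorem hb_comm_iff (a b : ℕ) : S.hb a * S.hb b = S.hb b * S.hb a ↔ hcm' a b = true := by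
  rw [hb_mul, hb_mul, S.hb_eq_iff (hT_lt _ _) (hT_lt _ _), hcm', hcm, Bool.or_eq_true, Nat.beq_eq,
    Nat.beq_eq]
  have hz : hT (hT a b) 1 = hT 1 (hT a b) :=
    S.h_inj (hT_lt _ _) (hT_lt _ _) (by rw [← h_mul, ← S.h_mul 1, h_one, (S.h_comm _).2])
  constructor
  · rintro (h1 | h1)
    · exact Or.inl h1.symm
    · exact Or.inr (S.h_inj (hT_lt _ _) (hT_lt _ _) (by
        rw [← S.h_mul 1, h1, ← S.h_mul (hT a b), h_one, (S.h_comm (hT a b)).2, ← mul_assoc, S.z_sq, one_mul]))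
  · rintro (h1 | h1)
    · exact Or.inl h1.symm
    · exact Or.inr (S.h_inj (hT_lt _ _) (hT_lt _ _) (by
        rw [← S.h_mul (hT a b), h1, ← S.h_mul 1, h_one, ← (S.h_comm (hT b a)).2, mul_assoc, S.z_sq, mul_one]))

theorem bx_hb (a b : ℕ) : S.bx (S.hb a) (S.hb b) = !hcm a b := by
  rw [Bool.eq_iff_iff, hb, hb, bx_eq]
  dsimp only
  rw [h_mul, h_mul, Ne, S.h_eq_iff (hT_lt _ _) (hT_lt _ _), Bool.not_eq_true', Bool.eq_false_iff, hcm,
    Ne, Nat.beq_eq]

/-- An element commuting with the image of `e` fixes `e` or moves it to `e z`. -/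
theorem comm_ebar_iff (a : S.Cz) :
    (QuotientGroup.mk a : S.X) * S.ebar = S.ebar * QuotientGroup.mk a ↔
      (∃ n < 384, S.h n = a) ∨ (a : G) * S.e = S.e * a * S.z := by
  rw [ebar, comm_mk_iff]
  dsimp only
  refine or_congr ⟨fun h1 => S.exists_h h1 (S.z_comm a), ?_⟩ Iff.rfl
  rintro ⟨n, -, hn⟩
  rw [← hn]
  exact (S.h_comm n).1

end Setup

end Cfsg.Agent.Co3Inv
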