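import Cfsg.Agent.Lib.Co3Inv.Outer

/-!
Recognition of the third Conway group: the interface of the second radical. The normalizer of both radicals
is the set of the codes `inB`; the transvection of the third dual coordinate acts on it by `actX`.
-/

set_option autoImplicit false

namespace Cfsg.Agent.Co3Inv

open Cfsg.Agent.PermCert

/-- The code stabilizes both maximal isotropic subspaces. -/
def inB (x : ℕ) : Bool :=
  okP x && !ent (x / 64) 2 0 && !ent (x / 64) 2 1 && !Nat.testBit x 5

/-- The conjugate by the transvection of the third dual coordinate of an element of the stabilizer of both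
subspaces. -/
def actX (x : ℕ) : ℕ :=
  let S' := aS (gInv (x / 64)) (x % 64)
  let u1 := Nat.testBit S' 2
  let u2 := Nat.testBit S' 4
  pP x (64 * (273 + (bif u1 then 4 else 0) + (bif u2 then 32 else 0)) +
    ((bif u1 then 1 else 0) + (bif u1 && u2 then 2 else 0) + (bif u2 then 8 else 0)))

/-- The involution of the second radical outside the first normalizer. -/
structure Nbr {G : Type*} [Group G] {S : Setup G} (D : Crd S) where
  τ : S.X
  τ_sq : τ * τ = 1
  τ_q : S.qx τ = true
  act : ∀ c, inB c = true → τ * D.φ c * τ = D.φ (actX c)

end Cfsg.Agent.Co3Inv
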