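import Cfsg.Agent.Lib.Co3Inv.NbrData
import Cfsg.Agent.Lib.Co3Inv.Nbr

/-!
Recognition of the third Conway group: the checks for the second radical.
-/

set_option autoImplicit false
set_option maxRecDepth 100000

namespace Cfsg.Agent.Co3Inv

open Cfsg.Agent.PermCert

/-- The code of an element of the common part. -/
def tmC (S : ℕ) : ℕ := tmL.getD S 0

/-- The chosen element. -/
def bN : ℕ := 17736

/-- A basis of the common part. -/
def bdom (i : ℕ) : ℕ := get 6 (12 + 64 * (1 + 64 * (2 + 64 * (4 + 64 * 16)))) i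

theorem chk_tm : allBelow (fun S => okP (tmC S) && inB (tmC S) && Nat.beq (pP (tmC S) (tmC S)) oneP &&
    (kP (tmC S) == kS S) && (qP (tmC S) == qS S) && (Nat.beq S 0 || !Nat.beq (tmC S) oneP) &&
    allBelow (fun T => Nat.beq (pP (tmC S) (tmC T)) (tmC (S ^^^ T))) 32) 32 = true ∧
    tmC 12 = bN ∧ kP bN = true ∧ kS 12 = true ∧ tmC 0 = oneP ∧ !Nat.beq (bN / 64) 273 := by decide +kernel

theorem chk_cb : cbL.all (fun x => okP x && cP x bN &&
      (let x2 := pP x x
       let x4 := pP x2 x2
       Nat.beq (pP x4 x4) oneP)) = true ∧ cbL.length = 64 ∧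
    allBelow (fun i => Nat.blt (cbL.getD i 0) (cbL.getD (i + 1) 0)) 63 = true := by decide +kernel

theorem chk_cb_all : glL.all (fun M => !Nat.beq (mm M (bN / 64)) (mm (bN / 64) M) ||
    allBelow (fun S => !cP (64 * M + S) bN || cbL.any (fun x => Nat.beq x (64 * M + S))) 64) = true := by
  decide +kernel

theorem chk_allowed : cbL.all (fun u =>
    !(Nat.beq (pP u u) oneP && !(Nat.beq (u / 64) 273 && kS (u % 64))) || tmL.any (fun t => Nat.beq t u) ||
    Nat.blt (cbL.countP fun v =>
      Nat.beq (pP v v) oneP && !(Nat.beq (v / 64) 273 && kS (v % 64)) && cP u v) 32) = true := by decide +kernel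

/-- Generators of the image of the stabilizer of both subspaces on the common part. -/
def bGens : List ℕ := [17024, 17104]

/-- The conjugate in coordinates. -/
def cjT (g S : ℕ) : ℕ :=
  ((List.range 32).find? fun T => Nat.beq (tmC T) (pP (pP g (tmC S)) (iP g))).getD 32

/-- The image of a basis vector in a partial table. -/
def lin5 (tab : List ℕ) (S : ℕ) : ℕ :=
  ((List.range 32).find? fun m => Nat.beq
    ((List.range 5).foldl (fun acc k => bif m.testBit k then acc ^^^ bdom k else acc) 0) S).map
    (fun m => tab.getD m 0) |>.getD 64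

/-- All extensions of a partial table are restrictions of the linear group, or fail equivariance. -/
def enumT : ℕ → List ℕ → Bool
  | 0, tab =>
    glL.any (fun M => allBelow (fun i => Nat.beq (tab.getD (2 ^ i) 0) (aS M (bdom i))) 5) ||
    bGens.any (fun g => !glL.any fun M => allBelow (fun i =>
      Nat.beq (aS M (tab.getD (2 ^ i) 0)) (lin5 tab (cjT g (bdom i)))) 5)
  | fuel + 1, tab => allBelow (fun v =>
      (Nat.beq tab.length 1 && !Nat.beq v 41) || tab.any (fun w => Nat.beq w v) ||
      !allBelow (fun j =>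
        let a := (List.range 5).foldl (fun acc k => bif (tab.length + j).testBit k then acc ^^^ bdom k else acc) 0
        (qS a == qS (tab.getD j 0 ^^^ v)) && (kS a == kS (tab.getD j 0 ^^^ v))) tab.length ||
      enumT fuel (tab ++ tab.map (fun w => w ^^^ v))) 64

theorem chk_enumT : enumT 5 [0] = true := by decide +kernel

/-- The linear part of the conjugate by the exchange of the two subspaces. -/
def sigM (g : ℕ) : ℕ :=
  (g / 64 &&& 475) + (bif g.testBit 2 then 4 else 0) + (bif g.testBit 4 then 32 else 0)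

theorem chk_sigM : glL.all (fun M => allBelow (fun S => !inB (64 * M + S) ||
    (glB (sigM (64 * M + S)) &&
      allBelow (fun k => Nat.blt (aS (sigM (64 * M + S)) (2 ^ k)) 32 &&
        Nat.beq (pP (pP (64 * M + S) (tmC (2 ^ k))) (iP (64 * M + S))) (tmC (aS (sigM (64 * M + S)) (2 ^ k)))) 5 &&
      Nat.blt (aS (sigM (64 * M + S)) 32 ^^^ 32) 32 &&
      Nat.beq (pP (tmC (aS (sigM (64 * M + S)) 32 ^^^ 32)) (64 * M + S)) (actX (64 * M + S)))) 64) = true := by
  decide +kernel

theorem chk_faith : glL.all (fun M => glL.all fun N => Nat.beq M N ||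
    !Nat.beq (get 36 imgTab M % 2 ^ 30) (get 36 imgTab N % 2 ^ 30)) = true := by decide +kernel

theorem chk_bGens : bGens.all (fun g => inB g &&
    allBelow (fun S => Nat.blt (cjT g S) 32 &&
      Nat.beq (tmC (cjT g S)) (pP (pP g (tmC S)) (iP g))) 32) = true := by decide +kernel

end Cfsg.Agent.Co3Inv
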