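import Cfsg.Agent.Lib.Co3Inv.Model

/-!
Recognition of the third Conway group: the common part of two neighbouring radicals and the centralizer of one
of its elements, by codes. Generated by `tools/co3from2m12/local`.
-/

set_option autoImplicit false

namespace Cfsg.Agent.Co3Inv

/-- The common part, by the symmetric matrices with vanishing last entry. -/
def tmL : List ℕ := [17472, 17473, 17474, 17475, 17728, 17729, 17730, 17731, 17480, 17481, 17482, 17483, 17736, 17737, 17738, 17739, 19520, 19521, 19522, 19523, 19776, 19777, 19778, 19779, 19528, 19529, 19530, 19531, 19784, 19785, 19786, 19787]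

/-- The centralizer of the chosen element. -/
def cbL : List ℕ := [17472, 17473, 17474, 17475, 17476, 17477, 17478, 17479, 17480, 17481, 17482, 17483, 17484, 17485, 17486, 17487, 17728, 17729, 17730, 17731, 17732, 17733, 17734, 17735, 17736, 17737, 17738, 17739, 17740, 17741, 17742, 17743, 19520, 19521, 19522, 19523, 19524, 19525, 19526, 19527, 19528, 19529, 19530, 19531, 19532, 19533, 19534, 19535, 19776, 19777, 19778, 19779, 19780, 19781, 19782, 19783, 19784, 19785, 19786, 19787, 19788, 19789, 19790, 19791]

end Cfsg.Agent.Co3Inv
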