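import Cfsg.Agent.Lib.Co3Inv.FusedCoords
import Cfsg.Agent.Lib.M12Cent.Second
import Cfsg.Agent.Lib.Solvable.Fitting
import Cfsg.Agent.Lib.Transfer.Basic
import Cfsg.Prelude.Def_CaseTheorems

/-!
Recognition of the third Conway group: when the involution `e` with centralizer `2 × M₁₂` is conjugate to the
involution `a` of the second factor, the fusion of `e`, the set-up for the local analysis at `z`, no odd core
and no centre.
-/

set_option autoImplicit false
set_option maxRecDepth 100000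
set_option synthInstance.maxSize 10000

namespace Cfsg.Agent.Co3Inv

open Cfsg
open Cfsg.Agent.M12Cent (T cm isR setup₀)

theorem chk_of_fused : (∀ i < 192, T i i = 0 → i = 0 ∨ isTc i = true ∨ isR i = true) ∧
    (∀ i < 192, isTc i = true → T i i = 0) ∧ (∀ i < 192, isR i = true → T i i = 0) ∧
    T 0 0 = 0 ∧ (∀ i < 192, isTc i = true → isR i = false) ∧
    isR (T M12Cent.r₀ 1) = true ∧ M12Cent.r₀ < 192 ∧
    (∃ i < 192, isR i = true ∧ isR (T M12Cent.r₀ i) = true ∧ cm i M12Cent.r₀ = true) := by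
  decide +kernel

namespace Inp

variable {G : Type*} [Group G] (I : Inp G)

theorem a_sq : I.a * I.a = 1 := by
  rw [← map_mul, (M12Cent.orderOf_two_iff.1 (setup₀.R_def setup₀.r_R).1).2, map_one]

theorem conj_e_fix (m : Spor.M12) : I.ι m * I.e * (I.ι m)⁻¹ = I.e := by
  rw [I.comm, mul_inv_cancel_right]

/-- An involution commuting with `e`, `e` excluded. -/
theorem invol_cases {x : G} (hx : x * x = 1) (hc : x * I.e = I.e * x) :
    ∃ m : Spor.M12, m * m = 1 ∧ (x = I.ι m ∨ x = I.e * I.ι m) := by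
  obtain ⟨m, rfl | rfl⟩ := I.split x hc
  · exact ⟨m, I.inj (by rw [map_mul, hx, map_one]), Or.inl rfl⟩
  · refine ⟨m, I.inj ?_, Or.inr rfl⟩
    rw [map_mul, map_one, ← hx, mul_assoc I.e (I.ι m), ← mul_assoc (I.ι m) I.e, I.comm, mul_assoc I.e,
      ← mul_assoc I.e I.e, I.e_sq, one_mul]

/-- An involution of the second factor is in one of the two classes. -/
theorem cls_sq {m : Spor.M12} (hm : m * m = 1) (h1 : m ≠ 1) : IsConj setup₀.t m ∨ IsConj setup₀.r m :=
  cls_M12 m (M12Cent.orderOf_two_iff.2 ⟨h1, hm⟩)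

section fused

variable (hf : IsConj I.e I.a)
include hf

theorem not_rclass_z {m : Spor.M12} (h : IsConj setup₀.r m) : ¬ IsConj I.z (I.ι m) := fun h' =>
  I.not_conj_z (hf.trans ((I.map_conj h).trans h'.symm))

theorem conj_e_z : IsConj I.e (I.e * I.z) := by
  obtain ⟨g, hg⟩ := isConj_iff.1 hf
  obtain ⟨d, hdt, hdr, hdd⟩ := (setup₀.R_sq setup₀.r_R).2
  have hye : g⁻¹ * I.ι d * g * I.e = I.e * (g⁻¹ * I.ι d * g) := by
    have h1 : I.ι d * I.a = I.a * I.ι d := by rw [← map_mul, hdr, map_mul]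
    rw [← hg] at h1
    calc g⁻¹ * I.ι d * g * I.e = g⁻¹ * (I.ι d * (g * I.e * g⁻¹)) * g := by group
      _ = g⁻¹ * (g * I.e * g⁻¹ * I.ι d) * g := by rw [h1]
      _ = _ := by group
  obtain ⟨m, hm⟩ := I.sq_mem hye
  have hzm : I.ι (m * m) = g⁻¹ * I.z * g := by
    rw [← hm, show g⁻¹ * I.ι d * g * (g⁻¹ * I.ι d * g) = g⁻¹ * (I.ι d * I.ι d) * g by group, ← map_mul, hdd]
  have hzc : IsConj I.z (I.ι (m * m)) := isConj_iff.2 ⟨g⁻¹, by rw [hzm, inv_inv]⟩
  have hm2 : m * m * (m * m) = 1 := by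
    apply I.inj
    rw [map_mul, map_one, hzm, show g⁻¹ * I.z * g * (g⁻¹ * I.z * g) = g⁻¹ * (I.z * I.z) * g by group,
      ← map_mul, setup₀.t_sq, map_one]
    group
  have hm1 : m * m ≠ 1 := fun h => by
    rw [h, map_one, isConj_one_left, ← map_one I.ι] at hzc
    exact setup₀.t_ne (I.inj hzc)
  rcases cls_sq hm2 hm1 with h | h
  · obtain ⟨c, hc⟩ := isConj_iff.1 h
    have h2 : IsConj I.e (I.e * I.ι (m * m)) := by
      have haz : IsConj I.e (I.a * I.z) := by
        refine hf.trans ?_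
        have h3 := I.conj_a (M12Cent.T_lt chk_of_fused.2.2.2.2.2.2.1 (by norm_num)) chk_of_fused.2.2.2.2.2.1
        rwa [I.el_false, ← setup₀.mul _ chk_of_fused.2.2.2.2.2.2.1 _ (by norm_num), map_mul,
          setup₀.el_one] at h3
      refine haz.trans (isConj_iff.2 ⟨g⁻¹, ?_⟩)
      rw [hzm, ← hg]; group
    refine h2.trans (isConj_iff.2 ⟨(I.ι c)⁻¹, ?_⟩)
    rw [inv_inv, ← hc, map_mul, map_mul, map_inv]
    calc (I.ι c)⁻¹ * (I.e * (I.ι c * I.z * (I.ι c)⁻¹)) * I.ι c
        = (I.ι c)⁻¹ * (I.e * I.ι c) * I.z := by group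
      _ = _ := by rw [← I.comm, inv_mul_cancel_left]
  · exact absurd hzc (I.not_rclass_z hf h)

theorem conj_e_a : IsConj I.e (I.e * I.a) := by
  obtain ⟨g, hg⟩ := isConj_iff.1 hf
  have hea : g⁻¹ * I.e * g * I.e = I.e * (g⁻¹ * I.e * g) := by
    have h1 : I.e * I.a = I.a * I.e := (I.comm _).symm
    rw [← hg] at h1
    calc g⁻¹ * I.e * g * I.e = g⁻¹ * (I.e * (g * I.e * g⁻¹)) * g := by group
      _ = g⁻¹ * (g * I.e * g⁻¹ * I.e) * g := by rw [h1]
      _ = _ := by group
  obtain ⟨q, hq, hq' | hq'⟩ := I.invol_cases (x := g⁻¹ * I.e * g) (by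
    rw [show g⁻¹ * I.e * g * (g⁻¹ * I.e * g) = g⁻¹ * (I.e * I.e) * g by group, I.e_sq]; group) hea
  · obtain ⟨i, hi, hiR, hiR', hic⟩ := chk_of_fused.2.2.2.2.2.2.2
    set u := setup₀.el i with hu
    have hur : I.ι u * I.a = I.a * I.ι u := by
      rw [← map_mul, ← map_mul, hu, M12Cent.Setup.r, (setup₀.comm_iff hi chk_of_fused.2.2.2.2.2.2.1).2 hic]
    have hru : IsConj I.a (I.a * I.ι u) := by
      rw [← map_mul, hu, M12Cent.Setup.r, setup₀.mul _ chk_of_fused.2.2.2.2.2.2.1 _ hi, ← I.el_false]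
      exact I.conj_a (M12Cent.T_lt chk_of_fused.2.2.2.2.2.2.1 hi) hiR'
    have hua : IsConj I.a (I.ι u) := I.map_conj (rclass hi hiR)
    have hmain : ∀ v, v * I.a = I.a * v → IsConj I.a v → IsConj I.a (I.a * v) → v * v = 1 →
        (∀ m, g⁻¹ * v * g ≠ I.ι m) → IsConj I.e (I.e * I.a) := by
      intro v hva hv hav hv2 hout
      have hc : g⁻¹ * v * g * I.e = I.e * (g⁻¹ * v * g) := by
        rw [← hg] at hva
        calc g⁻¹ * v * g * I.e = g⁻¹ * (v * (g * I.e * g⁻¹)) * g := by group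
          _ = g⁻¹ * (g * I.e * g⁻¹ * v) * g := by rw [hva]
          _ = _ := by group
      obtain ⟨m, hm2, hm | hm⟩ := I.invol_cases (x := g⁻¹ * v * g) (by
        rw [show g⁻¹ * v * g * (g⁻¹ * v * g) = g⁻¹ * (v * v) * g by group, hv2]; group) hc
      · exact absurd hm (hout m)
      have hm1 : IsConj (I.a * v) (I.ι m) := by
        refine isConj_iff.2 ⟨g⁻¹, ?_⟩
        rw [← hg, inv_inv]
        calc g⁻¹ * (g * I.e * g⁻¹ * v) * g = I.e * (g⁻¹ * v * g) := by group
          _ = _ := by rw [hm, ← mul_assoc, I.e_sq, one_mul]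
      have hm1' : m ≠ 1 := fun h => by
        rw [h, map_one] at hm1
        exact I.e_ne (isConj_one_left.1 (hf.trans (hav.trans hm1)))
      rcases cls_sq hm2 hm1' with h | h
      · exact absurd (hf.trans (hav.trans (hm1.trans (I.map_conj h).symm))) I.not_conj_z
      · obtain ⟨c, hc'⟩ := isConj_iff.1 h.symm
        have h1 : IsConj I.e (g⁻¹ * v * g) := (hf.trans hv).trans (isConj_iff.2 ⟨g⁻¹, by rw [inv_inv]⟩)
        rw [hm] at h1
        refine h1.trans (isConj_iff.2 ⟨I.ι c, ?_⟩)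
        rw [← conj_mul, I.conj_e_fix, ← map_inv, ← map_mul, ← map_mul, hc']
    by_cases h : ∃ m, g⁻¹ * I.ι u * g = I.ι m
    · obtain ⟨m, hm⟩ := h
      refine hmain (I.a * I.ι u) (by rw [mul_assoc, hur]) hru ?_ ?_ fun m' hm' => I.not_mem (m' * m⁻¹) ?_
      · rw [← mul_assoc, I.a_sq, one_mul]; exact hua
      · rw [show I.a * I.ι u * (I.a * I.ι u) = I.a * (I.ι u * I.a) * I.ι u by group, hur, ← mul_assoc,
          I.a_sq, one_mul, ← map_mul, hu, setup₀.mul i hi i hi, chk_of_fused.2.2.1 i hi hiR, setup₀.el_zero,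
          map_one]
      · rw [map_mul, map_inv, ← hm', ← hm, ← hg]
        group
    · push Not at h
      refine hmain (I.ι u) hur hua hru ?_ h
      rw [← map_mul, hu, setup₀.mul i hi i hi, chk_of_fused.2.2.1 i hi hiR, setup₀.el_zero, map_one]
  · have hq1 : q ≠ 1 := fun h => by
      rw [h, map_one, mul_one] at hq'
      have hga : g * I.e = I.e * g := by
        calc g * I.e = g * (g⁻¹ * I.e * g) := by rw [hq']
          _ = _ := by group
      have h3 : I.ι setup₀.r = I.e := by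
        show I.a = I.e
        rw [← hg, hga, mul_inv_cancel_right]
      exact I.not_mem _ h3
    have hae : g * I.ι q * g⁻¹ = I.a * I.e := by
      have h2 : I.ι q = I.e * (g⁻¹ * I.e * g) := by rw [hq', ← mul_assoc, I.e_sq, one_mul]
      rw [h2, ← hg]; group
    have hcomm : I.e * I.a = I.a * I.e := (I.comm _).symm
    rcases cls_sq hq hq1 with h | h
    · obtain ⟨w, hw⟩ := exists_sqrt_z
      obtain ⟨c, hc⟩ := isConj_iff.1 h
      set y := g * I.ι (c * w * c⁻¹) * g⁻¹ with hy
      have hy2 : y * y = I.a * I.e := by rw [hy, conj_mul, ← map_mul, conj_mul, hw, hc, hae]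
      have hya : Commute y I.a := by
        show y * I.a = I.a * y
        rw [hy, ← hg, conj_mul, conj_mul, I.comm]
      have hye : y * I.e = I.e * y := by
        have h2 : Commute y (I.a * I.e) := by
          rw [← hy2]; exact (Commute.refl y).mul_right (Commute.refl y)
        have h3 := hya.mul_right h2
        rwa [← mul_assoc, I.a_sq, one_mul] at h3
      obtain ⟨m, hm⟩ := I.sq_mem hye
      rw [hy2] at hm
      exact absurd (show I.ι (setup₀.r * (m * m)) = I.e by
        rw [map_mul, ← hm, ← mul_assoc]; exact (congrArg (· * I.e) I.a_sq).trans (one_mul _)) (I.not_mem _)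
    · refine hf.trans ((I.map_conj h).trans ?_)
      rw [hcomm, ← hae]
      exact M12Cent.isConj_conj g _

/-- Every `e` times an involution of the second factor is conjugate to `e`. -/
theorem conj_e_mul {m : Spor.M12} (hm : m * m = 1) : IsConj I.e (I.e * I.ι m) := by
  by_cases h1 : m = 1
  · rw [h1, map_one, mul_one]
  have key : ∀ x, IsConj x m → IsConj I.e (I.e * I.ι x) → IsConj I.e (I.e * I.ι m) := by
    intro x hx he
    obtain ⟨c, hc⟩ := isConj_iff.1 hx
    refine he.trans (isConj_iff.2 ⟨I.ι c, ?_⟩)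
    rw [← conj_mul, I.conj_e_fix, ← map_inv, ← map_mul, ← map_mul, hc]
  rcases cls_sq hm h1 with h | h
  · exact key _ h (I.conj_e_z hf)
  · exact key _ h (I.conj_e_a hf)

theorem isE_iff (s : Bool) {i : ℕ} (hi : i < 192) : IsConj I.e (I.el s i) ↔ isE s i = true := by
  have hinv : IsConj I.e (I.el s i) → T i i = 0 := fun h => by
    obtain ⟨c, hc⟩ := isConj_iff.1 h
    have h2 : I.el s i * I.el s i = 1 := by rw [← hc, conj_mul, I.e_sq, mul_one, mul_inv_cancel]
    rw [I.el_mul s hi s hi, Bool.xor_self, ← I.el_zero] at h2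
    exact (I.el_inj (M12Cent.T_lt hi hi) (by norm_num) h2).2
  cases s
  · rw [isE, Bool.false_and, Bool.not_false, Bool.true_and, Bool.false_or]
    refine ⟨fun h => ?_, fun h => hf.trans (I.conj_a hi h)⟩
    rcases chk_of_fused.1 i hi (hinv h) with rfl | h' | h'
    · rw [I.el_zero] at h
      exact absurd (isConj_one_left.1 h) I.e_ne
    · exact absurd h (I.not_conj_tc hi h')
    · exact h'
  · rw [isE, Bool.true_and, Bool.not_true, Bool.false_and, Bool.or_false, Nat.beq_eq]
    refine ⟨hinv, fun h => ?_⟩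
    rw [I.el_true]
    refine I.conj_e_mul hf ?_
    rw [setup₀.mul i hi i hi, h, setup₀.el_zero]

theorem trans_z (g : G) (hg : IsConj I.e g) (hz : g * I.z = I.z * g) :
    ∃ c : G, c * I.z = I.z * c ∧ c * I.e * c⁻¹ = g := by
  obtain ⟨h, rfl⟩ := isConj_iff.1 hg
  set x := h⁻¹ * I.z * h with hx
  have hxc : x * I.e = I.e * x := by
    rw [hx]
    calc h⁻¹ * I.z * h * I.e = h⁻¹ * (I.z * (h * I.e * h⁻¹)) * h := by group
      _ = h⁻¹ * (h * I.e * h⁻¹ * I.z) * h := by rw [hz]
      _ = _ := by group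
  have hzx : IsConj I.z x := isConj_iff.2 ⟨h⁻¹, by rw [hx, inv_inv]⟩
  obtain ⟨m, hm2, hm | hm⟩ := I.invol_cases (x := x) (by
    rw [hx, show h⁻¹ * I.z * h * (h⁻¹ * I.z * h) = h⁻¹ * (I.z * I.z) * h by group, ← map_mul, setup₀.t_sq,
      map_one]; group) hxc
  · have hm1 : m ≠ 1 := fun h1 => by
      rw [hm, h1, map_one, isConj_one_left, ← map_one I.ι] at hzx
      exact setup₀.t_ne (I.inj hzx)
    rcases cls_sq hm2 hm1 with hc | hc
    · obtain ⟨c, hc⟩ := isConj_iff.1 hc
      refine ⟨h * I.ι c, ?_, ?_⟩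
      · refine mul_inv_eq_iff_eq_mul.1 ?_
        calc h * I.ι c * I.z * (h * I.ι c)⁻¹ = h * I.ι (c * setup₀.t * c⁻¹) * h⁻¹ := by
              rw [map_mul, map_mul, map_inv]; group
          _ = I.z := by rw [hc, ← hm, hx]; group
      · calc h * I.ι c * I.e * (h * I.ι c)⁻¹ = h * (I.ι c * I.e * (I.ι c)⁻¹) * h⁻¹ := by group
          _ = _ := by rw [I.conj_e_fix]
    · exact absurd (hm ▸ hzx) (I.not_rclass_z hf hc)
  · exact absurd ((I.conj_e_mul hf hm2).trans (hm ▸ hzx).symm) I.not_conj_z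

/-- The set-up for the local analysis at `z`. -/
theorem exists_setup : ∃ S : Setup G, S.z = I.z :=
  ⟨{ e := I.e, z := I.z, el := I.el
     mem := fun x => ⟨fun h => I.mem_ez h.1 h.2, fun ⟨s, i, hi, he⟩ =>
       he ▸ ⟨I.el_comm_e s i, I.el_comm_z s hi⟩⟩
     inj := fun _ _ hi _ _ hj h => I.el_inj hi hj h
     mul := fun s _ hi s' _ hj => I.el_mul s hi s' hj
     el_zero := I.el_zero
     el_e := I.el_e
     el_z := I.el_z
     isE_iff := fun s _ hi => I.isE_iff hf s hi
     trans := I.trans_z hf }, rfl⟩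

theorem center_eq_bot : Subgroup.center G = ⊥ := by
  refine (Subgroup.eq_bot_iff_forall _).2 fun x hx => ?_
  have hc : ∀ y, y * x = x * y := Subgroup.mem_center_iff.1 hx
  obtain ⟨m, hm | hm⟩ := I.split x (hc I.e).symm
  all_goals
    have hmc : m ∈ Subgroup.center Spor.M12 := Subgroup.mem_center_iff.2 fun k => by
      apply I.inj
      have h := hc (I.ι k)
      subst hm
      first
        | rw [map_mul, map_mul]; exact h
        | rw [map_mul, map_mul]
          rw [← mul_assoc, I.comm, mul_assoc, mul_assoc] at h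
          exact mul_left_cancel h
    haveI := Golay.isSimpleGroup_sporM12
    have hm1 : m = 1 := by
      rcases IsSimpleGroup.eq_bot_or_eq_top_of_normal (Subgroup.center Spor.M12) inferInstance with h | h
      · exact Subgroup.mem_bot.1 (h ▸ hmc)
      · exact absurd ⟨⟨fun a b => Subgroup.mem_center_iff.1 (h ▸ Subgroup.mem_top b) a⟩⟩ not_comm_M12
  · rw [hm, hm1, map_one]
  · exfalso
    rw [hm1, map_one, mul_one] at hm
    subst hm
    obtain ⟨g, hg⟩ := isConj_iff.1 hf
    have h2 : I.a = I.e := by rw [← hg, hc g, mul_inv_cancel_right]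
    exact I.not_mem _ h2

theorem oddCore_eq_bot [Finite G] : oddCore G = ⊥ := by
  haveI hn : (oddCore G).Normal := FittingCores.pPrimeCore_normal 2
  set O := oddCore G with hO
  have hodd : Odd (Nat.card O) := Nat.coprime_two_right.1 (FittingCores.pPrimeCore_coprime 2)
  have hfix : ∀ x ∈ O, x * I.e = I.e * x → x = 1 := by
    have hM : ∀ m, I.ι m ∈ O → m = 1 := by
      haveI := Golay.isSimpleGroup_sporM12
      haveI := hn.comap I.ι
      intro m hm
      rcases IsSimpleGroup.eq_bot_or_eq_top_of_normal (O.comap I.ι) inferInstance with h | h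
      · exact Subgroup.mem_bot.1 (h ▸ (Subgroup.mem_comap.2 hm))
      · exfalso
        have hz : I.z ∈ O := Subgroup.mem_comap.1 (h ▸ Subgroup.mem_top setup₀.t)
        have h2 : orderOf I.z = 2 := by rw [orderOf_injective I.ι I.inj, setup₀.ht2]
        have := Subgroup.orderOf_dvd_natCard O hz
        rw [h2] at this
        exact Nat.not_even_iff_odd.2 hodd (even_iff_two_dvd.2 this)
    intro x hx hc
    obtain ⟨m, hm⟩ := I.sq_mem hc
    have h2 : x * x = 1 := by rw [hm, hM (m * m) (hm ▸ mul_mem hx hx), map_one]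
    have h3 := Subgroup.orderOf_dvd_natCard O hx
    by_contra h1
    rw [M12Cent.orderOf_two_iff.2 ⟨h1, h2⟩] at h3
    exact Nat.not_even_iff_odd.2 hodd (even_iff_two_dvd.2 h3)
  have hfixc : ∀ v, IsConj I.e v → ∀ x ∈ O, x * v = v * x → x = 1 := by
    intro v hv x hx hc
    obtain ⟨g, rfl⟩ := isConj_iff.1 hv
    have h := hn.conj_mem x hx g⁻¹
    rw [inv_inv] at h
    have h1 := hfix _ h (by
      calc g⁻¹ * x * g * I.e = g⁻¹ * (x * (g * I.e * g⁻¹)) * g := by group
        _ = g⁻¹ * (g * I.e * g⁻¹ * x) * g := by rw [hc]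
        _ = _ := by group)
    calc x = g * (g⁻¹ * x * g) * g⁻¹ := by group
      _ = 1 := by rw [h1]; group
  exact (Subgroup.eq_bot_iff_forall _).2 (M12Cent.odd_trivial I.e_sq I.a_sq
    (fun x hx => hn.conj_mem x hx _) (fun x hx => hn.conj_mem x hx _) hfix (hfixc _ hf)
    (hfixc _ (I.conj_e_a hf)))

end fused

end Inp

/-- In a non-abelian simple group containing an element of odd order `3` every element is in the subgroup
generated by the elements of odd order. -/
theorem pResidual_eq_top {G : Type*} [Group G] [Finite G] [IsSimpleGroup G] (I : Inp G) :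
    pResidual 2 G = ⊤ := by
  haveI : Fact (Nat.Prime 3) := ⟨by norm_num⟩
  obtain ⟨⟨x, hx⟩, hx3⟩ := exists_prime_orderOf_dvd_card' (G := Subgroup.centralizer ({I.e} : Set G)) 3
    (by rw [I.card_cent]; norm_num)
  have hx3' : orderOf x = 3 := by rw [← Subgroup.orderOf_coe] at hx3; exact hx3
  refine (IsSimpleGroup.eq_bot_or_eq_top_of_normal (pResidual 2 G) inferInstance).resolve_left fun h => ?_
  have hmem : x ∈ pResidual 2 G := Subgroup.subset_closure (show Nat.Coprime (orderOf x) 2 by rw [hx3']; decide)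
  rw [h, Subgroup.mem_bot] at hmem
  rw [hmem, orderOf_one] at hx3'
  omega

end Cfsg.Agent.Co3Inv
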