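import Cfsg.Agent.Lib.Co3Inv.OuterData
import Cfsg.Agent.Lib.Co3Inv.GLCheck

/-!
Recognition of the third Conway group: the checks on the involutions outside the radical.
-/

set_option autoImplicit false
set_option maxRecDepth 100000

namespace Cfsg.Agent.Co3Inv

open Cfsg.Agent.PermCert

/-- The product of two codes of the normalizer of the radical. -/
def pP (x y : ℕ) : ℕ := 64 * mm (x / 64) (y / 64) + (x % 64 ^^^ aS (x / 64) (y % 64))

/-- The code is in range. -/
def okP (x : ℕ) : Bool := glB (x / 64)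

/-- The inverse of a code. -/
def iP (x : ℕ) : ℕ := 64 * gInv (x / 64) + aS (gInv (x / 64)) (x % 64)

/-- The codes commute. -/
def cP (x y : ℕ) : Bool := Nat.beq (pP x y) (pP y x)

/-- The code of the identity. -/
def oneP : ℕ := 64 * 273

/-- The code is in the class of the image of `e`. -/
def kP (x : ℕ) : Bool :=
  bif Nat.beq (x / 64) 273 then kS (x % 64)
  else invRows.any fun r => Nat.beq r.1 (x / 64) && Nat.testBit r.2.2.1 (x % 64)

/-- The square of a lift is `z`. -/
def qP (x : ℕ) : Bool :=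
  bif Nat.beq (x / 64) 273 then qS (x % 64)
  else invRows.any fun r => Nat.beq r.1 (x / 64) && Nat.testBit r.2.2.2 (x % 64)

/-- The code of a class of fixed matrices for the standard transposition. -/
def cl266 (t : ℕ) : ℕ := get 7 0x45010408102040808a0208102040810204045010408102040808a02005000408102040800a0008102040810204005000408102040800a000 t

theorem chk_cl266_class : allBelow (fun t => !Nat.blt (cl266 t) 64 ||
    (List.range 64).any fun b => Nat.beq t (cl266 t ^^^ b ^^^ aS 266 b)) 64 = true := by decide +kernel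

theorem chk_cl266 : allBelow (fun t => !Nat.beq (aS 266 t) t || Nat.blt (cl266 t) 64) 64 = true ∧
    (cl266 0 = 0 ∧ cl266 2 = 2 ∧ cl266 32 = 32 ∧ cl266 34 = 34) ∧ qS 2 = false ∧
    aS 266 32 = 32 ∧ aS 266 34 = 34 ∧ aS 266 2 = 2 ∧ aS 266 41 = 41 ∧ (32 ^^^ 34 = 2) := by decide +kernel

theorem chk_invRows : invRows.all (fun r => glB r.1 && glB r.2.1 && !Nat.beq r.1 273 &&
    Nat.beq (mm (mm r.2.1 r.1) (gInv r.2.1)) 266 &&
    allBelow (fun S => !Nat.beq (aS r.1 S) S ||
      ((Nat.testBit r.2.2.1 S == (Nat.beq (cl266 (aS r.2.1 S)) 32 || Nat.beq (cl266 (aS r.2.1 S)) 34)) &&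
        (Nat.testBit r.2.2.2 S == Nat.beq (cl266 (aS r.2.1 S)) 2) &&
        Nat.beq (aS 266 (aS r.2.1 S)) (aS r.2.1 S))) 64) = true ∧
    glL.all (fun M => !Nat.beq (mm M M) 273 || Nat.beq M 273 || invRows.any fun r => Nat.beq r.1 M) = true ∧
    invRows.all (fun r => invRows.all fun r' => !Nat.beq r.1 r'.1 ||
      (Nat.beq r.2.1 r'.2.1 && Nat.beq r.2.2.1 r'.2.2.1 && Nat.beq r.2.2.2 r'.2.2.2)) = true := by decide +kernel

theorem chk_swapC : okP swapC = true ∧
    Nat.beq (pP (pP swapC (64 * 266 + 32)) (iP swapC) / 64) 266 = true ∧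
    Nat.beq (cl266 (pP (pP swapC (64 * 266 + 32)) (iP swapC) % 64)) 34 = true := by decide +kernel

theorem chk_s6_inv : allBelow (fun i => !Nat.beq (mm (s6.getD i 0) (s6.getD i 0)) 273 ||
    Nat.beq (s6.getD i 0) 273 || (List.range 6).any (fun c =>
      Nat.beq (mm (mm (s6.getD c 0) (s6.getD i 0)) (gInv (s6.getD c 0))) 266)) 6 = true := by decide +kernel

theorem chk_s6_mul : allBelow (fun i => allBelow (fun j => Nat.beq (s6.getD i 0) 273 || Nat.beq (s6.getD j 0) 273 ||
    Nat.beq (s6.getD i 0) (s6.getD j 0) || !Nat.beq (mm (s6.getD i 0) (s6.getD i 0)) 273 ||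
    !Nat.beq (mm (s6.getD j 0) (s6.getD j 0)) 273 ||
    (!Nat.beq (mm (mm (s6.getD i 0) (s6.getD j 0)) (mm (s6.getD i 0) (s6.getD j 0))) 273)) 6) 6 = true ∧
    allBelow (fun i => Nat.beq (mm (s6.getD i 0) (s6.getD i 0)) 273 ||
      (let P := mm (s6.getD i 0) (s6.getD i 0)
       let Q := mm P P
       !Nat.beq (mm Q Q) 273)) 6 = true := by decide +kernel

theorem chk_cent128 : cent128.all (fun c => (Nat.beq c.1 0 || Nat.beq c.1 2) &&
    Nat.beq c.2.1.length 128 &&
    c.2.1.all (fun x => okP x && cP x (64 * 266 + c.1) &&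
      (let x2 := pP x x
       let x4 := pP x2 x2
       Nat.beq (pP x4 x4) oneP)) &&
    allBelow (fun i => Nat.blt (c.2.1.getD i 0) (c.2.1.getD (i + 1) 0)) 127 &&
    Nat.beq (c.2.1.countP fun x => Nat.beq (pP x x) oneP) 64 &&
    c.2.1.contains c.2.2.1 && c.2.1.contains c.2.2.2 && Nat.beq (pP c.2.2.1 c.2.2.1) oneP &&
    Nat.beq (pP c.2.2.2 c.2.2.2) oneP && !cP c.2.2.1 c.2.2.2) = true ∧
    cent128.map Prod.fst = [0, 2] := by decide +kernel

theorem chk_exp : [0, 2].all (fun s => glL.all fun M => !Nat.beq (mm M 266) (mm 266 M) ||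
    allBelow (fun S => !cP (64 * M + S) (64 * 266 + s) ||
      (let x2 := pP (64 * M + S) (64 * M + S)
       let x4 := pP x2 x2
       Nat.beq (pP x4 x4) oneP)) 64) = true := by decide +kernel

end Cfsg.Agent.Co3Inv
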