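import Cfsg.Agent.Lib.Co3Inv.Split
import Cfsg.Agent.Lib.Co3Inv.OuterCheck

/-!
Recognition of the third Conway group: the class of the image of `e` and the squares of lifts on the
involutions of the normalizer of the radical.
-/

set_option autoImplicit false

namespace Cfsg.Agent.Co3Inv

open Cfsg.Agent.PermCert

theorem pP_div {M K s t : ℕ} (hs : s < 64) (ht : t < 64) :
    pP (64 * M + s) (64 * K + t) = 64 * mm M K + (s ^^^ aS M t) := by
  unfold pP
  rw [show (64 * M + s) / 64 = M by omega, show (64 * K + t) / 64 = K by omega,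
    show (64 * M + s) % 64 = s by omega, show (64 * K + t) % 64 = t by omega]

theorem code_div {M s : ℕ} (hs : s < 64) : (64 * M + s) / 64 = M ∧ (64 * M + s) % 64 = s := by omega

namespace Spl

variable {G : Type*} [Group G] {S : Setup G} (P : Spl S)

/-- The element of a code. -/
def φ (x : ℕ) : S.X := P.N.θ (x % 64) * P.L (x / 64)

theorem φ_th {a : ℕ} (ha : a < 64) : P.φ (64 * 273 + a) = P.N.θ a := by
  rw [φ, (code_div ha).1, (code_div ha).2, P.L_one, mul_one]

theorem φ_one : P.φ oneP = 1 := by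
  rw [show oneP = 64 * 273 + 0 from rfl, P.φ_th (by norm_num), theta_zero]

theorem move {M : ℕ} (hM : glB M = true) {a : ℕ} (ha : a < 64) :
    P.L M * P.N.θ a = P.N.θ (aS M a) * P.L M := by
  rw [← P.L_maps M hM a ha, inv_mul_cancel_right]

theorem φ_mp {x : ℕ} (hx : okP x = true) : P.N.Mp (P.φ x) (x / 64) := fun a ha => by
  have hs : x % 64 < 64 := Nat.mod_lt _ (by norm_num)
  rw [φ, Maps.mul (P.N.mp_th hs) (P.L_maps _ hx) (fun c _ => aS_lt _) a ha]
  dsimp only
  rw [aS_one (aS_lt _)]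

theorem okP_pP {x y : ℕ} (hx : okP x = true) (hy : okP y = true) : okP (pP x y) = true := by
  unfold okP at hx hy ⊢
  unfold pP
  rw [(code_div (xor_lt_64 (Nat.mod_lt _ (by norm_num)) (aS_lt _))).1]
  exact (mm_gl hx hy).1

theorem φ_mul {x y : ℕ} (hx : okP x = true) (hy : okP y = true) : P.φ x * P.φ y = P.φ (pP x y) := by
  have hs : x % 64 < 64 := Nat.mod_lt _ (by norm_num)
  have ht : y % 64 < 64 := Nat.mod_lt _ (by norm_num)
  unfold pP
  rw [φ, φ, φ, (code_div (xor_lt_64 hs (aS_lt _))).1, (code_div (xor_lt_64 hs (aS_lt _))).2, mul_assoc,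
    ← mul_assoc (P.L _), P.move hx ht, mul_assoc (P.N.θ (aS _ _)), P.L_mul _ _ hx hy, ← mul_assoc,
    P.N.hom _ hs _ (aS_lt _)]

theorem okP_iP {x : ℕ} (hx : okP x = true) : okP (iP x) = true := by
  unfold okP at hx ⊢
  unfold iP
  rw [(code_div (aS_lt _)).1]
  exact (gInv_spec hx).1

theorem φ_inv {x : ℕ} (hx : okP x = true) : (P.φ x)⁻¹ = P.φ (iP x) := by
  have hs : x % 64 < 64 := Nat.mod_lt _ (by norm_num)
  refine inv_eq_of_mul_eq_one_right ?_
  rw [P.φ_mul hx (okP_iP hx)]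
  unfold pP iP
  rw [(code_div (aS_lt _)).1, (code_div (aS_lt _)).2, (gInv_spec hx).2.1,
    (mm_gl hx (gInv_spec hx).1).2 _ hs, (gInv_spec hx).2.1, aS_one hs, Nat.xor_self]
  exact P.φ_one

theorem φ_inj {x y : ℕ} (hx : okP x = true) (hy : okP y = true) (h : P.φ x = P.φ y) : x = y := by
  have e := P.N.mp_unique (x := P.φ x) hx hy (P.φ_mp hx) (by rw [h]; exact P.φ_mp hy)
  have h' : P.N.θ (x % 64) * P.L (x / 64) = P.N.θ (y % 64) * P.L (y / 64) := h
  rw [e, mul_left_inj] at h'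
  have := P.N.th_eq (Nat.mod_lt _ (by norm_num)) (Nat.mod_lt _ (by norm_num)) h'
  omega

theorem φ_comm {x y : ℕ} (hx : okP x = true) (hy : okP y = true) :
    P.φ x * P.φ y = P.φ y * P.φ x ↔ cP x y = true := by
  rw [P.φ_mul hx hy, P.φ_mul hy hx, cP, Nat.beq_eq]
  exact ⟨P.φ_inj (okP_pP hx hy) (okP_pP hy hx), congrArg _⟩

theorem φ_surj {x : S.X} (hx : ∀ a < 64, ∃ b < 64, x * P.N.θ a * x⁻¹ = P.N.θ b) :
    ∃ c, okP c = true ∧ P.φ c = x := by
  obtain ⟨M, hM, a, ha, hax⟩ := P.full x hx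
  refine ⟨64 * M + a, ?_, ?_⟩
  · rw [okP, (code_div ha).1]; exact hM
  · rw [φ, (code_div ha).1, (code_div ha).2, hax]

theorem okP_code {M s : ℕ} (hM : glB M = true) (hs : s < 64) : okP (64 * M + s) = true := by
  rw [okP, (code_div hs).1]; exact hM

theorem Kx_conj_code {c x : ℕ} (hc : okP c = true) (hx : okP x = true) :
    (S.Kx (P.φ (pP (pP c x) (iP c))) ↔ S.Kx (P.φ x)) ∧
      S.qx (P.φ (pP (pP c x) (iP c))) = S.qx (P.φ x) := by
  rw [← P.φ_mul (okP_pP hc hx) (okP_iP hc), ← P.φ_mul hc hx, ← P.φ_inv hc]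
  exact ⟨S.Kx_conj _ _, S.qx_conj _ _⟩

theorem g266 : glB 266 = true := by decide +kernel

/-- Shifting a fixed matrix by a commutator does not change the class. -/
theorem shift {t b : ℕ} (ht : t < 64) (hb : b < 64) :
    (S.Kx (P.φ (64 * 266 + (t ^^^ b ^^^ aS 266 b))) ↔ S.Kx (P.φ (64 * 266 + t))) ∧
      S.qx (P.φ (64 * 266 + (t ^^^ b ^^^ aS 266 b))) = S.qx (P.φ (64 * 266 + t)) := by
  have e : P.φ (64 * 266 + (t ^^^ b ^^^ aS 266 b)) = P.N.θ b * P.φ (64 * 266 + t) * (P.N.θ b)⁻¹ := by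
    rw [P.N.th_inv hb, φ, φ, (code_div ht).1, (code_div ht).2,
      (code_div (xor_lt_64 (xor_lt_64 ht hb) (aS_lt _))).1, (code_div (xor_lt_64 (xor_lt_64 ht hb) (aS_lt _))).2,
      mul_assoc _ _ (P.N.θ b), mul_assoc (P.N.θ t), P.move g266 hb, ← mul_assoc (P.N.θ t),
      P.N.hom t ht _ (aS_lt _), ← mul_assoc, P.N.hom b hb _ (xor_lt_64 ht (aS_lt _))]
    congr 2
    rw [← Nat.xor_assoc, Nat.xor_comm b t]
  rw [e]
  exact ⟨S.Kx_conj _ _, S.qx_conj _ _⟩

theorem cl_eq {t : ℕ} (ht : t < 64) (hfix : aS 266 t = t) :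
    (S.Kx (P.φ (64 * 266 + t)) ↔ S.Kx (P.φ (64 * 266 + cl266 t))) ∧
      S.qx (P.φ (64 * 266 + t)) = S.qx (P.φ (64 * 266 + cl266 t)) := by
  have h := allBelow_spec _ _ chk_cl266.1 t ht
  simp only [hfix, Nat.beq_refl, Bool.not_true, Bool.false_or, Nat.blt_eq] at h
  have h' := allBelow_spec _ _ chk_cl266_class t ht
  rw [show Nat.blt (cl266 t) 64 = true from Nat.blt_eq ▸ h] at h'
  simp only [Bool.not_true, Bool.false_or, List.any_eq_true, List.mem_range, Nat.beq_eq] at h'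
  obtain ⟨b, hb, he⟩ := h'
  nth_rewrite 1 [he]
  nth_rewrite 3 [he]
  exact P.shift h hb

theorem mp_pow_eight {x : S.X} {i : ℕ} (hi : i < 6) (hx : P.N.Mp x (s6.getD i 0))
    (h8 : x * x * (x * x) * (x * x * (x * x)) = 1) : mm (s6.getD i 0) (s6.getD i 0) = 273 := by
  have hg := s6_gl i hi
  have h2 := P.N.mp_mul hg hg hx hx
  have g2 := (mm_gl hg hg).1
  have h4 := P.N.mp_mul g2 g2 h2 h2
  have g4 := (mm_gl g2 g2).1
  have h8' := P.N.mp_mul g4 g4 h4 h4
  rw [h8] at h8'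
  have he := P.N.mp_unique chk_glL.2.2.2.1 (mm_gl g4 g4).1 P.N.mp_one h8'
  have hc := allBelow_spec _ _ chk_s6_mul.2 i hi
  simp only [Bool.or_eq_true, Nat.beq_eq, Bool.not_eq_true'] at hc
  refine hc.resolve_right fun hf => ?_
  rw [Bool.eq_false_iff] at hf
  exact hf (Nat.beq_eq ▸ he.symm)

/-- The isolated classes lie outside the class of the image of `e`. -/
theorem not_Kx_single [Finite G] {s : ℕ} (hs : s = 0 ∨ s = 2) : ¬ S.Kx (P.φ (64 * 266 + s)) := by
  classical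
  intro hK
  obtain ⟨y, hy⟩ := isConj_iff.1 hK
  obtain ⟨c, hc, hcs⟩ : ∃ c ∈ cent128, c.1 = s := by
    have hm : s ∈ cent128.map Prod.fst := by rw [chk_cent128.2]; rcases hs with rfl | rfl <;> simp
    exact List.mem_map.1 hm
  have h := List.all_eq_true.1 chk_cent128.1 c hc
  simp only [Bool.and_eq_true, Nat.beq_eq, List.all_eq_true, List.contains_iff_mem, Bool.not_eq_true'] at h
  obtain ⟨⟨⟨⟨⟨⟨⟨⟨⟨-, hlen⟩, hall⟩, hinc⟩, hcount⟩, hA⟩, hB⟩, hA2⟩, hB2⟩, hAB⟩ := h
  subst hcs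
  set l := c.2.1 with hl
  have hnodup : ∀ i < 128, ∀ j < 128, l.getD i 0 = l.getD j 0 → i = j := by
    have hstep : ∀ i < 127, l.getD i 0 < l.getD (i + 1) 0 := fun i hi => by
      have := allBelow_spec _ _ hinc i hi
      simpa only [Nat.blt_eq] using this
    have hmono : ∀ d i, i + d + 1 < 128 → l.getD i 0 < l.getD (i + d + 1) 0 := by
      intro d
      induction d with
      | zero => exact fun i hi => hstep i (by omega)
      | succ d ih => exact fun i hi => (ih i (by omega)).trans (hstep (i + d + 1) (by omega))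
    intro i hi j hj he
    rcases lt_trichotomy i j with h | h | h
    · have := hmono (j - i - 1) i (by omega)
      rw [show i + (j - i - 1) + 1 = j by omega] at this
      omega
    · exact h
    · have := hmono (i - j - 1) j (by omega)
      rw [show j + (i - j - 1) + 1 = i by omega] at this
      omega
  have hel : ∀ i < 128, l.getD i 0 ∈ l := fun i hi => by
    rw [List.getD_eq_getElem _ _ (by rw [hlen]; exact hi)]
    exact List.getElem_mem _
  let d : ℕ → S.X := fun i => y⁻¹ * P.φ (l.getD i 0) * y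
  have hok266 : okP (64 * 266 + c.1) = true := okP_code g266 (by rcases hs with h | h <;> omega)
  have hdcomm : ∀ i < 128, d i * S.ebar = S.ebar * d i := fun i hi => by
    obtain ⟨⟨hok, hc1⟩, -⟩ := hall _ (hel i hi)
    have h1 := (P.φ_comm hok hok266).2 hc1
    rw [← hy] at h1
    calc d i * S.ebar = y⁻¹ * (P.φ (l.getD i 0) * (y * S.ebar * y⁻¹)) * y := by simp only [d]; group
      _ = y⁻¹ * (y * S.ebar * y⁻¹ * P.φ (l.getD i 0)) * y := by rw [h1]
      _ = S.ebar * d i := by simp only [d]; group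
  have hd8 : ∀ i < 128, d i * d i * (d i * d i) * (d i * d i * (d i * d i)) = 1 := fun i hi => by
    obtain ⟨⟨hok, -⟩, h8⟩ := hall _ (hel i hi)
    have o2 := okP_pP hok hok
    have o4 := okP_pP o2 o2
    have e : P.φ (l.getD i 0) * P.φ (l.getD i 0) * (P.φ (l.getD i 0) * P.φ (l.getD i 0)) *
        (P.φ (l.getD i 0) * P.φ (l.getD i 0) * (P.φ (l.getD i 0) * P.φ (l.getD i 0))) = 1 := by
      rw [P.φ_mul hok hok, P.φ_mul o2 o2, P.φ_mul o4 o4, h8, φ_one]
    calc _ = y⁻¹ * (P.φ (l.getD i 0) * P.φ (l.getD i 0) * (P.φ (l.getD i 0) * P.φ (l.getD i 0)) *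
        (P.φ (l.getD i 0) * P.φ (l.getD i 0) * (P.φ (l.getD i 0) * P.φ (l.getD i 0)))) * y := by
          simp only [d]; group
      _ = 1 := by rw [e]; group
  have hact : ∀ i < 128, ∃ j < 6, P.N.Mp (d i) (s6.getD j 0) ∧ mm (s6.getD j 0) (s6.getD j 0) = 273 :=
    fun i hi => by
      obtain ⟨j, hj, hj'⟩ := P.N.stab (d i) (hdcomm i hi)
      have hm : P.N.Mp (d i) (s6.getD j 0) := fun a ha => by rw [hj' a ha, aS_eq (s6_gl j hj) ha]
      exact ⟨j, hj, hm, P.mp_pow_eight hj hm (hd8 i hi)⟩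
  -- at most one non-trivial action
  have hone : ∀ i < 128, ∀ k < 128, ¬ P.N.Mp (d i) 273 → ¬ P.N.Mp (d k) 273 → ∃ a < 64,
      d i = P.N.θ a * d k := by
    intro i hi k hk hni hnk
    obtain ⟨u, hu, hmu, hu2⟩ := hact i hi
    obtain ⟨v, hv, hmv, hv2⟩ := hact k hk
    have hun : Nat.beq (s6.getD u 0) 273 = false :=
      Bool.eq_false_iff.2 fun h => hni (by rw [← Nat.eq_of_beq_eq_true h]; exact hmu)
    have hvn : Nat.beq (s6.getD v 0) 273 = false :=
      Bool.eq_false_iff.2 fun h => hnk (by rw [← Nat.eq_of_beq_eq_true h]; exact hmv)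
    by_cases he : s6.getD u 0 = s6.getD v 0
    · rw [← he] at hmv
      exact P.N.eq_mul_of_mp (s6_gl u hu) hmu hmv
    · exfalso
      have gp := (mm_gl (s6_gl u hu) (s6_gl v hv)).1
      obtain ⟨w, hw, hmw⟩ : ∃ w < 6, P.N.Mp (d i * d k) (s6.getD w 0) := by
        obtain ⟨w, hw, hw'⟩ := P.N.stab (d i * d k)
          (by rw [mul_assoc, hdcomm k hk, ← mul_assoc, hdcomm i hi, mul_assoc])
        exact ⟨w, hw, fun a ha => by rw [hw' a ha, aS_eq (s6_gl w hw) ha]⟩
      obtain ⟨⟨oki, hci⟩, -⟩ := hall _ (hel i hi)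
      obtain ⟨⟨okk, hck⟩, -⟩ := hall _ (hel k hk)
      have e8 : P.φ (l.getD i 0) * P.φ (l.getD k 0) = P.φ (pP (l.getD i 0) (l.getD k 0)) := P.φ_mul oki okk
      have hcz : cP (pP (l.getD i 0) (l.getD k 0)) (64 * 266 + c.1) = true := by
        rw [← P.φ_comm (okP_pP oki okk) hok266, ← e8, mul_assoc, (P.φ_comm okk hok266).2 hck, ← mul_assoc,
          (P.φ_comm oki hok266).2 hci, mul_assoc]
      have h9 : mm (s6.getD w 0) (s6.getD w 0) = 273 := by
        refine P.mp_pow_eight hw hmw ?_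
        have hz := pow8 hs (okP_pP oki okk) hcz
        simp only [d]
        calc _ = y⁻¹ * (P.φ (l.getD i 0) * P.φ (l.getD k 0) * (P.φ (l.getD i 0) * P.φ (l.getD k 0)) *
            (P.φ (l.getD i 0) * P.φ (l.getD k 0) * (P.φ (l.getD i 0) * P.φ (l.getD k 0))) *
            (P.φ (l.getD i 0) * P.φ (l.getD k 0) * (P.φ (l.getD i 0) * P.φ (l.getD k 0)) *
            (P.φ (l.getD i 0) * P.φ (l.getD k 0) * (P.φ (l.getD i 0) * P.φ (l.getD k 0))))) * y := by group
          _ = 1 := by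
            have oz := okP_pP oki okk
            have o2 := okP_pP oz oz
            have o4 := okP_pP o2 o2
            rw [e8, P.φ_mul oz oz, P.φ_mul o2 o2, P.φ_mul o4 o4, hz, φ_one]
            group
      have hprod := P.N.mp_mul (s6_gl u hu) (s6_gl v hv) hmu hmv
      rw [P.N.mp_unique (s6_gl w hw) gp hmw hprod] at h9
      have hch := allBelow_spec _ _ (allBelow_spec _ _ chk_s6_mul.1 u hu) v hv
      rw [hun, hvn, hu2, hv2, h9, show Nat.beq (s6.getD u 0) (s6.getD v 0) = false from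
        Bool.eq_false_iff.2 fun h => he (Nat.eq_of_beq_eq_true h)] at hch
      simp at hch
  -- so the kernel is everything
  let r0 : ℕ := if h : ∃ k < 128, ¬ P.N.Mp (d k) 273 then h.choose else 0
  have key : ∀ i : Fin 128, ∃ ba : Bool × Fin 64, (ba.1 = true → P.N.θ ba.2 = d i) ∧
      (ba.1 = false → d i = P.N.θ ba.2 * d r0) := by
    intro i
    by_cases h : P.N.Mp (d i) 273
    · obtain ⟨a, ha, hax⟩ := P.N.mem_of_trivial h
      exact ⟨(true, ⟨a, ha⟩), fun _ => hax, fun hf => Bool.noConfusion hf⟩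
    · have hex : ∃ k < 128, ¬ P.N.Mp (d k) 273 := ⟨i, i.2, h⟩
      obtain ⟨hr, hr'⟩ := hex.choose_spec
      obtain ⟨a, ha, hax⟩ := hone i i.2 _ hr h hr'
      exact ⟨(false, ⟨a, ha⟩), fun hf => Bool.noConfusion hf, fun _ => by
        simp only [r0, dif_pos hex]; exact hax⟩
  choose F hF1 hF2 using key
  have hFinj : Function.Injective F := by
    intro i j hij
    have hd : d i = d j := by
      cases hb : (F i).1
      · rw [hF2 i hb, hF2 j (hij ▸ hb), hij]
      · rw [← hF1 i hb, ← hF1 j (hij ▸ hb), hij]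
    simp only [d, mul_left_inj, mul_right_inj] at hd
    exact Fin.ext (hnodup i i.2 j j.2 (P.φ_inj (hall _ (hel i i.2)).1.1 (hall _ (hel j j.2)).1.1 hd))
  have hFs : Function.Surjective F :=
    ((Fintype.bijective_iff_injective_and_card F).2 ⟨hFinj, by simp⟩).2
  -- every element of the radical comes from the list
  have hrad : ∀ a < 64, ∃ i < 128, P.φ (l.getD i 0) = y * P.N.θ a * y⁻¹ := fun a ha => by
    obtain ⟨i, hi⟩ := hFs (true, ⟨a, ha⟩)
    refine ⟨i, i.2, ?_⟩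
    have := hF1 i (by rw [hi])
    rw [hi] at this
    rw [this]
    simp only [d]
    group
  -- the images are exactly the involutions there
  choose g hg hg' using hrad
  let V : Finset ℕ := (Finset.univ : Finset (Fin 64)).image fun a => l.getD (g a.1 a.2) 0
  have hVcard : V.card = 64 := by
    rw [Finset.card_image_of_injective _ ?_, Finset.card_univ, Fintype.card_fin]
    intro a b hab
    have := congrArg P.φ hab
    rw [hg' a.1 a.2, hg' b.1 b.2, mul_left_inj, mul_right_inj] at this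
    exact Fin.ext (P.N.th_eq a.2 b.2 this)
  have hVsub : V ⊆ (l.filter fun x => Nat.beq (pP x x) oneP).toFinset := by
    intro x hx
    simp only [V, Finset.mem_image] at hx
    obtain ⟨a, -, rfl⟩ := hx
    obtain ⟨⟨hok, -⟩, -⟩ := hall _ (hel _ (hg a a.2))
    rw [List.mem_toFinset, List.mem_filter, Nat.beq_eq]
    refine ⟨hel _ (hg a a.2), P.φ_inj (okP_pP hok hok) (by decide +kernel) ?_⟩
    rw [← P.φ_mul hok hok, hg' a a.2, φ_one, show y * P.N.θ a * y⁻¹ * (y * P.N.θ a * y⁻¹) =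
      y * (P.N.θ a * P.N.θ a) * y⁻¹ by group, P.N.th_sq a.2, mul_one, mul_inv_cancel]
  have hVeq := Finset.eq_of_subset_of_card_le hVsub (by
    rw [hVcard]
    exact (List.toFinset_card_le _).trans (by rw [← List.countP_eq_length_filter, hcount]))
  have hmem : ∀ x ∈ l, pP x x = oneP → ∃ a < 64, P.φ x = y * P.N.θ a * y⁻¹ := by
    intro x hx hx2
    have : x ∈ V := by
      rw [hVeq, List.mem_toFinset, List.mem_filter, Nat.beq_eq]; exact ⟨hx, hx2⟩
    simp only [V, Finset.mem_image] at this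
    obtain ⟨a, -, rfl⟩ := this
    exact ⟨a, a.2, hg' a a.2⟩
  obtain ⟨a, ha, hax⟩ := hmem _ hA hA2
  obtain ⟨b, hb, hbx⟩ := hmem _ hB hB2
  refine Bool.eq_false_iff.1 hAB ((P.φ_comm (hall _ hA).1.1 (hall _ hB).1.1).1 ?_)
  rw [hax, hbx, show ∀ p q : S.X, y * p * y⁻¹ * (y * q * y⁻¹) = y * (p * q) * y⁻¹ from fun p q => by group,
    show ∀ p q : S.X, y * p * y⁻¹ * (y * q * y⁻¹) = y * (p * q) * y⁻¹ from fun p q => by group,
    P.N.th_comm ha hb]
where
  pow8 {s : ℕ} (hs : s = 0 ∨ s = 2) {x : ℕ} (hx : okP x = true) (hc : cP x (64 * 266 + s) = true) :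
      pP (pP (pP x x) (pP x x)) (pP (pP x x) (pP x x)) = oneP := by
    have hM : mm (x / 64) 266 = mm 266 (x / 64) := by
      rw [cP, Nat.beq_eq] at hc
      have h := congrArg (· / 64) hc
      simp only [pP] at h
      have hs64 : s < 64 := by rcases hs with rfl | rfl <;> norm_num
      rw [(code_div hs64).1, (code_div hs64).2, (code_div (xor_lt_64 (Nat.mod_lt _ (by norm_num)) (aS_lt _))).1,
        (code_div (xor_lt_64 hs64 (aS_lt _))).1] at h
      exact h
    have hsm : s ∈ [0, 2] := by rcases hs with rfl | rfl <;> simp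
    have h := List.all_eq_true.1 (List.all_eq_true.1 chk_exp s hsm) (x / 64) (mem_glL hx)
    rw [hM, Nat.beq_refl, Bool.not_true, Bool.false_or] at h
    have h' := allBelow_spec _ _ h (x % 64) (Nat.mod_lt _ (by norm_num))
    rw [show 64 * (x / 64) + x % 64 = x by omega, hc, Bool.not_true, Bool.false_or, Nat.beq_eq] at h'
    exact h'

end Spl

namespace Spl

variable {G : Type*} [Group G] {S : Setup G} (P : Spl S)

theorem φ_code {M s : ℕ} (hs : s < 64) : P.φ (64 * M + s) = P.N.θ s * P.L M := by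
  rw [φ, (code_div hs).1, (code_div hs).2]

theorem involution_fix {M s : ℕ} (hM : glB M = true) (hs : s < 64) (h : pP (64 * M + s) (64 * M + s) = oneP) :
    mm M M = 273 ∧ aS M s = s := by
  rw [pP_div hs hs] at h
  have hlt : s ^^^ aS M s < 64 := xor_lt_64 hs (aS_lt _)
  have h1 : mm M M = 273 := by
    have := congrArg (· / 64) h
    simpa [(code_div hlt).1, oneP] using this
  refine ⟨h1, ?_⟩
  have h2 : s ^^^ aS M s = 0 := by
    have := congrArg (· % 64) h
    simpa [(code_div hlt).2, oneP] using this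
  exact (Nat.xor_eq_zero_iff.1 h2).symm

/-- An element of the class with standard action. -/
theorem exists_K266 [Finite G] : ∃ s < 64, aS 266 s = s ∧ S.Kx (P.φ (64 * 266 + s)) := by
  have hsq : S.hb 195 * S.hb 195 = 1 := by
    rw [S.hb_mul, ← S.hb_zero, S.hb_eq_iff (hT_lt _ _) (by norm_num)]; decide +kernel
  have hK : S.Kx (S.hb 195) := by rw [S.Kx_hb]; decide +kernel
  obtain ⟨i, hi, hi'⟩ := P.N.stab (S.hb 195) (Rad.hb_ebar 195)
  have hg := s6_gl i hi
  have hm : P.N.Mp (S.hb 195) (s6.getD i 0) := fun a ha => by rw [hi' a ha, aS_eq hg ha]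
  have hne : s6.getD i 0 ≠ 273 := by
    intro he
    rw [he] at hm
    obtain ⟨a, ha, hax⟩ := P.N.mem_of_trivial hm
    have hn : S.hb 64 * S.hb 195 * (S.hb 64)⁻¹ = S.hb 263 := by
      rw [mul_inv_eq_iff_eq_mul, S.hb_mul, S.hb_mul, S.hb_eq_iff (hT_lt _ _) (hT_lt _ _)]
      decide +kernel
    obtain ⟨j, hj, hj'⟩ := P.N.stab (S.hb 64) (Rad.hb_ebar 64)
    have h2 := hj' a ha
    rw [hax, hn] at h2
    have h3 := P.N.th_comm (actS_lt (s6.getD j 0) (S := a)) ha
    rw [← h2, hax, S.hb_comm_iff] at h3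
    revert h3
    decide +kernel
  have h2 : mm (s6.getD i 0) (s6.getD i 0) = 273 := P.N.mp_unique (mm_gl hg hg).1 chk_glL.2.2.2.1
    (P.N.mp_mul hg hg hm hm) (by rw [hsq]; exact P.N.mp_one)
  have h := allBelow_spec _ _ chk_s6_inv i hi
  simp only [h2, Nat.beq_refl, Bool.not_true, Bool.false_or, Bool.or_eq_true, Nat.beq_eq, List.any_eq_true,
    List.mem_range, hne, false_or] at h
  obtain ⟨c, hc, hce⟩ := h
  have gc := s6_gl c hc
  have hm' := P.N.mp_conj gc hg (P.L_maps _ gc) hm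
  rw [hce] at hm'
  obtain ⟨a, ha, hax⟩ := P.N.eq_mul_of_mp g266 hm' (P.L_maps _ g266)
  rw [← P.φ_code ha] at hax
  have hK' : S.Kx (P.φ (64 * 266 + a)) := by rw [← hax, S.Kx_conj]; exact hK
  have hok := okP_code g266 ha
  refine ⟨a, ha, (involution_fix g266 ha (P.φ_inj (okP_pP hok hok) (by decide +kernel) ?_)).2, hK'⟩
  rw [← P.φ_mul hok hok, φ_one, (S.Kx_sq hK').1]

theorem Kx_pair [Finite G] : S.Kx (P.φ (64 * 266 + 32)) ∧ S.Kx (P.φ (64 * 266 + 34)) := by
  obtain ⟨a, ha, hfix, hK⟩ := P.exists_K266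
  have h := (P.cl_eq ha hfix).1.1 hK
  have hsw : S.Kx (P.φ (64 * 266 + 32)) ↔ S.Kx (P.φ (64 * 266 + 34)) := by
    have hok := okP_code g266 (show 32 < 64 by norm_num)
    rw [← (P.Kx_conj_code chk_swapC.1 hok).1]
    set x := pP (pP swapC (64 * 266 + 32)) (iP swapC) with hx
    have hokx : okP x = true := okP_pP (okP_pP chk_swapC.1 hok) (okP_iP chk_swapC.1)
    obtain ⟨h1, h2⟩ : x / 64 = 266 ∧ cl266 (x % 64) = 34 := by
      have h1 := chk_swapC.2.1; have h2 := chk_swapC.2.2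
      rw [← hx, Nat.beq_eq] at h1 h2
      exact ⟨h1, h2⟩
    have hxe : x = 64 * 266 + x % 64 := by omega
    have hsq : pP x x = oneP := by rw [hx]; decide +kernel
    have hf := (involution_fix g266 (Nat.mod_lt x (by norm_num)) (by rw [← hxe]; exact hsq)).2
    rw [hxe, (P.cl_eq (Nat.mod_lt x (by norm_num)) hf).1, h2]
  have hcl : cl266 a = 0 ∨ cl266 a = 2 ∨ cl266 a = 32 ∨ cl266 a = 34 := by
    have hr : ∀ t : Fin 64, aS 266 t = t → cl266 t = 0 ∨ cl266 t = 2 ∨ cl266 t = 32 ∨ cl266 t = 34 := by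
      decide +kernel
    exact hr ⟨a, ha⟩ hfix
  rcases hcl with e | e | e | e <;> rw [e] at h
  · exact absurd h (P.not_Kx_single (Or.inl rfl))
  · exact absurd h (P.not_Kx_single (Or.inr rfl))
  · exact ⟨h, hsw.1 h⟩
  · exact ⟨hsw.2 h, h⟩

/-- Exactly one of the isolated classes has lifts of order four. -/
theorem qx_single [Finite G] : S.qx (P.φ (64 * 266 + 2)) = !S.qx (P.φ (64 * 266 + 0)) := by
  obtain ⟨h32, h34⟩ := P.Kx_pair
  set x := P.L 266
  have hcomm : ∀ t < 64, aS 266 t = t → x * P.N.θ t = P.N.θ t * x := fun t ht hf => by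
    rw [P.move g266 ht, hf]
  have hx2 : x * x = 1 := by rw [P.L_mul _ _ g266 g266, chk_d8.2.1, P.L_one]
  have hq : ∀ t < 64, aS 266 t = t → S.qx (P.φ (64 * 266 + t)) = (qS t ^^ S.qx x ^^ S.bx x (P.N.θ t)) :=
    fun t ht hf => by
      rw [P.φ_code ht, S.qx_mul (P.N.th_sq ht) hx2 (hcomm t ht hf).symm, P.N.q_eq t ht, S.bx_symm]
  have hb : S.bx x (P.N.θ 2) = (S.bx x (P.N.θ 32) ^^ S.bx x (P.N.θ 34)) := by
    rw [← chk_cl266.2.2.2.2.2.2.2, ← P.N.hom 32 (by norm_num) 34 (by norm_num),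
      S.bx_mul (hcomm 32 (by norm_num) chk_cl266.2.2.2.1) (hcomm 34 (by norm_num) chk_cl266.2.2.2.2.1)]
  have e32 := (S.Kx_sq h32).2
  have e34 := (S.Kx_sq h34).2
  rw [hq 32 (by norm_num) chk_cl266.2.2.2.1] at e32
  rw [hq 34 (by norm_num) chk_cl266.2.2.2.2.1] at e34
  have e0 : S.qx (P.φ (64 * 266 + 0)) = S.qx x := by
    rw [P.φ_code (by norm_num), theta_zero, one_mul]
  rw [hq 2 (by norm_num) chk_cl266.2.2.2.2.2.1, e0, hb, chk_cl266.2.2.1]
  have q32 : qS 32 = true := by decide +kernel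
  have q34 : qS 34 = false := by decide +kernel
  rw [q32] at e32
  rw [q34] at e34
  revert e32 e34
  cases S.qx x <;> cases S.bx x (P.N.θ 32) <;> cases S.bx x (P.N.θ 34) <;> simp

end Spl

/-- The normalizer of the radical in coordinates. -/
structure Crd {G : Type*} [Group G] (S : Setup G) where
  P : Spl S
  q266 : S.qx (P.L 266) = false

theorem Spl.exists_crd {G : Type*} [Group G] [Finite G] {S : Setup G} (P : Spl S) : Nonempty (Crd S) := by
  cases h : S.qx (P.L 266)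
  · exact ⟨⟨P, h⟩⟩
  · have gt : ∀ M, gam M < 64 := fun M => get_lt 6 gamTab M
    let L' : ℕ → S.X := fun M => P.N.θ (gam M) * P.L M
    have hmaps : ∀ M, glB M = true → Maps P.N.θ (L' M) (aS M) := fun M hM a ha => by
      rw [Maps.mul (P.N.mp_th (gt M)) (P.L_maps M hM) (fun c _ => aS_lt _) a ha]
      dsimp only
      rw [aS_one (aS_lt _)]
    refine ⟨⟨⟨P.N, L', hmaps, fun M K hM hK => ?_, ?_, fun x hx => ?_⟩, ?_⟩⟩
    · show P.N.θ (gam M) * P.L M * (P.N.θ (gam K) * P.L K) = P.N.θ (gam (mm M K)) * P.L (mm M K)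
      have hg := List.all_eq_true.1 (List.all_eq_true.1 chk_gam.1 M (mem_glL hM)) K (mem_glL hK)
      rw [Nat.beq_eq] at hg
      rw [hg, ← P.N.hom _ (gt M) _ (aS_lt _), ← P.L_mul M K hM hK, mul_assoc, ← mul_assoc (P.L M),
        P.move hM (gt K)]
      simp only [mul_assoc]
    · show P.N.θ (gam 273) * P.L 273 = 1
      rw [chk_gam.2.2, theta_zero, P.L_one, mul_one]
    · obtain ⟨M, hM, a, ha, rfl⟩ := P.full x hx
      refine ⟨M, hM, a ^^^ gam M, xor_lt_64 ha (gt M), ?_⟩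
      show _ = P.N.θ (a ^^^ gam M) * (P.N.θ (gam M) * P.L M)
      rw [← mul_assoc, P.N.hom _ (xor_lt_64 ha (gt M)) _ (gt M), Nat.xor_assoc, Nat.xor_self, Nat.xor_zero]
    · show S.qx (P.N.θ (gam 266) * P.L 266) = false
      rw [chk_gam.2.1, ← P.φ_code (by norm_num), P.qx_single, P.φ_code (by norm_num), theta_zero, one_mul, h]
      rfl

namespace Crd

variable {G : Type*} [Group G] {S : Setup G} (D : Crd S)

/-- The element of a code. -/
def φ (x : ℕ) : S.X := D.P.φ x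

theorem q266_all [Finite G] {t : ℕ} (ht : t < 64) (hf : aS 266 t = t) :
    S.qx (D.φ (64 * 266 + t)) = Nat.beq (cl266 t) 2 ∧
      (S.Kx (D.φ (64 * 266 + t)) ↔ (Nat.beq (cl266 t) 32 || Nat.beq (cl266 t) 34) = true) := by
  obtain ⟨h32, h34⟩ := D.P.Kx_pair
  have h0 : S.qx (D.P.φ (64 * 266 + 0)) = false := by
    rw [D.P.φ_code (by norm_num), theta_zero, one_mul, D.q266]
  have h2 := D.P.qx_single
  rw [h0] at h2
  unfold φ
  rw [(D.P.cl_eq ht hf).2, (D.P.cl_eq ht hf).1]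
  have hr : ∀ t : Fin 64, aS 266 t = t → cl266 t = 0 ∨ cl266 t = 2 ∨ cl266 t = 32 ∨ cl266 t = 34 := by
    decide +kernel
  rcases hr ⟨t, ht⟩ hf with e | e | e | e <;> dsimp only at e <;> rw [e]
  · exact ⟨h0, iff_of_false (D.P.not_Kx_single (Or.inl rfl)) (by decide)⟩
  · exact ⟨h2, iff_of_false (D.P.not_Kx_single (Or.inr rfl)) (by decide)⟩
  · exact ⟨(S.Kx_sq h32).2, iff_of_true h32 (by decide)⟩
  · exact ⟨(S.Kx_sq h34).2, iff_of_true h34 (by decide)⟩

/-- The class and the squares on all involutions. -/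
theorem invol_spec [Finite G] {x : ℕ} (hx : okP x = true) (h2 : pP x x = oneP) :
    S.qx (D.φ x) = qP x ∧ (S.Kx (D.φ x) ↔ kP x = true) := by
  have hs : x % 64 < 64 := Nat.mod_lt _ (by norm_num)
  have hxe : x = 64 * (x / 64) + x % 64 := by omega
  obtain ⟨hmm, hfix⟩ := Spl.involution_fix hx hs (by rw [← hxe]; exact h2)
  by_cases h1 : x / 64 = 273
  · have e : D.φ x = D.P.N.θ (x % 64) := by
      unfold φ
      rw [hxe, h1, D.P.φ_th hs, ← h1, ← hxe]
    rw [e, D.P.N.q_eq _ hs, D.P.N.K_eq _ hs, qP, kP, h1]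
    exact ⟨rfl, Iff.rfl⟩
  · have hm := mem_glL (show glB (x / 64) = true from hx)
    have hr := List.all_eq_true.1 chk_invRows.2.1 _ hm
    simp only [hmm, Nat.beq_refl, Bool.not_true, Bool.false_or, Bool.or_eq_true, Nat.beq_eq, h1, false_or,
      List.any_eq_true] at hr
    obtain ⟨r, hr, hrM⟩ := hr
    have hc := List.all_eq_true.1 chk_invRows.1 r hr
    simp only [Bool.and_eq_true, Nat.beq_eq] at hc
    obtain ⟨⟨⟨⟨-, hgc⟩, -⟩, hconj⟩, hrow⟩ := hc
    have hrow' := allBelow_spec _ _ hrow (x % 64) hs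
    rw [hrM] at hrow' hconj
    simp only [hfix, Nat.beq_refl, Bool.not_true, Bool.false_or, Bool.and_eq_true, beq_iff_eq, Nat.beq_eq]
      at hrow'
    obtain ⟨⟨hk, hq⟩, hfix'⟩ := hrow'
    have hcode : pP (pP (64 * r.2.1 + 0) x) (iP (64 * r.2.1 + 0)) = 64 * 266 + aS r.2.1 (x % 64) := by
      unfold iP
      rw [hxe, pP_div (by norm_num) hs, (code_div (show 0 < 64 by norm_num)).1,
        (code_div (show 0 < 64 by norm_num)).2, aS_zero, Nat.zero_xor, pP_div (aS_lt _) (by norm_num), hconj,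
        aS_zero, Nat.xor_zero, ← hxe]
    have hcj := D.P.Kx_conj_code (Spl.okP_code hgc (by norm_num)) hx (c := 64 * r.2.1 + 0)
    rw [hcode] at hcj
    obtain ⟨hq', hk'⟩ := D.q266_all (aS_lt r.2.1 (S := x % 64)) hfix'
    unfold φ at hq' hk' ⊢
    rw [← hcj.1, ← hcj.2, hq', hk', ← hq, ← hk]
    have hbeq : Nat.beq (x / 64) 273 = false := Bool.eq_false_iff.2 fun h => h1 (Nat.eq_of_beq_eq_true h)
    have huniq : ∀ (f : ℕ × ℕ × ℕ × ℕ → Bool), (∀ r' ∈ invRows, r'.1 = r.1 → f r' = f r) →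
        (invRows.any fun r' => Nat.beq r'.1 (x / 64) && f r') = f r := by
      intro f hf
      cases hfr : f r
      · rw [List.any_eq_false]
        intro r' hr' h'
        simp only [Bool.and_eq_true, Nat.beq_eq] at h'
        rw [hf r' hr' (h'.1.trans hrM.symm), hfr] at h'
        exact Bool.noConfusion h'.2
      · exact List.any_eq_true.2 ⟨r, hr, by simp [hrM, hfr]⟩
    have hu := fun r' (hr' : r' ∈ invRows) (he : r'.1 = r.1) => by
      have := List.all_eq_true.1 (List.all_eq_true.1 chk_invRows.2.2 r' hr') r hr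
      simpa [he, Bool.and_eq_true, Nat.beq_eq] using this
    constructor
    · rw [qP, hbeq, cond_false, huniq _ fun r' h h' => by rw [(hu r' h h').2]]
    · rw [kP, hbeq, cond_false, huniq _ fun r' h h' => by rw [(hu r' h h').1.2]]

end Crd

theorem Setup.exists_crd {G : Type*} [Group G] [Finite G] (S : Setup G) : Nonempty (Crd S) := by
  obtain ⟨N⟩ := S.exists_nrm
  obtain ⟨P⟩ := N.exists_spl
  exact P.exists_crd

end Cfsg.Agent.Co3Inv
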