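import Cfsg.Agent.Lib.Co3Inv.Model

/-!
Recognition of the third Conway group: data on the involutions outside the radical in its normalizer; an
element is coded as `64 M + S`. Generated by `tools/co3from2m12/close11`.
-/

set_option autoImplicit false

namespace Cfsg.Agent.Co3Inv

/-- Involutive matrices, a conjugator to the standard one, the class and the squares on the fixed matrices. -/
def invRows : List (ℕ × ℕ × ℕ × ℕ) := [(84, 140, 9799870173694398720, 36028934462111760), (124, 204, 36591919106638080, 9223407221227913280), (161, 84, 9367630161450762370, 4683743612469575680), (167, 207, 4683765602700492930, 9367487224931942400), (214, 142, 1225053866005923840, 2251937252900880), (233, 85, 11259171538216960, 72127962782171200), (266, 266, 11551744060796436480, 2151680004), (275, 267, 1095216660480, 102), (277, 141, 65280, 90), (279, 143, 18374686479671623680, 150), (281, 275, 361700864106168320, 17039620), (302, 206, 363191368081735680, 537921540), (305, 86, 168430090, 328960), (309, 205, 1352664330, 5245440), (313, 87, 11574427651397386240, 67174660), (337, 165, 1224997790627664128, 281479272726544), (345, 403, 18296153749602560,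 72058693553750080), (401, 102, 9570295239278626, 73015558144), (403, 331, 19140371439681570, 146033344512), (458, 330, 5629780888135680, 9223380832948060224), (465, 103, 9799982325021313024, 4503603922403344)]

/-- An element exchanging two of the classes. -/
def swapC : ℕ := 19328

/-- Centralizers of the isolated classes and two non-commuting involutions there. -/
def cent128 : List (ℕ × List ℕ × ℕ × ℕ) := [(0, [17024, 17026, 17033, 17035, 17044, 17046, 17053, 17055, 17056, 17058, 17065, 17067, 17076, 17078, 17085, 17087, 17472, 17474, 17481, 17483, 17492, 17494, 17501, 17503, 17504, 17506, 17513, 17515, 17524, 17526, 17533, 17535, 19328, 19330, 19337, 19339, 19348, 19350, 19357, 19359, 19360, 19362, 19369, 19371, 19380, 19382, 19389, 19391, 19776, 19778, 19785, 19787, 19796, 19798, 19805, 19807, 19808, 19810, 19817, 19819, 19828, 19830, 19837, 19839, 29312, 29314, 29321, 29323, 29332, 29334, 29341, 29343, 29344, 29346, 29353, 29355, 29364, 29366, 29373, 29375, 29760, 29762, 29769, 29771, 29780, 29782, 29789, 29791, 29792, 29794, 29801, 29803, 29812, 29814, 29821, 29823, 31616, 31618, 31625, 31627, 31636, 31638, 31645, 31647, 31648,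 31650, 31657, 31659, 31668, 31670, 31677, 31679, 32064, 32066, 32073, 32075, 32084, 32086, 32093, 32095, 32096, 32098, 32105, 32107, 32116, 32118, 32125, 32127], 17026, 29312), (2, [17024, 17026, 17033, 17035, 17044, 17046, 17053, 17055, 17056, 17058, 17065, 17067, 17076, 17078, 17085, 17087, 17472, 17474, 17481, 17483, 17492, 17494, 17501, 17503, 17504, 17506, 17513, 17515, 17524, 17526, 17533, 17535, 19328, 19330, 19337, 19339, 19348, 19350, 19357, 19359, 19360, 19362, 19369, 19371, 19380, 19382, 19389, 19391, 19776, 19778, 19785, 19787, 19796, 19798, 19805, 19807, 19808, 19810, 19817, 19819, 19828, 19830, 19837, 19839, 29316, 29318, 29325, 29327, 29328, 29330, 29337, 29339, 29348, 29350, 29357, 29359, 29360, 29362, 29369, 29371, 29764, 29766, 29773, 29775, 29776, 29778, 29785, 29787, 29796, 29798, 29805, 29807, 29808, 29810, 29817, 29819, 31620, 31622, 31629, 31631, 31632, 31634, 31641, 31643, 31652, 31654, 31661, 31663, 31664, 31666, 31673, 31675, 32068, 32070, 32077, 32079, 32080, 32082, 32089, 32091, 32100, 32102, 32109, 32111, 32112, 32114, 32121, 32123], 17024, 29318)]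

end Cfsg.Agent.Co3Inv
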