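import Cfsg.Agent.Lib.Co3Inv.Setup
import Cfsg.Agent.Lib.S3298Sp.Pres
import Cfsg.Agent.Lib.S3298Sp.Model

/-!
Recognition of the third Conway group: the stabilizer of the totally isotropic subspace of the codes below
eight in `Sp₆(2)`, four of its elements and the products of its transvections.
-/

set_option autoImplicit false
set_option maxRecDepth 100000
set_option synthInstance.maxSize 10000

namespace Cfsg.Agent.Co3Inv

open Cfsg.Agent.S3342Id (sv bc tg vc tv_act)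
open Cfsg.Agent.S3298Sp (T)
open Matrix

theorem act_mul' (A B : Sp62) (x : Fin 3 ⊕ Fin 3 → ZMod 2) :
    (A * B).1 *ᵥ x = A.1 *ᵥ (B.1 *ᵥ x) := by
  rw [Submonoid.coe_mul, Matrix.mulVec_mulVec]

theorem sv_inj8 : ∀ a b : Fin 8, sv a = sv b → a = b := by decide +kernel

/-- The stabilizer of the subspace of the codes below eight. -/
def Par : Subgroup Sp62 where
  carrier := {g | ∀ a : Fin 8, ∃ b : Fin 8, g.1 *ᵥ sv a = sv b}
  one_mem' := fun a => ⟨a, by rw [OneMemClass.coe_one, Matrix.one_mulVec]⟩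
  mul_mem' := fun {g h} hg hh a => by
    obtain ⟨b, hb⟩ := hh a
    obtain ⟨c, hc⟩ := hg b
    exact ⟨c, by rw [act_mul', hb, hc]⟩
  inv_mem' := fun {g} hg a => by
    choose f hf using hg
    have hinj : Function.Injective f := fun x y hxy => by
      refine sv_inj8 x y ?_
      have h : (g⁻¹).1 *ᵥ (g.1 *ᵥ sv x) = (g⁻¹).1 *ᵥ (g.1 *ᵥ sv y) := by rw [hf x, hf y, hxy]
      rwa [← act_mul', ← act_mul', inv_mul_cancel, OneMemClass.coe_one, Matrix.one_mulVec,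
        Matrix.one_mulVec] at h
    obtain ⟨b, hb⟩ := (Finite.injective_iff_surjective.1 hinj) a
    refine ⟨b, ?_⟩
    rw [← hb, ← hf b, ← act_mul', inv_mul_cancel, OneMemClass.coe_one, Matrix.one_mulVec]

theorem mem_Par {g : Sp62} : g ∈ Par ↔ ∀ a : Fin 8, ∃ b : Fin 8, g.1 *ᵥ sv a = sv b := Iff.rfl

theorem low_fixed : ∀ a b : Fin 8, bc a b = false := by decide +kernel

theorem T_low (a : Fin 8) (b : Fin 8) : (T a).1 *ᵥ sv b = sv b := by
  rw [S3298Sp.T_act (by omega) (by omega), low_fixed b a]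
  rfl

/-- The transvection of a code below eight. -/
def tp (a : ℕ) : Par := ⟨T (a % 8), fun b => ⟨b, T_low ⟨a % 8, Nat.mod_lt _ (by norm_num)⟩ b⟩⟩

theorem tp_val {a : ℕ} (h : a < 8) : ((tp a : Par) : Sp62) = T a := by
  show T (a % 8) = T a
  rw [Nat.mod_eq_of_lt h]

theorem tp_comm (a b : ℕ) : Commute (tp a) (tp b) := by
  have ha : a % 8 < 8 := Nat.mod_lt _ (by norm_num)
  have hb : b % 8 < 8 := Nat.mod_lt _ (by norm_num)
  refine Subtype.ext ?_
  show T (a % 8) * T (b % 8) = T (b % 8) * T (a % 8)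
  rcases eq_or_ne (a % 8) 0 with h | h
  · rw [h, S3298Sp.T_zero, one_mul, mul_one]
  rcases eq_or_ne (b % 8) 0 with h' | h'
  · rw [h', S3298Sp.T_zero, one_mul, mul_one]
  exact (S3298Sp.low_comm ha hb h h').eq

theorem tp_sq (a : ℕ) : tp a * tp a = 1 := Subtype.ext (S3298Sp.T_sq _)

theorem tp_inv (a : ℕ) : (tp a)⁻¹ = tp a := inv_eq_of_mul_eq_one_right (tp_sq a)

theorem tp_zero : tp 0 = 1 := Subtype.ext S3298Sp.T_zero

theorem tp_inj {a b : ℕ} (ha : a < 8) (hb : b < 8) (h : tp a = tp b) : a = b :=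
  S3298Sp.T_inj (by omega) (by omega) (by rw [← tp_val ha, ← tp_val hb, h])

theorem tp_conj (g : Par) {a b : ℕ} (ha : a < 8) (hb : b < 8) (h : (g : Sp62).1 *ᵥ sv a = sv b) :
    g * tp a * g⁻¹ = tp b := by
  refine Subtype.ext ?_
  show (g : Sp62) * tp a * (g : Sp62)⁻¹ = tp b
  rw [tp_val ha, tp_val hb]
  exact S3298Sp.conj_T _ h

/-! ### Four elements -/

/-- The exchange of the first two coordinates. -/
def sE : Par := ⟨⟨fromBlocks !![0, 1, 0; 1, 0, 0; 0, 0, 1] 0 0 !![0, 1, 0; 1, 0, 0; 0, 0, 1], by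
  rw [SymplecticGroup.mem_iff]; decide +kernel⟩, by rw [mem_Par]; decide +kernel⟩

/-- The exchange of the last two coordinates. -/
def uE : Par := ⟨⟨fromBlocks !![1, 0, 0; 0, 0, 1; 0, 1, 0] 0 0 !![1, 0, 0; 0, 0, 1; 0, 1, 0], by
  rw [SymplecticGroup.mem_iff]; decide +kernel⟩, by rw [mem_Par]; decide +kernel⟩

/-- The exchange of the first and the last coordinate. -/
def wE : Par := ⟨⟨fromBlocks !![0, 0, 1; 0, 1, 0; 1, 0, 0] 0 0 !![0, 0, 1; 0, 1, 0; 1, 0, 0], by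
  rw [SymplecticGroup.mem_iff]; decide +kernel⟩, by rw [mem_Par]; decide +kernel⟩

/-- The addition of the first coordinate vector to the third. -/
def hE' : Par := ⟨⟨fromBlocks !![1, 0, 1; 0, 1, 0; 0, 0, 1] 0 0 !![1, 0, 0; 0, 1, 0; 1, 0, 1], by
  rw [SymplecticGroup.mem_iff]; decide +kernel⟩, by rw [mem_Par]; decide +kernel⟩

/-- The element `e₀`. -/
def ep : Par := ⟨e₀, by rw [mem_Par]; decide +kernel⟩

theorem perm_eqs : sE * sE = 1 ∧ uE * uE = 1 ∧ wE * wE = 1 ∧ sE * uE * sE = wE ∧ uE * wE = sE * uE := by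
  decide +kernel

theorem sE_act : (sE : Sp62).1 *ᵥ sv 5 = sv 6 ∧ (sE : Sp62).1 *ᵥ sv 32 = sv 32 := by decide +kernel

theorem uE_act : ((uE : Sp62).1 *ᵥ sv 1 = sv 1 ∧ (uE : Sp62).1 *ᵥ sv 2 = sv 4 ∧
    (uE : Sp62).1 *ᵥ sv 3 = sv 5) ∧ ((uE : Sp62).1 *ᵥ sv 4 = sv 2 ∧ (uE : Sp62).1 *ᵥ sv 5 = sv 3 ∧
    (uE : Sp62).1 *ᵥ sv 6 = sv 6) ∧ ((uE : Sp62).1 *ᵥ sv 7 = sv 7 ∧ (uE : Sp62).1 *ᵥ sv 32 = sv 16) := by
  decide +kernel

theorem wE_act : ((wE : Sp62).1 *ᵥ sv 1 = sv 4 ∧ (wE : Sp62).1 *ᵥ sv 2 = sv 2 ∧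
    (wE : Sp62).1 *ᵥ sv 3 = sv 6) ∧ ((wE : Sp62).1 *ᵥ sv 4 = sv 1 ∧ (wE : Sp62).1 *ᵥ sv 5 = sv 5 ∧
    (wE : Sp62).1 *ᵥ sv 6 = sv 3) ∧ ((wE : Sp62).1 *ᵥ sv 7 = sv 7 ∧ (wE : Sp62).1 *ᵥ sv 32 = sv 8) := by
  decide +kernel

theorem hE'_act : (hE' : Sp62).1 *ᵥ sv 4 = sv 5 ∧ (hE' : Sp62).1 *ᵥ sv 32 = sv 32 := by decide +kernel

/-! ### Products of the transvections -/

/-- A product of transvections. -/
def tl (l : List ℕ) : Par := (l.map tp).prod

/-- The action of a product of transvections on codes. -/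
def fa (l : List ℕ) (x : ℕ) : ℕ :=
  l.foldr (fun a y => bif bc y (a % 8) then y ^^^ (a % 8) else y) x

theorem tl_act : ∀ (l : List ℕ) {x : ℕ}, x < 64 → fa l x < 64 ∧
    ((tl l : Par) : Sp62).1 *ᵥ sv x = sv (fa l x)
  | [], x, hx => ⟨hx, by
      show ((1 : Sp62)).1 *ᵥ sv x = sv x
      rw [OneMemClass.coe_one, Matrix.one_mulVec]⟩
  | a :: l, x, hx => by
    obtain ⟨h1, h2⟩ := tl_act l hx
    have ha : a % 8 < 64 := by omega
    constructor
    · show (bif bc (fa l x) (a % 8) then fa l x ^^^ (a % 8) else fa l x) < 64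
      cases bc (fa l x) (a % 8)
      · exact h1
      · exact Nat.xor_lt_two_pow (n := 6) h1 ha
    · rw [tl, List.map_cons, List.prod_cons]
      show (T (a % 8) * ((tl l : Par) : Sp62)).1 *ᵥ sv x = _
      rw [act_mul', h2, S3298Sp.T_act ha h1]
      show _ = sv (bif bc (fa l x) (a % 8) then fa l x ^^^ (a % 8) else fa l x)
      cases bc (fa l x) (a % 8) <;> rfl

theorem tl_ext {l m : List ℕ} (h : ∀ k < 6, fa l (2 ^ k) = fa m (2 ^ k)) : tl l = tl m := by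
  refine Subtype.ext (Subtype.ext (Matrix.ext_of_mulVec_single fun j => ?_))
  have hk : S3342Id.spBit j < 6 := by rcases j with j | j <;> simp only [S3342Id.spBit] <;> omega
  have hx : 2 ^ S3342Id.spBit j < 64 := lt_of_lt_of_le (Nat.pow_lt_pow_right (by norm_num) hk) (le_refl _)
  rw [← S3342Id.sv_single j, (tl_act l hx).2, (tl_act m hx).2, h _ hk]

theorem quad_eq : tl [7, 5, 6, 4] = tl [1, 2, 3] ∧ tl [6, 4, 5, 7] = tl [1, 2, 3] ∧
    tl [4, 5, 6, 7] = tl [1, 2, 3] :=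
  ⟨tl_ext (by decide +kernel), tl_ext (by decide +kernel), tl_ext (by decide +kernel)⟩

theorem triple_eq : tl [4, 5, 6] = tl [7, 1, 2, 3] := tl_ext (by decide +kernel)

theorem ep_eq : ep = tl [1, 2, 4] := by decide +kernel

/-- The bits of a code of a product. -/
def bl (n : ℕ) : List ℕ :=
  (bif n.testBit 0 then [1] else []) ++ (bif n.testBit 1 then [2] else []) ++
    (bif n.testBit 2 then [3] else []) ++ ((bif n.testBit 3 then [4] else []) ++
    (bif n.testBit 4 then [5] else []) ++ (bif n.testBit 5 then [6] else []))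

/-- The code of a transvection. -/
def tb (a : ℕ) : ℕ := [0, 1, 2, 4, 8, 16, 32, 63].getD a 0

theorem bl_mul : ∀ a < 8, ∀ n < 64, ∀ k < 6, fa (a :: bl n) (2 ^ k) = fa (bl (tb a ^^^ n)) (2 ^ k) := by
  decide +kernel

theorem tb_lt : ∀ a < 8, tb a < 64 := by decide +kernel

/-- The subgroup generated by the transvections of the codes below eight. -/
def RadP : Subgroup Par := Subgroup.closure {x | ∃ a < 8, x = tp a}

theorem tp_mem_RadP {a : ℕ} (h : a < 8) : tp a ∈ RadP := Subgroup.subset_closure ⟨a, h, rfl⟩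

theorem tl_mem_RadP : ∀ {l : List ℕ}, (∀ a ∈ l, a < 8) → tl l ∈ RadP := fun {l} h => by
  refine list_prod_mem fun x hx => ?_
  obtain ⟨a, ha, rfl⟩ := List.mem_map.1 hx
  exact tp_mem_RadP (h a ha)

theorem exists_bl {r : Par} (hr : r ∈ RadP) : ∃ n < 64, r = tl (bl n) := by
  induction hr using Subgroup.closure_induction_left with
  | one => exact ⟨0, by norm_num, rfl⟩
  | mul_left x hx y _ ih =>
    obtain ⟨a, ha, rfl⟩ := hx
    obtain ⟨n, hn, rfl⟩ := ih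
    exact ⟨_, Nat.xor_lt_two_pow (n := 6) (tb_lt a ha) hn, tl_ext (bl_mul a ha n hn)⟩
  | inv_mul_cancel x hx y _ ih =>
    obtain ⟨a, ha, rfl⟩ := hx
    obtain ⟨n, hn, rfl⟩ := ih
    rw [tp_inv]
    exact ⟨_, Nat.xor_lt_two_pow (n := 6) (tb_lt a ha) hn, tl_ext (bl_mul a ha n hn)⟩

theorem tl_append (l m : List ℕ) : tl (l ++ m) = tl l * tl m := by
  rw [tl, tl, tl, List.map_append, List.prod_append]

theorem conj_mem_RadP (g : Par) {r : Par} (hr : r ∈ RadP) : g * r * g⁻¹ ∈ RadP := by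
  suffices h : RadP ≤ RadP.comap (MulAut.conj g).toMonoidHom from h hr
  refine (Subgroup.closure_le _).2 ?_
  rintro _ ⟨a, ha, rfl⟩
  obtain ⟨b, hb⟩ := g.2 ⟨a, ha⟩
  show g * tp a * g⁻¹ ∈ RadP
  rw [tp_conj g ha b.2 hb]
  exact tp_mem_RadP b.2

end Cfsg.Agent.Co3Inv
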