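import Cfsg.Agent.Lib.Co3Inv.GL
import Cfsg.Agent.Lib.Co3Inv.Sp62Par

/-!
Recognition of the third Conway group: the codes of the elements of the stabilizer of a totally isotropic
subspace of dimension three, a symmetric and an invertible matrix.
-/

set_option autoImplicit false
set_option maxRecDepth 100000
set_option synthInstance.maxSize 10000

namespace Cfsg.Agent.Co3Inv

open Cfsg.Agent.PermCert
open Matrix

/-- The number with given bits. -/
def code (n : ℕ) (b : ℕ → Bool) : ℕ :=
  (List.range n).foldl (fun acc p => bif b p then acc + 2 ^ p else acc) 0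

theorem code_succ (n : ℕ) (b : ℕ → Bool) :
    code (n + 1) b = bif b n then code n b + 2 ^ n else code n b := by
  rw [code, List.range_succ, List.foldl_append, List.foldl_cons, List.foldl_nil, ← code]

theorem code_spec (b : ℕ → Bool) : ∀ n, code n b < 2 ^ n ∧
    ∀ p, (code n b).testBit p = (decide (p < n) && b p)
  | 0 => ⟨by simp [code], fun p => by simp [code]⟩
  | n + 1 => by
    obtain ⟨hlt, hb⟩ := code_spec b n
    rw [code_succ]
    have hpow : 2 ^ (n + 1) = 2 ^ n + 2 ^ n := by rw [pow_succ]; omega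
    cases hn : b n
    · refine ⟨by rw [cond_false]; omega, fun p => ?_⟩
      rw [cond_false, hb]
      rcases lt_trichotomy p n with h | rfl | h
      · simp [h, Nat.lt_succ_of_lt h]
      · simp [hn]
      · simp [show ¬p < n by omega, show ¬p < n + 1 by omega]
    · refine ⟨by rw [cond_true]; omega, fun p => ?_⟩
      rw [cond_true]
      rcases lt_trichotomy p n with h | rfl | h
      · rw [Nat.add_comm, Nat.testBit_two_pow_add_gt h, hb]
        simp [h, Nat.lt_succ_of_lt h]
      · rw [Nat.add_comm, Nat.testBit_two_pow_add_eq, hb]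
        simp [hn]
      · rw [Nat.testBit_lt_two_pow (lt_of_lt_of_le (show code n b + 2 ^ n < 2 ^ (n + 1) by omega)
          (Nat.pow_le_pow_right (by norm_num) h))]
        simp [show ¬p < n + 1 by omega]

theorem code_congr {n : ℕ} {b b' : ℕ → Bool} (h : ∀ p < n, b p = b' p) : code n b = code n b' :=
  Nat.eq_of_testBit_eq fun p => by
    rw [(code_spec b n).2, (code_spec b' n).2]
    by_cases hp : p < n
    · rw [h p hp]
    · simp [hp]

/-- A matrix of three rows and columns over two elements. -/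
abbrev M3 : Type := Matrix (Fin 3) (Fin 3) (ZMod 2)

/-- An index. -/
def f3 (n : ℕ) : Fin 3 := ⟨n % 3, Nat.mod_lt _ (by norm_num)⟩

theorem f3_val (r : Fin 3) : f3 r = r := Fin.ext (Nat.mod_eq_of_lt r.2)

/-- The matrix of a code. -/
def matC (M : ℕ) : M3 := Matrix.of fun r c => if ent M r c then 1 else 0

/-- The code of a matrix. -/
def mcode (A : M3) : ℕ := code 9 fun p => decide (A (f3 (p / 3)) (f3 (p % 3)) = 1)

/-- The symmetric matrix of a code. -/
def symC (S : ℕ) : M3 :=
  Matrix.of fun r c => if S.testBit (![![0, 1, 2], ![1, 3, 4], ![2, 4, 5]] r c) then 1 else 0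

/-- The code of a symmetric matrix. -/
def scode (A : M3) : ℕ := code 6 fun k => decide (A (f3 (idx1 k)) (f3 (idx2 k)) = 1)

theorem zmod_two_cases : ∀ x : ZMod 2, x = 0 ∨ x = 1 := by decide +kernel

theorem matC_mcode (A : M3) : matC (mcode A) = A := by
  ext r c
  rw [matC, Matrix.of_apply, ent, mcode, (code_spec _ 9).2]
  have hr : 3 * (r : ℕ) + c < 9 := by omega
  have h1 : f3 ((3 * (r : ℕ) + c) / 3) = r := by
    rw [show (3 * (r : ℕ) + c) / 3 = r by omega, f3_val]
  have h2 : f3 ((3 * (r : ℕ) + c) % 3) = c := by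
    rw [show (3 * (r : ℕ) + c) % 3 = c by omega, f3_val]
  rw [h1, h2, decide_eq_true hr, Bool.true_and]
  rcases zmod_two_cases (A r c) with h | h <;> simp [h]

theorem mcode_mul (M N : ℕ) : mm M N = mcode (matC M * matC N) := by
  refine code_congr fun p hp => ?_
  rw [Matrix.mul_apply, Fin.sum_univ_three]
  simp only [matC, Matrix.of_apply, f3, Fin.val_zero, Fin.val_one, Fin.val_two,
    Nat.mod_eq_of_lt (show p / 3 < 3 by omega), Nat.mod_mod]
  exact key _ _ _ _ _ _
where
  key : ∀ a b c d e f : Bool, ((a && d) ^^ (b && e) ^^ (c && f)) = decide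
      ((if a = true then (1 : ZMod 2) else 0) * (if d = true then 1 else 0) +
        (if b = true then 1 else 0) * (if e = true then 1 else 0) +
          (if c = true then 1 else 0) * (if f = true then 1 else 0) = 1) := by decide +kernel

theorem mcode_matC : ∀ M < 512, mcode (matC M) = M := by decide +kernel

theorem matC_one : matC 273 = 1 := by decide +kernel

theorem matC_mul (M N : ℕ) : matC (mm M N) = matC M * matC N := by rw [mcode_mul, matC_mcode]

theorem mcode_lt (A : M3) : mcode A < 512 := (code_spec _ 9).1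

theorem scode_lt (A : M3) : scode A < 64 := (code_spec _ 6).1

theorem scode_symC : ∀ S < 64, scode (symC S) = S := by decide +kernel

theorem symC_scode {A : M3} (h : Aᵀ = A) : symC (scode A) = A := by
  have hs : ∀ r c, A c r = A r c := fun r c => congrFun (congrFun h r) c
  ext r c
  rw [symC, Matrix.of_apply, scode, (code_spec _ 6).2]
  have e : ∀ r c : Fin 3, (![![0, 1, 2], ![1, 3, 4], ![2, 4, 5]] r c : ℕ) < 6 ∧
      ((f3 (idx1 (![![0, 1, 2], ![1, 3, 4], ![2, 4, 5]] r c)) = r ∧
        f3 (idx2 (![![0, 1, 2], ![1, 3, 4], ![2, 4, 5]] r c)) = c) ∨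
      (f3 (idx1 (![![0, 1, 2], ![1, 3, 4], ![2, 4, 5]] r c)) = c ∧
        f3 (idx2 (![![0, 1, 2], ![1, 3, 4], ![2, 4, 5]] r c)) = r)) := by decide +kernel
  obtain ⟨e1, e2⟩ := e r c
  rw [decide_eq_true e1, Bool.true_and]
  rcases e2 with ⟨h1, h2⟩ | ⟨h1, h2⟩ <;> rw [h1, h2]
  · rcases zmod_two_cases (A r c) with h | h <;> simp [h]
  · rw [hs]
    rcases zmod_two_cases (A r c) with h | h <;> simp [h]

theorem scode_add (A B : M3) : scode (A + B) = scode A ^^^ scode B := by
  refine Nat.eq_of_testBit_eq fun p => ?_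
  rw [Nat.testBit_xor, scode, scode, scode, (code_spec _ 6).2, (code_spec _ 6).2, (code_spec _ 6).2,
    Matrix.add_apply]
  rcases zmod_two_cases (A (f3 (idx1 p)) (f3 (idx2 p))) with h | h <;>
    rcases zmod_two_cases (B (f3 (idx1 p)) (f3 (idx2 p))) with h' | h' <;> rw [h, h'] <;>
    cases decide (p < 6) <;> decide

theorem symC_xor (a b : ℕ) : symC (a ^^^ b) = symC a + symC b := by
  ext r c
  simp only [symC, Matrix.of_apply, Matrix.add_apply, Nat.testBit_xor]
  cases a.testBit (![![0, 1, 2], ![1, 3, 4], ![2, 4, 5]] r c) <;>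
    cases b.testBit (![![0, 1, 2], ![1, 3, 4], ![2, 4, 5]] r c) <;> decide

theorem chk_actS : glL.all (fun M => allBelow (fun k =>
    Nat.beq (imgK M k) (scode (matC M * symC (2 ^ k) * (matC M)ᵀ))) 6) = true := by decide +kernel

theorem actS_eq {M : ℕ} (hM : glB M = true) {S : ℕ} (hS : S < 64) :
    actS M S = scode (matC M * symC S * (matC M)ᵀ) := by
  refine lin_ext (g := fun S => scode (matC M * symC S * (matC M)ᵀ)) (actS_xor M)
    (fun a b => by simp only [symC_xor, mul_add, add_mul, scode_add]) (fun k hk => ?_) hS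
  have h := allBelow_spec _ _ (List.all_eq_true.1 chk_actS M (mem_glL hM)) k hk
  rw [Nat.beq_eq] at h
  rw [← h]
  interval_cases k <;> simp [actS, List.range_succ, Nat.testBit, Nat.shiftRight_eq_div_pow]

theorem glB_of_det : ∀ M < 512, glB M = true ∨
    matC M 0 0 * matC M 1 1 * matC M 2 2 - matC M 0 0 * matC M 1 2 * matC M 2 1
      - matC M 0 1 * matC M 1 0 * matC M 2 2 + matC M 0 1 * matC M 1 2 * matC M 2 0
      + matC M 0 2 * matC M 1 0 * matC M 2 1 - matC M 0 2 * matC M 1 1 * matC M 2 0 = 0 := by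
  decide +kernel

theorem glB_mcode {A D : M3} (h : A * D = 1) : glB (mcode A) = true := by
  refine (glB_of_det _ (mcode_lt A)).resolve_right ?_
  rw [matC_mcode, ← Matrix.det_fin_three]
  intro h0
  have := congrArg Matrix.det h
  rw [Matrix.det_mul, h0, zero_mul, Matrix.det_one] at this
  exact zero_ne_one this

/-! ### The blocks of an element of the stabilizer -/

theorem Par_block (g : Par) : (g : Sp62).1.toBlocks₂₁ = 0 := by
  ext i j
  have hs : ∀ j : Fin 3, 2 ^ (j : ℕ) < 8 := by decide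
  have hp : ∀ j : Fin 3, S3342Id.sv (2 ^ (j : ℕ)) = Pi.single (Sum.inl j) 1 := fun j =>
    S3342Id.sv_single (Sum.inl j)
  have hr : ∀ b : Fin 8, ∀ i : Fin 3, S3342Id.sv b (Sum.inr i) = 0 := by decide +kernel
  obtain ⟨b, hb⟩ := g.2 ⟨2 ^ (j : ℕ), hs j⟩
  rw [Fin.val_mk, hp] at hb
  have := congrFun hb (Sum.inr i)
  rw [Matrix.mulVec_single_one, hr] at this
  simpa [Matrix.toBlocks₂₁] using this

/-- The diagonal block. -/
def bA (g : Par) : M3 := (g : Sp62).1.toBlocks₁₁

/-- The upper block. -/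
def bB (g : Par) : M3 := (g : Sp62).1.toBlocks₁₂

/-- The other diagonal block. -/
def bD (g : Par) : M3 := (g : Sp62).1.toBlocks₂₂

theorem Par_eq (g : Par) : (g : Sp62).1 = fromBlocks (bA g) (bB g) 0 (bD g) := by
  rw [← Par_block g]
  exact (fromBlocks_toBlocks _).symm

theorem Par_rel (g : Par) : bA g * (bD g)ᵀ = 1 ∧ bD g * (bA g)ᵀ = 1 ∧ (bB g * (bA g)ᵀ)ᵀ = bB g * (bA g)ᵀ := by
  have h := SymplecticGroup.mem_iff.1 (g : Sp62).2
  rw [Par_eq g, Matrix.J, fromBlocks_transpose, fromBlocks_multiply, fromBlocks_multiply,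
    fromBlocks_inj] at h
  simp only [Matrix.mul_zero, Matrix.zero_mul, Matrix.mul_one, Matrix.mul_neg, Matrix.neg_mul, zero_add,
    add_zero, transpose_zero, neg_inj, neg_zero] at h
  obtain ⟨h1, h2, h3, -⟩ := h
  refine ⟨h2, h3, ?_⟩
  rw [transpose_mul, transpose_transpose]
  exact (add_neg_eq_zero.1 h1).symm

theorem bA_mul (g h : Par) : bA (g * h) = bA g * bA h ∧ bB (g * h) = bA g * bB h + bB g * bD h := by
  have e : ((g * h : Par) : Sp62).1 =
      (g : Sp62).1 * (h : Sp62).1 := rfl
  rw [Par_eq (g * h), Par_eq g, Par_eq h, fromBlocks_multiply, fromBlocks_inj] at e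
  refine ⟨?_, e.2.1⟩
  rw [e.1, Matrix.mul_zero, add_zero]

/-- The code of the invertible part. -/
def mc (g : Par) : ℕ := mcode (bA g)

/-- The code of the symmetric part. -/
def sc (g : Par) : ℕ := scode (bB g * (bA g)ᵀ)

theorem mc_gl (g : Par) : glB (mc g) = true := glB_mcode (Par_rel g).1

theorem sc_lt (g : Par) : sc g < 64 := scode_lt _

theorem mc_mul (g h : Par) : mc (g * h) = mm (mc g) (mc h) := by
  rw [mc, mc, mc, mcode_mul, matC_mcode, matC_mcode, (bA_mul g h).1]

theorem sc_mul (g h : Par) : sc (g * h) = sc g ^^^ actS (mc g) (sc h) := by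
  rw [actS_eq (mc_gl g) (sc_lt h), sc, sc, sc, mc, matC_mcode, symC_scode (Par_rel h).2.2, ← scode_add,
    (bA_mul g h).1, (bA_mul g h).2]
  congr 1
  rw [transpose_mul, Matrix.add_mul, add_comm, Matrix.mul_assoc (bB g) (bD h),
    ← Matrix.mul_assoc (bD h), (Par_rel h).2.1, Matrix.one_mul]
  simp only [Matrix.mul_assoc]

theorem Par_ext {g : Par} (hm : mc g = 273) (hs : sc g = 0) : g = 1 := by
  have hA : bA g = 1 := by rw [← matC_mcode (bA g), ← mc, hm, matC_one]
  have hB : bB g = 0 := by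
    have := symC_scode (Par_rel g).2.2
    rw [← sc, hs, hA, transpose_one, Matrix.mul_one] at this
    rw [← this]
    decide +kernel
  have hD : bD g = 1 := by
    have := (Par_rel g).2.1
    rwa [hA, transpose_one, Matrix.mul_one] at this
  refine Subtype.ext (Subtype.ext ?_)
  rw [Par_eq g, hA, hB, hD, fromBlocks_one]
  rfl

/-- The element of the Levi complement. -/
def lev (M : ℕ) (h : glB M = true) : Par :=
  ⟨⟨fromBlocks (matC M) 0 0 (matC (gInv M))ᵀ, by
    have h1 : matC M * matC (gInv M) = 1 := by rw [← matC_mul, (gInv_spec h).2.1, matC_one]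
    have h2 : (matC (gInv M))ᵀ * (matC M)ᵀ = 1 := by rw [← transpose_mul, h1, transpose_one]
    rw [SymplecticGroup.mem_iff, Matrix.J, fromBlocks_transpose, fromBlocks_multiply, fromBlocks_multiply]
    simp [h1, h2]⟩, by
    rw [mem_Par]
    intro a
    have key : ∀ v : Fin 3 ⊕ Fin 3 → ZMod 2, (∀ i, v (Sum.inr i) = 0) →
        ∃ b : Fin 8, v = S3342Id.sv b := by decide +kernel
    refine key _ fun i => ?_
    have hr : ∀ b : Fin 8, ∀ i : Fin 3, S3342Id.sv b (Sum.inr i) = 0 := by decide +kernel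
    simp [fromBlocks_mulVec, Matrix.mulVec, dotProduct, hr]⟩

theorem lev_spec {M : ℕ} (h : glB M = true) : mc (lev M h) = M ∧ sc (lev M h) = 0 := by
  refine ⟨mcode_matC M (lt_512_of_glB h), ?_⟩
  show scode (0 * (matC M)ᵀ) = 0
  rw [Matrix.zero_mul]
  decide +kernel

theorem tp_code : ∀ a : Fin 8, mc (tp a) = 273 ∧ sc (tp a) = [0, 1, 8, 11, 32, 37, 56, 63].getD a 0 := by
  decide +kernel

theorem code_elts : (mc ep = 273 ∧ sc ep = 41) ∧ (sc sE = 0 ∧ sc uE = 0) ∧ (sc hE' = 0 ∧ sc wE = 0) := by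
  decide +kernel

end Cfsg.Agent.Co3Inv
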