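import Cfsg.Agent.Lib.Co3Inv.Split
import Cfsg.Agent.Lib.Co3Inv.ParCode

/-!
Recognition of the third Conway group: the stabilizer of a totally isotropic subspace of dimension three
maps onto the normalizer of the radical.
-/

set_option autoImplicit false
set_option maxRecDepth 100000

namespace Cfsg.Agent.Co3Inv

open Cfsg.Agent.PermCert

namespace Spl

variable {G : Type*} [Group G] {S : Setup G} (P : Spl S)

theorem L_theta {M : ℕ} (hM : glB M = true) {a : ℕ} (ha : a < 64) :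
    P.L M * P.N.θ a = P.N.θ (aS M a) * P.L M :=
  mul_inv_eq_iff_eq_mul.1 (P.L_maps M hM a ha)

/-- The map onto the normalizer of the radical. -/
def psi : Par →* S.X := MonoidHom.mk' (fun g => P.N.θ (sc g) * P.L (mc g)) fun g h => by
  have hg := mc_gl g
  rw [sc_mul, mc_mul, ← P.L_mul _ _ hg (mc_gl h), ← aS_eq hg (sc_lt h),
    ← P.N.hom _ (sc_lt g) _ (aS_lt _)]
  calc P.N.θ (sc g) * P.N.θ (aS (mc g) (sc h)) * (P.L (mc g) * P.L (mc h))
      = P.N.θ (sc g) * (P.N.θ (aS (mc g) (sc h)) * P.L (mc g)) * P.L (mc h) := by group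
    _ = P.N.θ (sc g) * (P.L (mc g) * P.N.θ (sc h)) * P.L (mc h) := by rw [P.L_theta hg (sc_lt h)]
    _ = _ := by group

theorem psi_apply (g : Par) : P.psi g = P.N.θ (sc g) * P.L (mc g) := rfl

theorem psi_tp {a : ℕ} (ha : a < 8) :
    P.psi (tp a) = P.N.θ ([0, 1, 8, 11, 32, 37, 56, 63].getD a 0) := by
  obtain ⟨h1, h2⟩ := tp_code ⟨a, ha⟩
  dsimp only at h1 h2
  rw [psi_apply, h1, h2, P.L_one, mul_one]

theorem psi_ep : P.psi ep = S.ebar := by
  rw [psi_apply, code_elts.1.1, code_elts.1.2, P.L_one, mul_one, P.N.e_eq]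

theorem psi_lev {g : Par} (h : sc g = 0) : P.psi g = P.L (mc g) := by
  rw [psi_apply, h, theta_zero, one_mul]

theorem psi_inj : Function.Injective P.psi := by
  refine (injective_iff_map_eq_one P.psi).2 fun g hg => ?_
  rw [psi_apply] at hg
  have hm : mc g = 273 := by
    refine P.N.mp_unique (mc_gl g) chk_glL.2.2.2.1 (fun a ha => P.L_maps _ (mc_gl g) a ha) ?_
    have e : P.L (mc g) = P.N.θ (sc g) := by
      rw [← P.N.th_inv (sc_lt g)]
      exact eq_inv_of_mul_eq_one_right hg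
    rw [e]
    exact P.N.mp_th (sc_lt g)
  rw [hm, P.L_one, mul_one] at hg
  exact Par_ext hm (P.N.inj _ (sc_lt g) hg)

theorem theta_mem_map {a : ℕ} (ha : a < 64) : P.N.θ a ∈ RadP.map P.psi := by
  have h : ∀ b < 8, P.N.θ ([0, 1, 8, 11, 32, 37, 56, 63].getD b 0) ∈ RadP.map P.psi := fun b hb =>
    ⟨tp b, tp_mem_RadP hb, P.psi_tp hb⟩
  have hx : ∀ a < 64, ∀ b < 64, P.N.θ a ∈ RadP.map P.psi → P.N.θ b ∈ RadP.map P.psi →
      P.N.θ (a ^^^ b) ∈ RadP.map P.psi := fun a ha b hb h1 h2 => by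
    rw [← P.N.hom a ha b hb]; exact mul_mem h1 h2
  have hb : ∀ k < 6, P.N.θ (2 ^ k) ∈ RadP.map P.psi := by
    intro k hk
    interval_cases k
    · exact h 1 (by norm_num)
    · exact hx 9 (by norm_num) 11 (by norm_num)
        (hx 1 (by norm_num) 8 (by norm_num) (h 1 (by norm_num)) (h 2 (by norm_num))) (h 3 (by norm_num))
    · exact hx 33 (by norm_num) 37 (by norm_num)
        (hx 1 (by norm_num) 32 (by norm_num) (h 1 (by norm_num)) (h 4 (by norm_num))) (h 5 (by norm_num))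
    · exact h 2 (by norm_num)
    · exact hx 40 (by norm_num) 56 (by norm_num)
        (hx 8 (by norm_num) 32 (by norm_num) (h 2 (by norm_num)) (h 4 (by norm_num))) (h 6 (by norm_num))
    · exact h 4 (by norm_num)
  suffices key : ∀ n ≤ 6, ∀ a < 2 ^ n, P.N.θ a ∈ RadP.map P.psi from key 6 le_rfl a ha
  intro n
  induction n with
  | zero =>
    intro _ a ha
    rw [show a = 0 by simpa using ha]
    exact h 0 (by norm_num)
  | succ n ih =>
    intro hn a ha
    by_cases hlt : a < 2 ^ n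
    · exact ih (by omega) a hlt
    · have hlo : a - 2 ^ n < 2 ^ n := by rw [pow_succ] at ha; omega
      rw [show a = 2 ^ n ^^^ (a - 2 ^ n) by rw [← xor_pow (show n < 6 by omega) hlo]; omega]
      exact hx _ (lt_of_lt_of_le (Nat.pow_lt_pow_right (by norm_num) (show n < 6 by omega)) le_rfl) _
        (lt_of_lt_of_le hlo (Nat.pow_le_pow_right (by norm_num) (show n ≤ 6 by omega)))
        (hb n (by omega)) (ih (by omega) _ hlo)

theorem cR (x : S.X) (hx : ∀ a < 8, Commute x (P.psi (tp a))) : x ∈ RadP.map P.psi := by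
  have hall : ∀ a < 64, x * P.N.θ a = P.N.θ a * x := by
    intro a ha
    suffices h : RadP.map P.psi ≤ Subgroup.centralizer {x} from
      (Subgroup.mem_centralizer_singleton_iff.1 (h (P.theta_mem_map ha))).symm
    rw [RadP, MonoidHom.map_closure, Subgroup.closure_le]
    rintro _ ⟨_, ⟨b, hb, rfl⟩, rfl⟩
    exact Subgroup.mem_centralizer_singleton_iff.2 (hx b hb).eq.symm
  obtain ⟨a, ha, rfl⟩ := P.N.cent x (by rw [← P.N.e_eq]; exact hall 41 (by norm_num)) fun a ha _ => hall a ha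
  exact P.theta_mem_map ha

theorem cent_le_range (x : S.X) (hx : x * S.ebar = S.ebar * x) : x ∈ P.psi.range := by
  obtain ⟨i, hi, hi'⟩ := P.N.stab x hx
  obtain ⟨M, hM, a, ha, rfl⟩ := P.full x fun b hb => ⟨_, actS_lt _, hi' b hb⟩
  refine mul_mem ?_ ⟨lev M hM, ?_⟩
  · obtain ⟨r, -, e⟩ := P.theta_mem_map ha
    exact ⟨r, e⟩
  · rw [P.psi_lev (lev_spec hM).2, (lev_spec hM).1]

end Spl

end Cfsg.Agent.Co3Inv
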