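import Cfsg.Agent.Lib.Co3Inv.Swap
import Cfsg.Agent.Lib.Co3Inv.RadData

/-!
Recognition of the third Conway group: the elementary abelian group of order 64 attached to the image of
`e`, in the coordinates of symmetric matrices.
-/

set_option autoImplicit false

namespace Cfsg.Agent.Co3Inv

open Cfsg.Agent.PermCert

/-- The radical attached to the image of `e`. -/
structure Rad {G : Type*} [Group G] (S : Setup G) where
  θ : ℕ → S.X
  hom : ∀ a < 64, ∀ b < 64, θ a * θ b = θ (a ^^^ b)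
  inj : ∀ a < 64, θ a = 1 → a = 0
  e_eq : θ 41 = S.ebar
  q_eq : ∀ a < 64, S.qx (θ a) = qS a
  K_in : ∀ a < 64, oS a = false → (S.Kx (θ a) ↔ kS a = true)
  cent : ∀ x : S.X, x * S.ebar = S.ebar * x → (∀ a < 64, oS a = false → x * θ a = θ a * x) →
    ∃ a < 64, θ a = x
  tab_eq : ∀ a < 64, oS a = false → θ a = S.hb (tabS a)
  split : ∀ x : S.X, x * S.ebar = S.ebar * x → ∃ n < 384, x = S.hb n ∨ x = S.hb n * θ 22
  normal : ∀ x : S.X, x * S.ebar = S.ebar * x → ∀ a < 64, ∃ b < 64, x * θ a * x⁻¹ = θ b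
  move : ∃ y : S.X, y * S.ebar * y⁻¹ = θ 60 ∧ ∀ a < 64, ∃ b < 64, y * θ a * y⁻¹ = θ b

theorem tabS_spec {a b : ℕ} (ha : a < 64) (hb : b < 64) :
    (tabS a < 384 ∧ in0 (tabS a) = true ∧ hQ (tabS a) = qS (inS a) ∧
      (oS a = false → hK (tabS a) = kS a)) ∧
    (hT (tabS a) (tabS b) = tabS (a ^^^ b) ∨ hT (hT (tabS a) (tabS b)) 1 = tabS (a ^^^ b)) ∧
    (!hcm (tabS a) (tabS b)) = bS (inS a) (inS b) ∧ oS (a ^^^ b) = (oS a ^^ oS b) ∧
    (oS a = false → oS b = false → tabS b = tabS a ∨ tabS b = hT (tabS a) 1 → a = b) := by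
  have h := allBelow_spec _ _ chk_tabS a ha
  simp only [Bool.and_eq_true, Bool.or_eq_true, beq_iff_eq, Nat.blt_eq] at h
  obtain ⟨⟨⟨⟨h1, h2⟩, h3⟩, h4⟩, h5⟩ := h
  have h6 := allBelow_spec _ _ h5 b hb
  simp only [Bool.and_eq_true, Bool.or_eq_true, beq_iff_eq, Nat.beq_eq, Bool.not_eq_true'] at h6
  obtain ⟨⟨⟨g1, g2⟩, g3⟩, g4⟩ := h6
  refine ⟨⟨h1, h2, h3, fun o => (h4.resolve_left (by simp [o]))⟩, g1, ?_, g3, fun oa ob hab => ?_⟩
  · revert g2
    cases hcm (tabS a) (tabS b) <;> cases bS (inS a) (inS b) <;> simp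
  rcases g4 with ((h' | h') | h') | h'
  · simp [oa] at h'
  · simp [ob] at h'
  · exact h'
  · rcases hab with hab | hab <;> simp [hab] at h'

theorem oS_xor {a b : ℕ} (ha : a < 64) (hb : b < 64) : oS (a ^^^ b) = (oS a ^^ oS b) :=
  (tabS_spec ha hb).2.2.2.1

theorem inS_in {a : ℕ} (h : oS a = false) : inS a = a := by rw [inS, h]; rfl

theorem inS_out {a : ℕ} (h : oS a = true) : inS a = a ^^^ 22 := by rw [inS, h]; rfl

theorem oS_inS {a : ℕ} (ha : a < 64) : oS (inS a) = false := by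
  cases h : oS a
  · rw [inS_in h, h]
  · rw [inS_out h, oS_xor ha (by norm_num), h, chk_coefS.2.2.2.1]; rfl

theorem inS_lt {a : ℕ} (ha : a < 64) : inS a < 64 := by
  cases h : oS a
  · rwa [inS_in h]
  · rw [inS_out h]; exact xor_lt_64 ha (by norm_num)

/-- An additive function on the orthogonal of the identity is given by its values on the basis. -/
theorem additive_eq {f : ℕ → Bool} {β : ℕ}
    (hadd : ∀ a < 64, ∀ b < 64, oS a = false → oS b = false → f (a ^^^ b) = (f a ^^ f b))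
    (hk : ∀ k < 5, f (basisS k) = β.testBit k) {S : ℕ} (hS : S < 64) (o : oS S = false) : f S = linS β S := by
  have h0 : f 0 = false := by
    have := hadd 0 (by norm_num) 0 (by norm_num) (by decide +kernel) (by decide +kernel)
    simpa using this
  suffices key : ∀ (l : List ℕ) (m acc : ℕ) (t : Bool), (∀ k ∈ l, k < 5) → acc < 64 → oS acc = false →
      f acc = t →
      f (l.foldl (fun a k => bif m.testBit k then a ^^^ basisS k else a) acc) =
        l.foldl (fun a k => bif m.testBit k then a ^^ β.testBit k else a) t by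
    have h1 := key (List.range 5) (coefS S) 0 false (fun k hk' => List.mem_range.1 hk') (by norm_num)
      (by decide +kernel) h0
    have h2 := allBelow_spec _ _ chk_coefS.1 S hS
    rw [o, Bool.false_or, Nat.beq_eq] at h2
    rw [← combS, h2] at h1
    exact h1
  intro l
  induction l with
  | nil => intro m acc t _ _ _ ht; exact ht
  | cons k l ih =>
    intro m acc t hl ha oa ht
    rw [List.foldl_cons, List.foldl_cons]
    have hk5 := hl k List.mem_cons_self
    have hb := allBelow_spec _ _ chk_coefS.2.1 k hk5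
    simp only [Bool.and_eq_true, Bool.not_eq_true', Nat.blt_eq] at hb
    cases m.testBit k
    · exact ih m acc t (fun j hj => hl j (List.mem_cons_of_mem _ hj)) ha oa ht
    · exact ih m _ _ (fun j hj => hl j (List.mem_cons_of_mem _ hj)) (xor_lt_64 ha hb.2)
        (by rw [cond_true, oS_xor ha hb.2, oa, hb.1]; rfl)
        (by rw [cond_true, cond_true, hadd _ ha _ hb.2 oa hb.1, ht, hk k hk5])

namespace Setup

variable {G : Type*} [Group G] (S : Setup G)

theorem hb_tab_mul {a b : ℕ} (ha : a < 64) (hb' : b < 64) :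
    S.hb (tabS a) * S.hb (tabS b) = S.hb (tabS (a ^^^ b)) := by
  obtain ⟨⟨h1, -, -, -⟩, h2, -⟩ := tabS_spec ha hb'
  rw [hb_mul, S.hb_eq_iff (hT_lt _ _) (tabS_spec (xor_lt_64 ha hb') ha).1.1]
  exact h2.imp Eq.symm Eq.symm

theorem hb_tab_in {a : ℕ} (ha : a < 64) : S.hb (tabS (inS a)) = S.hb (tabS a) := by
  cases h : oS a
  · rw [inS_in h]
  · rw [inS_out h, ← S.hb_tab_mul ha (by norm_num), chk_coefS.2.2.2.2.1, hb_zero, mul_one]

theorem hb_tab_sq {a : ℕ} (ha : a < 64) : S.hb (tabS a) * S.hb (tabS a) = 1 := by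
  rw [S.hb_tab_mul ha ha, Nat.xor_self, chk_coefS.2.2.2.2.2.1, hb_zero]

theorem hb_tab_comm {a b : ℕ} (ha : a < 64) (hb' : b < 64) :
    S.hb (tabS a) * S.hb (tabS b) = S.hb (tabS b) * S.hb (tabS a) := by
  rw [S.hb_tab_mul ha hb', S.hb_tab_mul hb' ha, Nat.xor_comm]

theorem exists_tab {n : ℕ} (hn : n < 384) (n0 : in0 n = true) :
    ∃ a < 64, oS a = false ∧ S.hb (tabS a) = S.hb n := by
  have h := allBelow_spec _ _ chk_cover n hn
  simp only [n0, Bool.not_true, Bool.false_or, List.any_eq_true, List.mem_range, Bool.and_eq_true,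
    Bool.not_eq_true', Bool.or_eq_true, Nat.beq_eq] at h
  obtain ⟨a, ha, oa, hh⟩ := h
  exact ⟨a, ha, oa, (S.hb_eq_iff (tabS_spec ha ha).1.1 hn).2 (hh.imp Eq.symm Eq.symm)⟩

/-- Conjugation by an element of the centralizer of `e` and `z` preserves `R₀`. -/
theorem conj_in0 (n : ℕ) {k : ℕ} (hk : k < 384) (k0 : in0 k = true) :
    ∃ l < 384, in0 l = true ∧ S.h n * S.h k * (S.h n)⁻¹ = S.h l := by
  suffices hs : S.h k ∈ S.R0g.comap (MulAut.conj (S.h n)).toMonoidHom by
    obtain ⟨l, hl, l0, hl'⟩ := S.mem_R0g.1 (Subgroup.mem_comap.1 hs)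
    exact ⟨l, hl, l0, hl'.symm⟩
  have hw := allBelow_spec _ _ chk_gens0.1 k hk
  simp only [k0, Bool.not_true, Bool.false_or, List.any_eq_true, Nat.beq_eq] at hw
  obtain ⟨w, -, hw⟩ := hw
  rw [← hw]
  refine S.h_word _ _ (fun f hf => Subgroup.mem_comap.2 ?_) _
  show S.h n * S.h f * (S.h n)⁻¹ ∈ S.R0g
  have hf' := List.all_eq_true.1 chk_gens0.2 f hf
  simp only [Bool.or_eq_true] at hf'
  have hne : S.h n * S.e * (S.h n)⁻¹ = S.e := by rw [(S.h_comm n).1, mul_inv_cancel_right]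
  have hnz : S.h n * S.z * (S.h n)⁻¹ = S.z := by rw [(S.h_comm n).2, mul_inv_cancel_right]
  rcases hf' with (h1 | h1) | h1
  · rw [Nat.eq_of_beq_eq_true h1, h_one, hnz]
    exact ⟨1, by norm_num, chk_in0.2.1, S.h_one⟩
  · rw [Nat.eq_of_beq_eq_true h1, h_e, hne]
    exact ⟨192, by norm_num, chk_in0.2.2, S.h_e⟩
  · simp only [nb, Bool.and_eq_true, Bool.not_eq_true'] at h1
    obtain ⟨l, hl, hln, hlx⟩ := S.nb_of_conj (x := S.h n * S.h f * (S.h n)⁻¹)
      (((S.conj_h f).2 h1.1.1).trans (isConj_iff.2 ⟨S.h n, rfl⟩))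
      (by nth_rewrite 1 [← hne]
          nth_rewrite 2 [← hne]
          rw [show S.h n * S.h f * (S.h n)⁻¹ * (S.h n * S.e * (S.h n)⁻¹) =
            S.h n * (S.h f * S.e) * (S.h n)⁻¹ by group, (S.h_comm f).1]
          group)
      (by nth_rewrite 1 [← hnz]
          nth_rewrite 2 [← hnz]
          rw [show S.h n * S.h f * (S.h n)⁻¹ * (S.h n * S.z * (S.h n)⁻¹) =
            S.h n * (S.h f * S.z) * (S.h n)⁻¹ by group, (S.h_comm f).2]
          group)
      (by rw [show S.h n * S.h f * (S.h n)⁻¹ * S.e = S.h n * S.h (hT f 192) * (S.h n)⁻¹ by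
            nth_rewrite 1 [← hne]
            rw [← h_mul, h_e]; group]
          exact ((S.conj_h _).2 h1.1.2).trans (isConj_iff.2 ⟨S.h n, rfl⟩))
      (fun he => by
        have he' := he.trans hne.symm
        rw [mul_left_inj, mul_right_inj, ← h_e] at he'
        replace he := he'
        have := congrArg (fun j => Nat.beq j 192)
          (S.h_inj ((by decide +kernel : ∀ x ∈ gens0, x < 384) f hf) (by norm_num) he)
        simp [h1.2] at this)
    have h4 := allBelow_spec _ _ chk_nb_in0 l hl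
    simp only [hln, Bool.not_true, Bool.false_or, Bool.and_eq_true] at h4
    exact ⟨l, hl, h4.1.1, hlx⟩

theorem exists_rad [Finite G] : Nonempty (Rad S) := by
  classical
  obtain ⟨a, Y, hae, ha2, hall, hy16, hyimg⟩ := S.exists_swap
  set A : S.X := QuotientGroup.mk a with hA
  set Yb : S.X := QuotientGroup.mk Y with hYb
  have hAt : ∀ x < 64, A * S.hb (tabS x) = S.hb (tabS x) * A := fun x hx =>
    hall _ (tabS_spec hx hx).1.1 (tabS_spec hx hx).1.2.1
  -- the normalization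
  let b : ℕ → Bool := fun x => S.bx A (S.hb (tabS x))
  have hadd : ∀ x < 64, ∀ y < 64, b (x ^^^ y) = (b x ^^ b y) := fun x hx y hy => by
    show S.bx A _ = _
    rw [← S.hb_tab_mul hx hy, S.bx_mul (hAt x hx) (hAt y hy)]
  obtain ⟨β, hβ, hβk⟩ : ∃ β < 32, ∀ k < 5, b (basisS k) = β.testBit k := by
    have : ∀ c0 c1 c2 c3 c4 : Bool, ∃ β : Fin 32, Nat.testBit β 0 = c0 ∧ Nat.testBit β 1 = c1 ∧
        Nat.testBit β 2 = c2 ∧ Nat.testBit β 3 = c3 ∧ Nat.testBit β 4 = c4 := by decide +kernel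
    obtain ⟨β, h0, h1, h2, h3, h4⟩ :=
      this (b (basisS 0)) (b (basisS 1)) (b (basisS 2)) (b (basisS 3)) (b (basisS 4))
    refine ⟨β, β.2, fun k hk => ?_⟩
    interval_cases k <;> symm <;> assumption
  have hblin : ∀ x < 64, oS x = false → b x = linS β x := fun x hx o =>
    additive_eq (fun p hp q hq _ _ => hadd p hp q hq) hβk hx o
  have hb41 : b 41 = true := by
    show S.bx A (S.hb (tabS 41)) = true
    rw [chk_coefS.2.2.2.2.2.2.1, hA, hb, bx_eq]
    dsimp only
    rw [h_e, hae]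
    intro he
    exact S.z_ne (mul_left_cancel (a := S.e * (a : G)) (by rw [mul_one]; exact he))
  have hlin41 : linS β 41 = true := by rw [← hblin 41 (by norm_num) (by decide +kernel), hb41]
  obtain ⟨qr, hqr, hqr'⟩ : ∃ qr < 2, Nat.beq qr 1 = S.qx A := by
    cases S.qx A
    · exact ⟨0, by norm_num, rfl⟩
    · exact ⟨1, by norm_num, rfl⟩
  have hn := allBelow_spec _ _ chk_norm β hβ
  rw [hlin41, Bool.not_true, Bool.false_or] at hn
  have hn' := allBelow_spec _ _ hn qr hqr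
  simp only [List.any_eq_true, List.mem_range, Bool.and_eq_true, Bool.not_eq_true', beq_iff_eq] at hn'
  obtain ⟨u, hu, ⟨ou, hub⟩, huq⟩ := hn'
  set r : S.X := A * S.hb (tabS u) with hr
  have hrt : ∀ x < 64, r * S.hb (tabS x) = S.hb (tabS x) * r := fun x hx => by
    rw [hr, mul_assoc, S.hb_tab_comm hu hx, ← mul_assoc, hAt x hx, mul_assoc]
  have hr2 : r * r = 1 := by
    rw [hr, ← mul_assoc, mul_assoc A _ A, ← hAt u hu, ← mul_assoc, ha2, one_mul, S.hb_tab_sq hu]
  have hrb : ∀ x < 64, oS x = false → S.bx r (S.hb (tabS x)) = bS 22 x := by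
    intro x hx o
    let f : ℕ → Bool := fun y => S.bx r (S.hb (tabS y))
    have hf : ∀ p < 64, ∀ q < 64, oS p = false → oS q = false → f (p ^^^ q) = (f p ^^ f q) :=
      fun p hp q hq _ _ => by
        show S.bx r _ = _
        rw [← S.hb_tab_mul hp hq, S.bx_mul (hrt p hp) (hrt q hq)]
    have hk : ∀ k < 5, f (basisS k) = (21 : ℕ).testBit k := by
      intro k hk
      have hb' := allBelow_spec _ _ chk_coefS.2.1 k hk
      simp only [Bool.and_eq_true, Bool.not_eq_true', Nat.blt_eq] at hb'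
      have h1 := allBelow_spec _ _ hub k hk
      rw [beq_iff_eq, ← hβk k hk] at h1
      have h21 : bS 22 (basisS k) = (21 : ℕ).testBit k := by
        have hh : ∀ j : Fin 5, bS 22 (basisS j) = (21 : ℕ).testBit j := by decide +kernel
        exact hh ⟨k, hk⟩
      rw [← h21, ← h1]
      show S.bx (A * S.hb (tabS u)) _ = _
      rw [bx_symm, S.bx_mul (hAt _ hb'.2).symm (S.hb_tab_comm hb'.2 hu), bx_symm]
      refine congrArg _ ?_
      rw [bx_symm, bx_hb, (tabS_spec hu hb'.2).2.2.1, inS_in ou, inS_in hb'.1]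
    have h2 := allBelow_spec _ _ chk_lin x hx
    simp only [o, Bool.false_or, Bool.and_eq_true, beq_iff_eq] at h2
    rw [← h2.1]
    exact additive_eq hf hk hx o
  have hrq : S.qx r = qS 22 := by
    rw [hr, S.qx_mul ha2 (S.hb_tab_sq hu) (hAt u hu), qx_hb, (tabS_spec hu hu).1.2.2.1, inS_in ou,
      ← hqr', ← huq, ← hblin u hu ou]
  have hre : ∀ n, S.hb n ≠ r := by
    intro n hn1
    have h1 : S.bx r S.ebar = true := by
      rw [← hb_e, ← chk_coefS.2.2.2.2.2.2.1, hrb 41 (by norm_num) (by decide +kernel)]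
      decide +kernel
    rw [← hn1, ← hb_e, bx_hb, Bool.not_eq_true', Bool.eq_false_iff, hcm, Ne, Nat.beq_eq] at h1
    exact h1 (S.h_inj (hT_lt _ _) (hT_lt _ _) (by rw [← h_mul, ← h_mul, h_e, (S.h_comm n).1]))
  -- the map
  set θ : ℕ → S.X := fun x => S.hb (tabS x) * (bif oS x then r else 1) with hθ
  have θin : ∀ x, oS x = false → θ x = S.hb (tabS x) := fun x o => by
    show S.hb (tabS x) * _ = _; rw [o, cond_false, mul_one]
  have θout : ∀ x, oS x = true → θ x = S.hb (tabS x) * r := fun x o => by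
    show S.hb (tabS x) * _ = _; rw [o, cond_true]
  have hrc : ∀ (x : ℕ) (c : Bool), x < 64 →
      (bif c then r else 1) * S.hb (tabS x) = S.hb (tabS x) * (bif c then r else 1) := fun x c hx => by
    cases c
    · rw [cond_false, one_mul, mul_one]
    · exact hrt x hx
  have hom : ∀ x < 64, ∀ y < 64, θ x * θ y = θ (x ^^^ y) := fun x hx y hy => by
    show S.hb _ * _ * (S.hb _ * _) = S.hb _ * _
    rw [mul_assoc, ← mul_assoc _ (S.hb (tabS y)), hrc y (oS x) hy, mul_assoc (S.hb (tabS y)), ← mul_assoc,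
      S.hb_tab_mul hx hy, oS_xor hx hy]
    cases oS x <;> cases oS y <;> simp [hr2]
  have θ22 : θ 22 = r := by rw [θout _ chk_coefS.2.2.2.1, chk_coefS.2.2.2.2.1, hb_zero, one_mul]
  have hinj : ∀ x < 64, θ x = 1 → x = 0 := by
    intro x hx h1
    cases o : oS x
    · rw [θin x o, ← hb_zero, S.hb_eq_iff (tabS_spec hx hx).1.1 (by norm_num)] at h1
      refine (tabS_spec hx (show (0 : ℕ) < 64 by norm_num)).2.2.2.2 o (by decide +kernel) ?_
      rwa [chk_coefS.2.2.2.2.2.1]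
    · rw [θout x o] at h1
      exact absurd (eq_inv_of_mul_eq_one_left h1 ▸ inv_eq_of_mul_eq_one_left hr2) (hre _)
  have θe : θ 41 = S.ebar := by
    rw [θin _ (by decide +kernel), chk_coefS.2.2.2.2.2.2.1, hb_e]
  have hq : ∀ x < 64, S.qx (θ x) = qS x := by
    intro x hx
    cases o : oS x
    · rw [θin x o, qx_hb, (tabS_spec hx hx).1.2.2.1, inS_in o]
    · rw [θout x o, S.qx_mul (S.hb_tab_sq hx) hr2 (hrt x hx).symm, qx_hb, (tabS_spec hx hx).1.2.2.1, hrq,
        bx_symm, ← S.hb_tab_in hx, hrb _ (inS_lt hx) (oS_inS hx), bS, inS_out o,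
        show 22 ^^^ (x ^^^ 22) = x by rw [Nat.xor_comm, Nat.xor_assoc, Nat.xor_self, Nat.xor_zero]]
      cases qS x <;> cases qS 22 <;> cases qS (x ^^^ 22) <;> rfl
  have hK : ∀ x < 64, oS x = false → (S.Kx (θ x) ↔ kS x = true) := fun x hx o => by
    rw [θin x o, Kx_hb, (tabS_spec hx hx).1.2.2.2 o]
  have hcom : ∀ x < 64, ∀ y < 64, θ x * θ y = θ y * θ x := fun x hx y hy => by
    rw [hom x hx y hy, hom y hy x hx, Nat.xor_comm]
  have inH : ∀ n, S.hb n * S.ebar = S.ebar * S.hb n := fun n => by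
    rw [← hb_e, S.hb_comm_iff, hcm', Bool.or_eq_true]
    left
    rw [hcm, Nat.beq_eq]
    exact S.h_inj (hT_lt _ _) (hT_lt _ _) (by rw [← h_mul, ← h_mul, h_e, (S.h_comm n).1])
  have hre' : r * S.ebar = S.ebar * r := by
    rw [← hb_e, ← chk_coefS.2.2.2.2.2.2.1]
    exact hrt 41 (by norm_num)
  have split : ∀ x : S.X, x * S.ebar = S.ebar * x →
      ∃ n < 384, x = S.hb n ∨ x = S.hb n * r := by
    intro x hx
    induction x using QuotientGroup.induction_on with
    | H c =>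
    rcases (S.comm_ebar_iff c).1 hx with ⟨n, hn, hnc⟩ | hsw
    · exact ⟨n, hn, Or.inl (congrArg QuotientGroup.mk (Subtype.ext hnc.symm))⟩
    · let w : S.Cz := a * ⟨S.h (tabS u), S.mem_Cz.2 (S.h_comm _).2⟩
      have hw : (w : G) * S.e = S.e * w * S.z := by
        show (a : G) * S.h (tabS u) * S.e = S.e * ((a : G) * S.h (tabS u)) * S.z
        rw [mul_assoc, (S.h_comm _).1, ← mul_assoc, hae, mul_assoc (S.e * (a : G)), ← (S.h_comm _).2]
        group
      have hcw : ((c * w : S.Cz) : G) * S.e = S.e * (c * w : S.Cz) := by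
        show (c : G) * w * S.e = S.e * ((c : G) * w)
        rw [mul_assoc, hw, ← mul_assoc, ← mul_assoc, hsw, mul_assoc (S.e * (c : G)), ← S.z_comm w,
          mul_assoc (S.e * (c : G)), mul_assoc (w : G), S.z_sq, mul_one, mul_assoc]
      obtain ⟨n, hn, hnc⟩ := S.exists_h hcw (S.z_comm (c * w))
      refine ⟨n, hn, Or.inr ?_⟩
      have h1 : S.hb n = QuotientGroup.mk c * r := congrArg QuotientGroup.mk (Subtype.ext hnc)
      rw [h1, mul_assoc, hr2, mul_one]
  have hcent : ∀ x : S.X, x * S.ebar = S.ebar * x → (∀ y < 64, oS y = false → x * θ y = θ y * x) →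
      ∃ y < 64, θ y = x := by
    intro x hx hc
    obtain ⟨n, hn, hnx⟩ := split x hx
    have hn' : ∀ y < 64, oS y = false → S.hb n * S.hb (tabS y) = S.hb (tabS y) * S.hb n := by
      intro y hy o
      have h1 := hc y hy o
      rw [θin y o] at h1
      rcases hnx with rfl | rfl
      · exact h1
      · refine mul_right_cancel (b := r) ?_
        rw [mul_assoc, ← hrt y hy, ← mul_assoc, h1, mul_assoc]
    have h0 : in0 n = true := by
      have h1 := allBelow_spec _ _ chk_cent n hn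
      rw [show (gens0.all fun x => hcm' n x) = true from List.all_eq_true.2 fun f hf => ?_] at h1
      · simpa using h1
      · have hf' : f < 384 ∧ in0 f = true :=
          (by decide +kernel : ∀ x ∈ gens0, x < 384 ∧ in0 x = true) f hf
        obtain ⟨y, hy, oy, hyf⟩ := S.exists_tab hf'.1 hf'.2
        rw [← S.hb_comm_iff, ← hyf]
        exact hn' y hy oy
    obtain ⟨y, hy, oy, hyn⟩ := S.exists_tab hn h0
    rcases hnx with rfl | rfl
    · exact ⟨y, hy, by rw [θin y oy, hyn]⟩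
    · exact ⟨y ^^^ 22, xor_lt_64 hy (by norm_num), by rw [← hom y hy 22 (by norm_num), θin y oy, θ22, hyn]⟩
  have hn0 : ∀ x : S.X, x * S.ebar = S.ebar * x → ∀ y < 64, oS y = false →
      ∃ w < 64, oS w = false ∧ x * θ y * x⁻¹ = θ w := by
    intro x hx y hy o
    obtain ⟨n, hn, hnx⟩ := split x hx
    have h1 : x * θ y * x⁻¹ = S.hb n * θ y * (S.hb n)⁻¹ := by
      rcases hnx with rfl | rfl
      · rfl
      · rw [θin y o, mul_inv_rev, mul_assoc (S.hb n) r, hrt y hy]
        group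
    obtain ⟨l, hl, l0, hl'⟩ := S.conj_in0 n (tabS_spec hy hy).1.1 (tabS_spec hy hy).1.2.1
    obtain ⟨w, hw, ow, hw'⟩ := S.exists_tab hl l0
    refine ⟨w, hw, ow, ?_⟩
    rw [h1, θin y o, θin w ow, hw', hb, hb, hb, ← QuotientGroup.mk_inv, ← QuotientGroup.mk_mul,
      ← QuotientGroup.mk_mul]
    exact congrArg _ (Subtype.ext hl')
  have hnormal : ∀ x : S.X, x * S.ebar = S.ebar * x → ∀ y < 64, ∃ w < 64, x * θ y * x⁻¹ = θ w := by
    intro x hx y hy
    have hxi : x⁻¹ * S.ebar = S.ebar * x⁻¹ := by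
      rw [inv_mul_eq_iff_eq_mul, ← mul_assoc, hx, mul_inv_cancel_right]
    have hye : θ y * S.ebar = S.ebar * θ y := by rw [← θe]; exact hcom y hy 41 (by norm_num)
    obtain ⟨w, hw, hww⟩ := hcent (x * θ y * x⁻¹) (by
        calc x * θ y * x⁻¹ * S.ebar = x * θ y * (x⁻¹ * S.ebar) := by group
          _ = x * (θ y * S.ebar) * x⁻¹ := by rw [hxi]; group
          _ = x * S.ebar * (θ y * x⁻¹) := by rw [hye]; group
          _ = S.ebar * (x * θ y * x⁻¹) := by rw [hx]; group) (by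
      intro v hv ov
      obtain ⟨v', hv', -, hvv⟩ := hn0 x⁻¹ hxi v hv ov
      rw [inv_inv] at hvv
      calc x * θ y * x⁻¹ * θ v = x * (θ y * (x⁻¹ * θ v * x)) * x⁻¹ := by group
        _ = x * ((x⁻¹ * θ v * x) * θ y) * x⁻¹ := by rw [hvv, hcom y hy v' hv']
        _ = θ v * (x * θ y * x⁻¹) := by group)
    exact ⟨w, hw, hww.symm⟩
  -- the mover
  have θ60 : θ 60 = S.hb 16 := by
    rw [θin _ (by decide +kernel)]; exact congrArg _ (by decide +kernel)
  have hy1 : Yb * S.ebar * Yb⁻¹ = θ 60 := by rw [θ60, hy16]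
  have hyin : ∀ x < 64, oS x = false → ∃ w < 64, Yb * θ x * Yb⁻¹ = θ w := by
    intro x hx o
    obtain ⟨m, hm, m0, hmx⟩ := hyimg (tabS x) (tabS_spec hx hx).1.1 (tabS_spec hx hx).1.2.1
    obtain ⟨w, hw, ow, hw'⟩ := S.exists_tab hm m0
    rw [θin x o]
    rcases hmx with h1 | h1
    · exact ⟨w, hw, by rw [h1, θin w ow, hw']⟩
    · refine ⟨22 ^^^ (u ^^^ w), xor_lt_64 (by norm_num) (xor_lt_64 hu hw), ?_⟩
      rw [h1, ← hom 22 (by norm_num) _ (xor_lt_64 hu hw), ← hom u hu w hw, θ22, θin w ow, θin u ou, hw',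
        hr, mul_assoc A, ← mul_assoc (S.hb (tabS u)), S.hb_tab_sq hu, one_mul]
  have hback : ∀ w < 64, ∃ x < 64, Yb⁻¹ * θ w * Yb = θ x := by
    intro w hw
    obtain ⟨x, hx, hxx⟩ := hcent (Yb⁻¹ * θ w * Yb) (by
        apply mul_left_cancel (a := Yb)
        apply mul_right_cancel (b := Yb⁻¹)
        calc Yb * (Yb⁻¹ * θ w * Yb * S.ebar) * Yb⁻¹ = θ w * (Yb * S.ebar * Yb⁻¹) := by group
          _ = Yb * S.ebar * Yb⁻¹ * θ w := by rw [hy1, hcom w hw 60 (by norm_num)]
          _ = Yb * (S.ebar * (Yb⁻¹ * θ w * Yb)) * Yb⁻¹ := by group) (by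
      intro v hv ov
      obtain ⟨v', hv', hvv⟩ := hyin v hv ov
      calc Yb⁻¹ * θ w * Yb * θ v = Yb⁻¹ * (θ w * (Yb * θ v * Yb⁻¹)) * Yb := by group
        _ = Yb⁻¹ * (Yb * θ v * Yb⁻¹ * θ w) * Yb := by rw [hvv, hcom w hw v' hv']
        _ = θ v * (Yb⁻¹ * θ w * Yb) := by group)
    exact ⟨x, hx, hxx.symm⟩
  have hyall : ∀ x < 64, ∃ w < 64, Yb * θ x * Yb⁻¹ = θ w := by
    choose g hg hg' using hback
    let F : Fin 64 → Fin 64 := fun w => ⟨g w w.2, hg w w.2⟩
    have hF : Function.Injective F := fun p q hpq => by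
      have h1 : θ p = θ q := by
        have e1 := hg' p p.2
        have e2 := hg' q q.2
        rw [show g p p.2 = g q q.2 from congrArg Fin.val hpq, ← e2, mul_left_inj, mul_right_inj] at e1
        exact e1
      have h2 := hinj ((p : ℕ) ^^^ q) (xor_lt_64 p.2 q.2) (by
        rw [← hom p p.2 q q.2, h1, hom q q.2 q q.2, Nat.xor_self,
          θin 0 (by decide +kernel), chk_coefS.2.2.2.2.2.1, hb_zero])
      exact Fin.ext (Nat.xor_eq_zero_iff.1 h2)
    intro x hx
    obtain ⟨w, hw⟩ := (Finite.injective_iff_surjective.1 hF) ⟨x, hx⟩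
    exact ⟨w, w.2, by rw [show x = g w w.2 from (congrArg Fin.val hw).symm, ← hg' w w.2]; group⟩
  exact ⟨⟨θ, hom, hinj, θe, hq, hK, hcent, fun x _ o => θin x o, θ22 ▸ split, hnormal, Yb, hy1, hyall⟩⟩

end Setup

end Cfsg.Agent.Co3Inv
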