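import Cfsg.Agent.Lib.Co3Inv.Sp62Par

/-!
Recognition of the third Conway group: a map of the stabilizer of a totally isotropic subspace of dimension
three and one further involution give the embedding of `Sp₆(2)`.
-/

set_option autoImplicit false
set_option maxRecDepth 100000

namespace Cfsg.Agent.Co3Inv

open Cfsg.Agent.S3342Id (sv bc tg vc)
open Cfsg.Agent.S3298Sp (T)
open Matrix

section braid

variable {X : Type*} [Group X]

/-- The braid relation. -/
def Br (a b : X) : Prop := a * b * a = b * a * b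

theorem Br.symm {a b : X} (h : Br a b) : Br b a := Eq.symm h

theorem Br.conj {a b : X} (h : Br a b) (g : X) : Br (g * a * g⁻¹) (g * b * g⁻¹) := by
  unfold Br at *
  rw [show g * a * g⁻¹ * (g * b * g⁻¹) * (g * a * g⁻¹) = g * (a * b * a) * g⁻¹ by group, h]
  group

theorem Br.cube {a b : X} (h : Br a b) (ha : a * a = 1) (hb : b * b = 1) :
    a * b * (a * b) * (a * b) = 1 := by
  rw [show a * b * (a * b) * (a * b) = a * b * a * (b * a * b) by group, ← h,
    show a * b * a * (a * b * a) = a * b * (a * a) * b * a by group, ha, mul_one,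
    show a * b * b * a = a * (b * b) * a by group, hb, mul_one, ha]

theorem Br.eq_of_commute {a b : X} (h : Br a b) (hc : Commute a b) (ha : a * a = 1) (hb : b * b = 1) :
    a = b := by
  unfold Br at h
  rw [hc.eq, mul_assoc, ha, mul_one, mul_assoc, hc.eq, ← mul_assoc, hb, one_mul] at h
  exact h.symm

end braid

/-- A map of the stabilizer and an involution that behaves as the transvection of the code 32. -/
structure Sp62Pre (X : Type*) [Group X] where
  ψ : Par →* X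
  τ : X
  τ_sq : τ * τ = 1
  c1 : Commute (ψ (tp 1)) τ
  c2 : Commute (ψ (tp 2)) τ
  c3 : Commute (ψ (tp 3)) τ
  cs : Commute (ψ sE) τ
  ch : Commute (ψ hE') τ
  br4 : Br (ψ (tp 4)) τ
  cu : Commute (ψ uE * τ * (ψ uE)⁻¹) τ

/-- The map is injective and the centralizer of the image of the radical is contained in it. -/
structure Sp62Dat (X : Type*) [Group X] extends Sp62Pre X where
  inj : Function.Injective ψ
  cR : ∀ x : X, (∀ a < 8, Commute x (ψ (tp a))) → x ∈ RadP.map ψ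

namespace Sp62Pre

variable {X : Type*} [Group X] (P : Sp62Pre X)

theorem psi_conj (g : Par) {a b : ℕ} (ha : a < 8) (hb : b < 8) (h : (g : Sp62).1 *ᵥ sv a = sv b) :
    P.ψ g * P.ψ (tp a) * (P.ψ g)⁻¹ = P.ψ (tp b) := by
  rw [← map_inv, ← map_mul, ← map_mul, tp_conj g ha hb h]

theorem psi_sq (a : ℕ) : P.ψ (tp a) * P.ψ (tp a) = 1 := by rw [← map_mul, tp_sq, map_one]

theorem fix {g : Par} (h : Commute (P.ψ g) P.τ) : P.ψ g * P.τ * (P.ψ g)⁻¹ = P.τ := by
  rw [h.eq, mul_inv_cancel_right]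

theorem br5 : Br (P.ψ (tp 5)) P.τ := by
  have h := P.br4.conj (P.ψ hE')
  rwa [P.psi_conj hE' (by norm_num) (by norm_num) hE'_act.1, P.fix P.ch] at h

theorem br6 : Br (P.ψ (tp 6)) P.τ := by
  have h := P.br5.conj (P.ψ sE)
  rwa [P.psi_conj sE (by norm_num) (by norm_num) sE_act.1, P.fix P.cs] at h

theorem br7 : Br (P.ψ (tp 7)) P.τ := by
  have h := P.br6.conj (P.ψ hE')
  rwa [P.psi_conj hE' (a := 6) (b := 7) (by norm_num) (by norm_num) (by decide +kernel), P.fix P.ch] at h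

theorem br (d : ℕ) (h4 : 4 ≤ d) (h8 : d < 8) : Br (P.ψ (tp d)) P.τ := by
  interval_cases d
  · exact P.br4
  · exact P.br5
  · exact P.br6
  · exact P.br7

/-- The image of the transvection of the code 16. -/
def τu : X := P.ψ uE * P.τ * (P.ψ uE)⁻¹

/-- The image of the transvection of the code 8. -/
def τw : X := P.ψ wE * P.τ * (P.ψ wE)⁻¹

theorem τw_eq : P.τw = P.ψ sE * P.τu * (P.ψ sE)⁻¹ := by
  rw [τw, τu, ← perm_eqs.2.2.2.1, map_mul, map_mul]
  calc P.ψ sE * P.ψ uE * P.ψ sE * P.τ * (P.ψ sE * P.ψ uE * P.ψ sE)⁻¹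
      = P.ψ sE * (P.ψ uE * (P.ψ sE * P.τ * (P.ψ sE)⁻¹) * (P.ψ uE)⁻¹) * (P.ψ sE)⁻¹ := by group
    _ = _ := by rw [P.fix P.cs]

theorem comm_τw : Commute P.τw P.τ := by
  have h := (Commute.conj_iff (P.ψ sE)).2 (show Commute P.τu P.τ from P.cu)
  rwa [← τw_eq, P.fix P.cs] at h

theorem comm_τwu : Commute P.τw P.τu := by
  have h := (Commute.conj_iff (P.ψ uE)).2 P.comm_τw
  have e : P.ψ uE * P.τw * (P.ψ uE)⁻¹ = P.τw := by
    conv_lhs => rw [τw, show P.ψ uE * (P.ψ wE * P.τ * (P.ψ wE)⁻¹) * (P.ψ uE)⁻¹ =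
      P.ψ uE * P.ψ wE * P.τ * (P.ψ uE * P.ψ wE)⁻¹ by group, ← map_mul, perm_eqs.2.2.2.2, map_mul,
      show P.ψ sE * P.ψ uE * P.τ * (P.ψ sE * P.ψ uE)⁻¹ = P.ψ sE * P.τu * (P.ψ sE)⁻¹ by rw [τu]; group,
      ← τw_eq]
  rwa [e] at h

/-- The images of the seven generators. -/
def gam (i : ℕ) : X :=
  [P.ψ (tp 1), P.τw, P.ψ (tp 3), P.τu, P.ψ (tp 2), P.ψ (tp 5), P.τ].getD i 1

theorem conj_sq (g : X) : g * P.τ * g⁻¹ * (g * P.τ * g⁻¹) = 1 := by
  rw [show g * P.τ * g⁻¹ * (g * P.τ * g⁻¹) = g * (P.τ * P.τ) * g⁻¹ by group, P.τ_sq, mul_one,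
    mul_inv_cancel]

theorem gam_sq : ∀ i, P.gam i * P.gam i = 1
  | 0 => P.psi_sq 1
  | 1 => P.conj_sq _
  | 2 => P.psi_sq 3
  | 3 => P.conj_sq _
  | 4 => P.psi_sq 2
  | 5 => P.psi_sq 5
  | 6 => P.τ_sq
  | _ + 7 => mul_one _

theorem gam_br : ∀ p ∈ S3298Sp.edges, Br (P.gam p.1) (P.gam p.2) := by
  have hw : ∀ d, 4 ≤ d → d < 8 → ∀ b < 8, (wE : Sp62).1 *ᵥ sv d = sv b → Br (P.ψ (tp b)) P.τw :=
    fun d h4 h8 b hb e => by
      have h := (P.br d h4 h8).conj (P.ψ wE)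
      rwa [P.psi_conj wE h8 hb e] at h
  have hu : ∀ d, 4 ≤ d → d < 8 → ∀ b < 8, (uE : Sp62).1 *ᵥ sv d = sv b → Br (P.ψ (tp b)) P.τu :=
    fun d h4 h8 b hb e => by
      have h := (P.br d h4 h8).conj (P.ψ uE)
      rwa [P.psi_conj uE h8 hb e] at h
  simp only [S3298Sp.edges, List.forall_mem_cons]
  refine ⟨?_, ?_, ?_, ?_, ?_, ?_, fun _ h => absurd h (List.not_mem_nil)⟩
  · exact hw 4 le_rfl (by norm_num) 1 (by norm_num) wE_act.2.1.1
  · exact (hw 6 (by norm_num) (by norm_num) 3 (by norm_num) wE_act.2.1.2.2).symm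
  · exact hu 5 (by norm_num) (by norm_num) 3 (by norm_num) uE_act.2.1.2.1
  · exact (hu 4 le_rfl (by norm_num) 2 (by norm_num) uE_act.2.1.1).symm
  · exact (hw 5 (by norm_num) (by norm_num) 5 (by norm_num) wE_act.2.1.2.1).symm
  · exact P.br5

theorem gam_comm : ∀ p ∈ S3298Sp.nonedges, Commute (P.gam p.1) (P.gam p.2) := by
  have hA : ∀ a b, Commute (P.ψ (tp a)) (P.ψ (tp b)) := fun a b => (tp_comm a b).map P.ψ
  have hu : ∀ a < 8, ∀ b < 8, Commute (P.ψ (tp a)) P.τ → (uE : Sp62).1 *ᵥ sv a = sv b →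
      Commute (P.ψ (tp b)) P.τu := fun a ha b hb h e => by
    have := (Commute.conj_iff (P.ψ uE)).2 h
    rwa [P.psi_conj uE ha hb e] at this
  have hw : ∀ a < 8, ∀ b < 8, Commute (P.ψ (tp a)) P.τ → (wE : Sp62).1 *ᵥ sv a = sv b →
      Commute (P.ψ (tp b)) P.τw := fun a ha b hb h e => by
    have := (Commute.conj_iff (P.ψ wE)).2 h
    rwa [P.psi_conj wE ha hb e] at this
  simp only [S3298Sp.nonedges, List.forall_mem_cons]
  refine ⟨hA 1 3, ?_, hA 1 2, hA 1 5, P.c1, P.comm_τwu, ?_, P.comm_τw, hA 3 2, hA 3 5, P.c3, ?_, P.cu,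
    hA 2 5, P.c2, fun _ h => absurd h (List.not_mem_nil)⟩
  · exact hu 1 (by norm_num) 1 (by norm_num) P.c1 uE_act.1.1
  · exact (hw 2 (by norm_num) 2 (by norm_num) P.c2 wE_act.1.2.1).symm
  · exact (hu 3 (by norm_num) 5 (by norm_num) P.c3 uE_act.1.2.2).symm

theorem tl_commute {y : X} : ∀ {l : List ℕ}, (∀ a ∈ l, Commute (P.ψ (tp a)) y) → Commute (P.ψ (tl l)) y
  | [], _ => by rw [tl, List.map_nil, List.prod_nil, map_one]; exact Commute.one_left y
  | a :: l, h => by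
    rw [tl, List.map_cons, List.prod_cons, map_mul]
    exact (h a List.mem_cons_self).mul_left (tl_commute fun b hb => h b (List.mem_cons_of_mem _ hb))

theorem c123 : Commute (P.ψ (tl [1, 2, 3])) P.τ :=
  P.tl_commute (by simp [P.c1, P.c2, P.c3])

theorem mem_of_quad (H : Subgroup X) {d a b c : ℕ} (hτ : P.τ ∈ H) (ha : P.ψ (tp a) ∈ H)
    (hb : P.ψ (tp b) ∈ H) (hc : P.ψ (tp c) ∈ H) (hrel : tl [d, a, b, c] = tl [1, 2, 3])
    (hbr : Br (P.ψ (tp d)) P.τ) : P.ψ (tp d) ∈ H := by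
  have hx := P.c123
  rw [← hrel] at hx
  simp only [tl, List.map_cons, List.map_nil, List.prod_cons, List.prod_nil, mul_one, map_mul] at hx
  set q := P.ψ (tp d) with hq
  set p := P.ψ (tp a) * (P.ψ (tp b) * P.ψ (tp c)) with hp
  have hpH : p ∈ H := mul_mem ha (mul_mem hb hc)
  have hqq : q * q = 1 := P.psi_sq d
  have hq' : q⁻¹ = q := inv_eq_of_mul_eq_one_right hqq
  have hy : q * P.τ * q = p * P.τ * p⁻¹ := by
    conv_lhs => rw [← show q * p * P.τ * (q * p)⁻¹ = P.τ by rw [hx.eq, mul_inv_cancel_right]]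
    rw [_root_.mul_inv_rev, hq', show q * (q * p * P.τ * (p⁻¹ * q)) * q = q * q * p * P.τ * p⁻¹ * (q * q) by group,
      hqq, one_mul, mul_one]
  have e : q = P.τ * (q * P.τ * q) * P.τ := by
    rw [show q * P.τ * q = P.τ * q * P.τ from hbr,
      show P.τ * (P.τ * q * P.τ) * P.τ = P.τ * P.τ * q * (P.τ * P.τ) by group, P.τ_sq, one_mul, mul_one]
  rw [e, hy]
  exact mul_mem (mul_mem hτ (mul_mem (mul_mem hpH hτ) (inv_mem hpH))) hτ

theorem mem_of_quad_conj (H : Subgroup X) (g : Par) {d a b c a' b' c' : ℕ}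
    (hτ : P.ψ g * P.τ * (P.ψ g)⁻¹ ∈ H) (hlt : d < 8 ∧ a < 8 ∧ b < 8 ∧ c < 8)
    (hlt' : a' < 8 ∧ b' < 8 ∧ c' < 8) (hd : (g : Sp62).1 *ᵥ sv d = sv d)
    (ha : (g : Sp62).1 *ᵥ sv a = sv a') (hb : (g : Sp62).1 *ᵥ sv b = sv b')
    (hc : (g : Sp62).1 *ᵥ sv c = sv c') (ma : P.ψ (tp a') ∈ H) (mb : P.ψ (tp b') ∈ H)
    (mc : P.ψ (tp c') ∈ H) (hrel : tl [d, a, b, c] = tl [1, 2, 3]) (h4 : 4 ≤ d) : P.ψ (tp d) ∈ H := by
  rw [← P.psi_conj g hlt.2.1 hlt'.1 ha] at ma
  rw [← P.psi_conj g hlt.2.2.1 hlt'.2.1 hb] at mb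
  rw [← P.psi_conj g hlt.2.2.2 hlt'.2.2 hc] at mc
  have h := P.mem_of_quad (H.comap (MulAut.conj (P.ψ g)).toMonoidHom) hτ ma mb mc hrel
    (P.br d h4 hlt.1)
  have h' : P.ψ g * P.ψ (tp d) * (P.ψ g)⁻¹ ∈ H := h
  rwa [P.psi_conj g hlt.1 hlt.1 hd] at h'

/-- A subgroup with the seven generators has the image of the radical. -/
theorem mem_all (H : Subgroup X) (h : ∀ i < 7, P.gam i ∈ H) : ∀ a < 8, P.ψ (tp a) ∈ H := by
  have h1 : P.ψ (tp 1) ∈ H := h 0 (by norm_num)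
  have hw : P.τw ∈ H := h 1 (by norm_num)
  have h3 : P.ψ (tp 3) ∈ H := h 2 (by norm_num)
  have hu : P.τu ∈ H := h 3 (by norm_num)
  have h2 : P.ψ (tp 2) ∈ H := h 4 (by norm_num)
  have h5 : P.ψ (tp 5) ∈ H := h 5 (by norm_num)
  have ht : P.τ ∈ H := h 6 (by norm_num)
  have h7 : P.ψ (tp 7) ∈ H := P.mem_of_quad_conj H wE hw (d := 7) (a := 5) (b := 6) (c := 4) (by norm_num)
    (by norm_num) wE_act.2.2.1 wE_act.2.1.2.1 wE_act.2.1.2.2 wE_act.2.1.1 h5 h3 h1 quad_eq.1 (by norm_num)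
  have h6 : P.ψ (tp 6) ∈ H := P.mem_of_quad_conj H uE hu (d := 6) (a := 4) (b := 5) (c := 7) (by norm_num)
    (by norm_num) uE_act.2.1.2.2 uE_act.2.1.1 uE_act.2.1.2.1 uE_act.2.2.1 h2 h3 h7 quad_eq.2.1
    (by norm_num)
  have h4 : P.ψ (tp 4) ∈ H := P.mem_of_quad H ht h5 h6 h7 quad_eq.2.2 P.br4
  have h0 : P.ψ (tp 0) ∈ H := by rw [tp_zero, map_one]; exact one_mem H
  intro a ha
  interval_cases a <;> assumption

end Sp62Pre

/-- The symplectic group itself. -/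
def sp62Model : Sp62Pre Sp62 where
  ψ := Par.subtype
  τ := T 32
  τ_sq := S3298Sp.T_sq _
  c1 := by
    show Commute ((tp 1 : Par) : Sp62) (T 32)
    rw [tp_val (by norm_num)]
    exact (S3298Sp.commute_iff (by norm_num) (by norm_num) (by norm_num) (by norm_num)).2 (by decide +kernel)
  c2 := by
    show Commute ((tp 2 : Par) : Sp62) (T 32)
    rw [tp_val (by norm_num)]
    exact (S3298Sp.commute_iff (by norm_num) (by norm_num) (by norm_num) (by norm_num)).2 (by decide +kernel)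
  c3 := by
    show Commute ((tp 3 : Par) : Sp62) (T 32)
    rw [tp_val (by norm_num)]
    exact (S3298Sp.commute_iff (by norm_num) (by norm_num) (by norm_num) (by norm_num)).2 (by decide +kernel)
  cs := mul_inv_eq_iff_eq_mul.1 (S3298Sp.conj_T _ sE_act.2)
  ch := mul_inv_eq_iff_eq_mul.1 (S3298Sp.conj_T _ hE'_act.2)
  br4 := by
    have h1 := S3298Sp.conj_T (T 4) (c := 32) (d := 36) (by decide +kernel)
    have h2 := S3298Sp.conj_T (T 32) (c := 4) (d := 36) (by decide +kernel)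
    rw [S3298Sp.T_inv] at h1 h2
    show Br ((tp 4 : Par) : Sp62) (T 32)
    rw [tp_val (by norm_num)]
    exact h1.trans h2.symm
  cu := by
    show Commute ((uE : Sp62) * T 32 * (uE : Sp62)⁻¹) (T 32)
    rw [S3298Sp.conj_T _ uE_act.2.2.2]
    exact (S3298Sp.commute_iff (by norm_num) (by norm_num) (by norm_num) (by norm_num)).2 (by decide +kernel)

theorem sp62Model_gam : ∀ i < 7, sp62Model.gam i = tg i := by
  intro i hi
  have hv : ∀ a : ℕ, tg a = T (vc a) := fun _ => rfl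
  interval_cases i <;> rw [hv]
  · exact tp_val (a := 1) (by norm_num)
  · exact S3298Sp.conj_T _ wE_act.2.2.2
  · exact tp_val (a := 3) (by norm_num)
  · exact S3298Sp.conj_T _ uE_act.2.2.2
  · exact tp_val (a := 2) (by norm_num)
  · exact tp_val (a := 5) (by norm_num)
  · rfl

/-- Two such data side by side. -/
def Sp62Pre.pair {X Y : Type*} [Group X] [Group Y] (P : Sp62Pre X) (Q : Sp62Pre Y) : Sp62Pre (X × Y) where
  ψ := P.ψ.prod Q.ψ
  τ := (P.τ, Q.τ)
  τ_sq := Prod.ext P.τ_sq Q.τ_sq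
  c1 := Prod.ext P.c1 Q.c1
  c2 := Prod.ext P.c2 Q.c2
  c3 := Prod.ext P.c3 Q.c3
  cs := Prod.ext P.cs Q.cs
  ch := Prod.ext P.ch Q.ch
  br4 := Prod.ext P.br4 Q.br4
  cu := Prod.ext P.cu Q.cu

theorem Sp62Pre.pair_gam {X Y : Type*} [Group X] [Group Y] (P : Sp62Pre X) (Q : Sp62Pre Y) :
    ∀ i < 7, (P.pair Q).gam i = (P.gam i, Q.gam i) := by
  intro i hi
  interval_cases i <;> rfl

namespace Sp62Dat

variable {X : Type*} [Group X] (D : Sp62Dat X)

theorem ne_τ {d : ℕ} (h4 : 4 ≤ d) (h8 : d < 8) : ¬Commute (D.ψ (tp d)) D.τ := by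
  intro hc
  have e := (D.br d h4 h8).eq_of_commute hc (D.psi_sq d) D.τ_sq
  have all : ∀ a, 4 ≤ a → a < 8 → D.ψ (tp a) = D.τ := fun a a4 a8 =>
    (D.br a a4 a8).eq_of_commute (by rw [← e]; exact (tp_comm a d).map D.ψ) (D.psi_sq a) D.τ_sq
  have := tp_inj (by norm_num) (by norm_num)
    (D.inj ((all 4 le_rfl (by norm_num)).trans (all 5 (by norm_num) (by norm_num)).symm))
  norm_num at this

theorem ne_τ₂ {p q : ℕ} (hp : 4 ≤ p ∧ p < 8) (hq : 4 ≤ q ∧ q < 8) (hne : p ≠ q) :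
    ¬Commute (D.ψ (tl [p, q])) D.τ := by
  intro hc
  simp only [tl, List.map_cons, List.map_nil, List.prod_cons, List.prod_nil, mul_one, map_mul] at hc
  set a := D.ψ (tp p) with ha
  set b := D.ψ (tp q) with hb
  have ha2 : a * a = 1 := D.psi_sq p
  have hb2 : b * b = 1 := D.psi_sq q
  have h1 : b * D.τ * b = a * D.τ * a := by
    calc b * D.τ * b = a * (a * b * D.τ) * b := by rw [← mul_assoc, ← mul_assoc, ha2, one_mul]
      _ = a * (D.τ * (a * b)) * b := by rw [hc.eq]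
      _ = a * D.τ * a * (b * b) := by group
      _ = _ := by rw [hb2, mul_one]
  rw [show b * D.τ * b = D.τ * b * D.τ from D.br q hq.1 hq.2,
    show a * D.τ * a = D.τ * a * D.τ from D.br p hp.1 hp.2] at h1
  exact hne (tp_inj hp.2 hq.2 (D.inj (mul_left_cancel (mul_right_cancel h1)).symm))

theorem ne_τ₃ : ¬Commute (D.ψ (tl [4, 5, 6])) D.τ := by
  intro hc
  rw [triple_eq, show ([7, 1, 2, 3] : List ℕ) = [7] ++ [1, 2, 3] from rfl, tl_append, map_mul] at hc
  refine D.ne_τ (d := 7) (by norm_num) (by norm_num) ?_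
  have := hc.mul_left (D.c123.inv_left)
  rw [mul_inv_cancel_right] at this
  simpa [tl] using this

theorem hi_cases : ∀ n < 64, n < 8 ∨ ((bif n.testBit 3 then [4] else []) ++
    (bif n.testBit 4 then [5] else []) ++ (bif n.testBit 5 then [6] else [])) ∈
      ([[4], [5], [6], [4, 5], [4, 6], [5, 6], [4, 5, 6]] : List (List ℕ)) := by
  decide +kernel

theorem lo_cases : ∀ n < 64, ∀ a ∈ (bif n.testBit 0 then [1] else []) ++ (bif n.testBit 1 then [2] else []) ++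
    (bif n.testBit 2 then [3] else []), a = 1 ∨ a = 2 ∨ a = 3 := by
  decide +kernel

theorem tl_one (a : ℕ) : tl [a] = tp a := by
  rw [tl, List.map_cons, List.map_nil, List.prod_cons, List.prod_nil, mul_one]

theorem lt_eight {n : ℕ} (hn : n < 64) (h : Commute (D.ψ (tl (bl n))) D.τ) : n < 8 := by
  refine (hi_cases n hn).resolve_right fun hl => ?_
  rw [bl, tl_append, map_mul] at h
  have hlo := D.tl_commute (y := D.τ) (l := (bif n.testBit 0 then [1] else []) ++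
      (bif n.testBit 1 then [2] else []) ++ (bif n.testBit 2 then [3] else [])) fun a ha => by
    rcases lo_cases n hn a ha with rfl | rfl | rfl
    exacts [D.c1, D.c2, D.c3]
  have hhi := (hlo.inv_left).mul_left h
  rw [inv_mul_cancel_left] at hhi
  simp only [List.mem_cons, List.not_mem_nil, or_false] at hl
  rcases hl with e | e | e | e | e | e | e <;> rw [e] at hhi
  · rw [tl_one] at hhi; exact D.ne_τ le_rfl (by norm_num) hhi
  · rw [tl_one] at hhi; exact D.ne_τ (d := 5) (by norm_num) (by norm_num) hhi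
  · rw [tl_one] at hhi; exact D.ne_τ (d := 6) (by norm_num) (by norm_num) hhi
  · exact D.ne_τ₂ (p := 4) (q := 5) (by norm_num) (by norm_num) (by norm_num) hhi
  · exact D.ne_τ₂ (p := 4) (q := 6) (by norm_num) (by norm_num) (by norm_num) hhi
  · exact D.ne_τ₂ (p := 5) (q := 6) (by norm_num) (by norm_num) (by norm_num) hhi
  · exact D.ne_τ₃ hhi

theorem conj_back {g r : Par} (hg : g * g = 1) (h : Commute (D.ψ r) (D.ψ g * D.τ * (D.ψ g)⁻¹)) :
    Commute (D.ψ (g * r * g⁻¹)) D.τ := by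
  have h' := (Commute.conj_iff (D.ψ g)).2 h
  have e : D.ψ g * (D.ψ g * D.τ * (D.ψ g)⁻¹) * (D.ψ g)⁻¹ = D.τ := by
    rw [show D.ψ g * (D.ψ g * D.τ * (D.ψ g)⁻¹) * (D.ψ g)⁻¹ =
      D.ψ g * D.ψ g * D.τ * (D.ψ g * D.ψ g)⁻¹ by group, ← map_mul, hg, map_one, one_mul, inv_one, mul_one]
  rwa [e, ← map_inv, ← map_mul, ← map_mul] at h'

theorem conj_tl (g : Par) (f : ℕ → ℕ) : ∀ {l : List ℕ},
    (∀ a ∈ l, a < 8 ∧ f a < 8 ∧ (g : Sp62).1 *ᵥ sv a = sv (f a)) → g * tl l * g⁻¹ = tl (l.map f)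
  | [], _ => by rw [List.map_nil, tl, List.map_nil, List.prod_nil, mul_one, mul_inv_cancel]
  | a :: l, hl => by
    have e := conj_tl g f fun b hb => hl b (List.mem_cons_of_mem _ hb)
    obtain ⟨h1, h2, h3⟩ := hl a List.mem_cons_self
    rw [List.map_cons, show tl (a :: l) = tp a * tl l from List.prod_cons,
      show tl (f a :: l.map f) = tp (f a) * tl (l.map f) from List.prod_cons, ← e, ← tp_conj g h1 h2 h3]
    simp only [mul_assoc, inv_mul_cancel_left]

theorem rad_conj_u : ∀ n < 8, uE * tl (bl n) * uE⁻¹ = tl ((bl n).map fun a => [0, 1, 4, 5].getD a 0) := by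
  intro n hn
  refine conj_tl uE _ fun a ha => ?_
  rcases (by decide +kernel : ∀ m < 8, ∀ a ∈ bl m, a = 1 ∨ a = 2 ∨ a = 3) n hn a ha with rfl | rfl | rfl
  · exact ⟨by norm_num, by norm_num, uE_act.1.1⟩
  · exact ⟨by norm_num, by norm_num, uE_act.1.2.1⟩
  · exact ⟨by norm_num, by norm_num, uE_act.1.2.2⟩

/-- The seven involutions have trivial common centralizer. -/
theorem hcen {w : X} (hw : ∀ i < 7, Commute w (D.gam i)) : w = 1 := by
  have hall := D.mem_all (Subgroup.centralizer {w})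
    (fun i hi => Subgroup.mem_centralizer_singleton_iff.2 (hw i hi).eq.symm)
  obtain ⟨r, hr, rfl⟩ := D.cR w fun a ha => (Subgroup.mem_centralizer_singleton_iff.1 (hall a ha)).symm
  obtain ⟨n, hn, rfl⟩ := exists_bl hr
  have hn8 := D.lt_eight hn (hw 6 (by norm_num))
  have hu := D.conj_back perm_eqs.2.1 (hw 3 (by norm_num))
  rw [rad_conj_u n hn8] at hu
  have strip : ∀ l, Commute (D.ψ (tl ([1] ++ l))) D.τ → Commute (D.ψ (tl l)) D.τ := fun l hl => by
    rw [tl_append, map_mul, tl_one] at hl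
    have := (D.c1.inv_left).mul_left hl
    rwa [inv_mul_cancel_left] at this
  have n4 : ¬Commute (D.ψ (tl [4])) D.τ := by rw [tl_one]; exact D.ne_τ le_rfl (by norm_num)
  have n5 : ¬Commute (D.ψ (tl [5])) D.τ := by rw [tl_one]; exact D.ne_τ (by norm_num) (by norm_num)
  have n45 : ¬Commute (D.ψ (tl [4, 5])) D.τ :=
    D.ne_τ₂ (p := 4) (q := 5) (by norm_num) (by norm_num) (by norm_num)
  have hcases : ∀ m < 8, m = 0 ∨ m = 1 ∨ ((bl m).map fun a => [0, 1, 4, 5].getD a 0) ∈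
      ([[4], [1, 4], [5], [1, 5], [4, 5], [1, 4, 5]] : List (List ℕ)) := by decide +kernel
  rcases hcases n hn8 with rfl | rfl | hl
  · exact (congrArg D.ψ (show tl (bl 0) = 1 by rw [show bl 0 = [] from rfl, tl, List.map_nil, List.prod_nil])).trans
      (map_one _)
  · exfalso
    have hww := D.conj_back perm_eqs.2.2.1 (hw 1 (by norm_num))
    rw [show bl 1 = [1] from rfl, tl_one,
      tp_conj wE (by norm_num) (by norm_num) wE_act.1.1] at hww
    exact D.ne_τ le_rfl (by norm_num) hww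
  · exfalso
    simp only [List.mem_cons, List.not_mem_nil, or_false] at hl
    rcases hl with e | e | e | e | e | e <;> rw [e] at hu
    exacts [n4 hu, n4 (strip [4] hu), n5 hu, n5 (strip [5] hu), n45 hu, n45 (strip [4, 5] hu)]

theorem tp_ne : D.ψ (tp 1) ≠ 1 := fun h => by
  have := tp_inj (a := 1) (b := 0) (by norm_num) (by norm_num) (D.inj (by rw [h, tp_zero, map_one]))
  norm_num at this

/-- The embedding of `Sp₆(2)`. -/
theorem exists_hom : ∃ η : Sp62 →* X, Function.Injective η ∧ (∀ a < 8, η (T a) = D.ψ (tp a)) ∧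
    η (T 32) = D.τ ∧ η e₀ = D.ψ ep ∧ D.ψ.range ≤ η.range := by
  obtain ⟨η, hη⟩ := S3342Id.exists_hom_sp62 D.gam D.gam_sq (S3298Sp.base_of_diagram D.gam_sq
    (fun p hp => (D.gam_br p hp).cube (D.gam_sq _) (D.gam_sq _)) D.gam_comm fun w hw => D.hcen hw)
  have hval : ∀ a < 8, η (T a) = D.ψ (tp a) := fun a ha => by
    have := (sp62Model.pair D.toSp62Pre).mem_all
      ((η.comp (MonoidHom.fst Sp62 X)).eqLocus (MonoidHom.snd Sp62 X)) (fun i hi => by
        rw [Sp62Pre.pair_gam _ _ i hi, sp62Model_gam i hi]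
        exact hη i hi) a ha
    have e : η ((tp a : Par) : Sp62) = D.ψ (tp a) := this
    rwa [tp_val ha] at e
  have h32 : η (T 32) = D.τ := hη 6 (by norm_num)
  have hrad : ∀ r ∈ RadP, η (r : Sp62) = D.ψ r := fun r hr => by
    suffices h : RadP ≤ (η.comp Par.subtype).eqLocus D.ψ from h hr
    refine (Subgroup.closure_le _).2 ?_
    rintro _ ⟨a, ha, rfl⟩
    show η ((tp a : Par) : Sp62) = _
    rw [tp_val ha]
    exact hval a ha
  have hinj : Function.Injective η := by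
    rw [← MonoidHom.ker_eq_bot_iff]
    refine ((S3342Id.isSimpleGroup_sp62).eq_bot_or_eq_top_of_normal η.ker inferInstance).resolve_right
      fun h => D.tp_ne ?_
    rw [← hval 1 (by norm_num)]
    exact MonoidHom.mem_ker.1 (by rw [h]; trivial)
  refine ⟨η, hinj, hval, h32, ?_, ?_⟩
  · have h := hrad ep (by rw [ep_eq]; exact tl_mem_RadP (by simp))
    exact h
  · rintro _ ⟨x, rfl⟩
    have hz : (η (x : Sp62))⁻¹ * D.ψ x ∈ RadP.map D.ψ := D.cR _ fun a ha => by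
      have h1 := hrad _ (conj_mem_RadP x (tp_mem_RadP ha))
      rw [Subgroup.coe_mul, Subgroup.coe_mul, Subgroup.coe_inv, map_mul, map_mul, map_inv, map_mul,
        map_mul, map_inv, hrad _ (tp_mem_RadP ha)] at h1
      refine Eq.trans ?_ ((?_ : (η (x : Sp62))⁻¹ * (η (x : Sp62) * D.ψ (tp a) * (η (x : Sp62))⁻¹) * D.ψ x =
        D.ψ (tp a) * ((η (x : Sp62))⁻¹ * D.ψ x)))
      · rw [h1]; group
      · group
    obtain ⟨r, hr, e⟩ := hz
    refine ⟨(x : Sp62) * (r : Sp62), ?_⟩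
    rw [map_mul, hrad r hr, e, mul_inv_cancel_left]

end Sp62Dat

end Cfsg.Agent.Co3Inv
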