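import Cfsg.Agent.Lib.Co3Inv.ResidueCheck
import Cfsg.Agent.Lib.Co3Inv.Psi
import Cfsg.Agent.Lib.Co3Inv.Sp62Hom

/-!
Recognition of the third Conway group: the radical of the point is self-centralizing, and the involution of
the second radical satisfies the two relations of the point residue.
-/

set_option autoImplicit false
set_option maxRecDepth 100000

namespace Cfsg.Agent.Co3Inv

open Cfsg.Agent.PermCert

/-- The code of an element of the stabilizer. -/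
def cd (g : Par) : ℕ := 64 * mc g + sc g

theorem cd_vals : (cd (tp 1) = 64 * 273 + 1 ∧ cd (tp 2) = tC ∧ cd (tp 3) = 64 * 273 + 11 ∧ cd (tp 4) = aC) ∧
    (cd sE = sC ∧ cd uE = uC ∧ cd hE' = 64 * 277) := by decide +kernel

theorem okP_cd (g : Par) : okP (cd g) = true := Spl.okP_code (mc_gl g) (sc_lt g)

namespace Crd

variable {G : Type*} [Group G] {S : Setup G} (D : Crd S)

theorem phi_cd (g : Par) : D.φ (cd g) = D.P.psi g := by
  unfold φ
  rw [Spl.φ, cd, (code_div (sc_lt g)).1, (code_div (sc_lt g)).2]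
  rfl

theorem phi_mul {x y : ℕ} (hx : okP x = true) (hy : okP y = true) : D.φ x * D.φ y = D.φ (pP x y) :=
  D.P.φ_mul hx hy

theorem phi_one : D.φ oneP = 1 := D.P.φ_one

theorem phi_cj {g x : ℕ} (hg : okP g = true) (hx : okP x = true) :
    D.φ g * D.φ x * (D.φ g)⁻¹ = D.φ (cjP g x) := by
  unfold φ cjP
  rw [D.P.φ_inv hg, D.P.φ_mul hg hx, D.P.φ_mul (Spl.okP_pP hg hx) (Spl.okP_iP hg)]

theorem Ecod_spec {x : ℕ} (hx : x ∈ Ecod) :
    okP x = true ∧ inB x = true ∧ pP x x = oneP ∧ ∀ y ∈ Ecod, pP x y ∈ Ecod ∧ cP x y = true := by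
  have h := List.all_eq_true.1 chk_Ecod.1 x hx
  simp only [Bool.and_eq_true, List.all_eq_true, List.contains_iff_mem, Nat.beq_eq] at h
  exact ⟨h.1.1.1, h.1.1.2, h.1.2, h.2⟩

theorem oneP_mem : oneP ∈ Ecod := by simpa [List.contains_iff_mem] using chk_Ecod.2.2.1

/-- The radical of the point. -/
def Eg : Subgroup S.X where
  carrier := {x | ∃ e ∈ Ecod, D.φ e = x}
  one_mem' := ⟨oneP, oneP_mem, D.phi_one⟩
  mul_mem' := fun {x y} hx hy => by
    obtain ⟨a, ha, rfl⟩ := hx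
    obtain ⟨b, hb, rfl⟩ := hy
    exact ⟨pP a b, ((Ecod_spec ha).2.2.2 b hb).1, (D.phi_mul (Ecod_spec ha).1 (Ecod_spec hb).1).symm⟩
  inv_mem' := fun {x} hx => by
    obtain ⟨a, ha, rfl⟩ := hx
    exact ⟨a, ha, (inv_eq_of_mul_eq_one_right
      (by rw [D.phi_mul (Ecod_spec ha).1 (Ecod_spec ha).1, (Ecod_spec ha).2.2.1, D.phi_one])).symm⟩

theorem mem_Eg {x : S.X} : x ∈ D.Eg ↔ ∃ e ∈ Ecod, D.φ e = x := Iff.rfl

theorem Eg_comm {x y : S.X} (hx : x ∈ D.Eg) (hy : y ∈ D.Eg) : Commute x y := by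
  obtain ⟨a, ha, rfl⟩ := hx
  obtain ⟨b, hb, rfl⟩ := hy
  exact (D.P.φ_comm (Ecod_spec ha).1 (Ecod_spec hb).1).2 ((Ecod_spec ha).2.2.2 b hb).2

theorem Eg_sq {x : S.X} (hx : x ∈ D.Eg) : x * x = 1 := by
  obtain ⟨a, ha, rfl⟩ := hx
  rw [D.phi_mul (Ecod_spec ha).1 (Ecod_spec ha).1, (Ecod_spec ha).2.2.1, D.phi_one]

/-- A conjugate within the class of the image of `e` in the radical is reached in the normalizer. -/
theorem mem_range_of_conj {y : S.X} {c c' : ℕ} (hc : c < 64) (hc' : c' < 64) (hk : kS c = true)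
    (hk' : kS c' = true) (h : y * D.P.N.θ c' * y⁻¹ = D.P.N.θ c) : y ∈ D.P.psi.range := by
  have hM : ∀ c, c < 64 → kS c = true → ∃ M, glB M = true ∧ aS M 41 = c := fun c hc hk => by
    have h := allBelow_spec _ _ chk_K41 c hc
    simp only [hk, Bool.not_true, Bool.false_or, List.any_eq_true, Nat.beq_eq] at h
    obtain ⟨M, hM, he⟩ := h
    exact ⟨M, (gl_spec hM).1, he⟩
  obtain ⟨M, gM, eM⟩ := hM c hc hk
  obtain ⟨M', gM', eM'⟩ := hM c' hc' hk'
  have e1 : D.P.L M * S.ebar * (D.P.L M)⁻¹ = D.P.N.θ c := by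
    rw [← D.P.N.e_eq, D.P.L_maps M gM 41 (by norm_num), eM]
  have e2 : D.P.L M' * S.ebar * (D.P.L M')⁻¹ = D.P.N.θ c' := by
    rw [← D.P.N.e_eq, D.P.L_maps M' gM' 41 (by norm_num), eM']
  have hL : ∀ M, glB M = true → D.P.L M ∈ D.P.psi.range := fun M hM =>
    ⟨lev M hM, by rw [D.P.psi_lev (lev_spec hM).2, (lev_spec hM).1]⟩
  have hx : (D.P.L M)⁻¹ * y * D.P.L M' ∈ D.P.psi.range := by
    refine D.P.cent_le_range _ (mul_inv_eq_iff_eq_mul.1 ?_)
    calc (D.P.L M)⁻¹ * y * D.P.L M' * S.ebar * ((D.P.L M)⁻¹ * y * D.P.L M')⁻¹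
        = (D.P.L M)⁻¹ * (y * (D.P.L M' * S.ebar * (D.P.L M')⁻¹) * y⁻¹) * D.P.L M := by group
      _ = (D.P.L M)⁻¹ * (D.P.L M * S.ebar * (D.P.L M)⁻¹) * D.P.L M := by rw [e2, h, e1]
      _ = S.ebar := by group
  have e : y = D.P.L M * ((D.P.L M)⁻¹ * y * D.P.L M') * (D.P.L M')⁻¹ := by group
  rw [e]
  exact mul_mem (mul_mem (hL M gM) hx) (inv_mem (hL M' gM'))

theorem range_cent {y : S.X} (hy : y ∈ D.P.psi.range) (hc : ∀ x ∈ D.Eg, Commute y x) : y ∈ D.Eg := by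
  obtain ⟨g, rfl⟩ := hy
  rw [← D.phi_cd] at hc ⊢
  refine ⟨cd g, ?_, rfl⟩
  have h := allBelow_spec _ _ (List.all_eq_true.1 chk_Ecent (mc g) (mem_glL (mc_gl g))) (sc g) (sc_lt g)
  rw [Bool.or_eq_true] at h
  rcases h with h | h
  · exfalso
    simp only [Bool.not_eq_true', List.all_eq_false] at h
    obtain ⟨x, hx, hne⟩ := h
    have hxE : x ∈ Ecod := by simpa [List.contains_iff_mem] using List.all_eq_true.1 chk_Ecod.2.2.2 x hx
    exact hne ((D.P.φ_comm (okP_cd g) (Ecod_spec hxE).1).1 (hc _ ⟨x, hxE, rfl⟩))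
  · simpa [List.contains_iff_mem, cd] using h

/-- The radical of the point contains its centralizer. -/
theorem cent_Eg [Finite G] {y : S.X} (hy : ∀ x ∈ D.Eg, Commute y x) : y ∈ D.Eg := by
  classical
  let Y : Subgroup S.X := Subgroup.centralizer (D.Eg : Set S.X)
  have hY : ∀ v : S.X, v ∈ Y ↔ ∀ x ∈ D.Eg, Commute v x := fun v => by
    simp only [Y, Subgroup.mem_centralizer_iff]
    exact ⟨fun h x hx => (h x hx).symm, fun h x hx => (h x hx).eq.symm⟩
  let K : Subgroup Y := D.Eg.subgroupOf Y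
  haveI : K.Normal := ⟨fun n hn g => by
    have hn' : (n : S.X) ∈ D.Eg := hn
    show ((g : S.X) * n * (g : S.X)⁻¹) ∈ D.Eg
    rwa [((hY _).1 g.2 _ hn').eq, mul_inv_cancel_right]⟩
  have hcs : ∀ c ∈ ([25, 44, 53] : List ℕ), c < 64 ∧ kS c = true := by decide +kernel
  have hnorm : ∀ c ∈ ([25, 44, 53] : List ℕ), ∀ x ∈ D.Eg,
      D.P.N.θ c * x * (D.P.N.θ c)⁻¹ ∈ D.Eg ∧
      (Commute x (D.P.N.θ c) → ∃ s < 64, x = D.P.N.θ s) := by
    rintro c hc _ ⟨e, he, rfl⟩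
    have h := List.all_eq_true.1 chk_Enorm e he
    simp only [Bool.and_eq_true, List.all_eq_true, List.contains_iff_mem, Bool.or_eq_true,
      Bool.not_eq_true', Nat.beq_eq] at h
    obtain ⟨h1, h2⟩ := h.2 c hc
    have hθ : D.φ (64 * 273 + c) = D.P.N.θ c := D.P.φ_th (hcs c hc).1
    have hokc : okP (64 * 273 + c) = true := Spl.okP_code chk_glL.2.2.2.1 (hcs c hc).1
    refine ⟨⟨_, h1, by rw [← D.phi_cj hokc (Ecod_spec he).1, hθ]⟩, fun hcm => ?_⟩
    rw [← hθ] at hcm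
    have := (D.P.φ_comm (Ecod_spec he).1 hokc).1 hcm
    rcases h2 with h2 | h2
    · rw [this] at h2
      exact Bool.noConfusion h2
    · exact ⟨e % 64, Nat.mod_lt _ (by norm_num), by
        rw [← D.P.φ_th (Nat.mod_lt e (by norm_num)), show 64 * 273 + e % 64 = e by omega]; rfl⟩
  have key : ∀ c ∈ ([25, 44, 53] : List ℕ), ∀ v ∈ Y,
      D.P.N.θ c * v * (D.P.N.θ c)⁻¹ ∈ Y ∧
      (v⁻¹ * (D.P.N.θ c * v * (D.P.N.θ c)⁻¹) ∈ D.Eg → v ∈ D.Eg) := by
    intro c hc v hv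
    obtain ⟨hc64, hkc⟩ := hcs c hc
    set f := D.P.N.θ c with hf
    have hff : f * f = 1 := D.P.N.th_sq hc64
    have hfi : f⁻¹ = f := inv_eq_of_mul_eq_one_right hff
    constructor
    · rw [hY]
      intro x hx
      have h1 := (Commute.conj_iff f).2 ((hY v).1 hv _ (hnorm c hc x hx).1)
      rwa [show f * (f * x * f⁻¹) * f⁻¹ = f * f * x * (f * f)⁻¹ by group, hff, one_mul, inv_one,
        mul_one] at h1
    · intro he
      set e := v⁻¹ * (f * v * f⁻¹) with hedef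
      have e1 : e * f = v⁻¹ * f * v := by rw [hedef]; group
      have hef : (e * f) * (e * f) = 1 := by
        rw [e1, show v⁻¹ * f * v * (v⁻¹ * f * v) = v⁻¹ * (f * f) * v by group, hff, mul_one, inv_mul_cancel]
      have hcomm : Commute e f := by
        show e * f = f * e
        have h2 : (e * f)⁻¹ = e * f := inv_eq_of_mul_eq_one_right hef
        rw [← h2, mul_inv_rev, hfi, inv_eq_of_mul_eq_one_right (D.Eg_sq he)]
      obtain ⟨s, hs, hes⟩ := (hnorm c hc e he).2 hcomm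
      have e2 : v * D.P.N.θ (s ^^^ c) * v⁻¹ = D.P.N.θ c := by
        rw [← D.P.N.hom s hs c hc64, ← hes, ← hf, e1]
        group
      have hk : kS (s ^^^ c) = true := by
        rw [← D.P.N.K_eq _ (xor_lt_64 hs hc64), ← S.Kx_conj v, e2, D.P.N.K_eq _ hc64]
        exact hkc
      exact D.range_cent (D.mem_range_of_conj hc64 (xor_lt_64 hs hc64) hkc hk e2) ((hY v).1 hv)
  -- the three involutions invert the quotient
  have inv_all : ∀ c ∈ ([25, 44, 53] : List ℕ), ∀ v ∈ Y,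
      v * (D.P.N.θ c * v * (D.P.N.θ c)⁻¹) ∈ D.Eg := by
    intro c hc
    set f := D.P.N.θ c with hf
    have hff : f * f = 1 := D.P.N.th_sq (hcs c hc).1
    let σ : Y →* Y := ((MulAut.conj f).toMonoidHom.comp Y.subtype).codRestrict Y
      fun v => (key c hc v v.2).1
    have hKK : K ≤ K.comap σ := fun n hn => (hnorm c hc _ hn).1
    let τ' : Y ⧸ K →* Y ⧸ K := QuotientGroup.map K K σ hKK
    have hfree : MonoidHom.FixedPointFree τ' := by
      intro q hq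
      induction q using QuotientGroup.induction_on with
      | H v =>
        rw [QuotientGroup.map_mk, eq_comm, QuotientGroup.eq] at hq
        rw [QuotientGroup.eq_one_iff]
        exact (key c hc v v.2).2 hq
    have hinv : Function.Involutive τ' := by
      intro q
      induction q using QuotientGroup.induction_on with
      | H v =>
        rw [QuotientGroup.map_mk, QuotientGroup.map_mk]
        congr 1
        refine Subtype.ext ?_
        show f * (f * (v : S.X) * f⁻¹) * f⁻¹ = v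
        rw [show f * (f * (v : S.X) * f⁻¹) * f⁻¹ = f * f * v * (f * f)⁻¹ by group, hff, one_mul, inv_one,
          mul_one]
    intro v hv
    have := congrFun (hfree.coe_eq_inv_of_involutive hinv) (QuotientGroup.mk (⟨v, hv⟩ : Y))
    rw [QuotientGroup.map_mk, ← QuotientGroup.mk_inv, eq_comm, QuotientGroup.eq, inv_inv] at this
    exact this
  have hyY : y ∈ Y := (hY y).2 hy
  have h25 : (25 : ℕ) ∈ ([25, 44, 53] : List ℕ) := by simp
  have h44 : (44 : ℕ) ∈ ([25, 44, 53] : List ℕ) := by simp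
  have h53 : (53 : ℕ) ∈ ([25, 44, 53] : List ℕ) := by simp
  set a := D.P.N.θ 25 with ha
  set b := D.P.N.θ 44 with hb
  have hab : D.P.N.θ 53 = a * b := by
    rw [ha, hb, D.P.N.hom 25 (by norm_num) 44 (by norm_num)]; rfl
  set v1 := b * y * b⁻¹ with hv1
  have hv1Y : v1 ∈ Y := (key 44 h44 y hyY).1
  have hz : D.P.N.θ 53 * y * (D.P.N.θ 53)⁻¹ = a * v1 * a⁻¹ := by rw [hab, hv1]; group
  have P1 := inv_all 25 h25 v1 hv1Y
  have P2 := inv_all 53 h53 y hyY
  rw [← ha] at P1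
  rw [hz] at P2
  have P3 : v1⁻¹ * y ∈ D.Eg := by
    have e : v1⁻¹ * y = (a * v1 * a⁻¹) * (v1 * (a * v1 * a⁻¹))⁻¹ * (y * (a * v1 * a⁻¹)) *
        (a * v1 * a⁻¹)⁻¹ := by group
    rw [e]
    have hmY : a * v1 * a⁻¹ ∈ Y := (key 25 h25 v1 hv1Y).1
    have hin := mul_mem (inv_mem P1) P2
    rwa [mul_assoc _ ((v1 * (a * v1 * a⁻¹))⁻¹), ((hY _).1 hmY _ hin).eq, mul_inv_cancel_right]
  refine (key 44 h44 y hyY).2 ?_
  have : y⁻¹ * v1 ∈ D.Eg := by simpa using inv_mem P3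
  exact this

end Crd

namespace Nbr

variable {G : Type*} [Group G] {S : Setup G} {D : Crd S} (N : Nbr D)

theorem τ_inv : N.τ⁻¹ = N.τ := inv_eq_of_mul_eq_one_right N.τ_sq

theorem act_E {e : ℕ} (he : e ∈ Ecod) :
    N.τ * D.φ e * N.τ⁻¹ = D.φ (actX e) ∧ actX e ∈ Ecod := by
  have h := List.all_eq_true.1 chk_Enorm e he
  simp only [Bool.and_eq_true, List.contains_iff_mem] at h
  exact ⟨by rw [N.τ_inv, N.act e (Crd.Ecod_spec he).2.1], h.1.1.1.1⟩

theorem act_fix {x : ℕ} (hx : x ∈ ([64 * 273 + 1, 64 * 273 + 8, 64 * 273 + 11, 64 * 266, 64 * 277] : List ℕ)) :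
    Commute (D.φ x) N.τ := by
  have h := List.all_eq_true.1 chk_fixX.1 x hx
  simp only [Bool.and_eq_true, Nat.beq_eq] at h
  have e := N.act x h.1.1
  rw [h.2] at e
  show D.φ x * N.τ = N.τ * D.φ x
  conv_lhs => rw [← e, mul_assoc, N.τ_sq, mul_one]

theorem comm_psi {g : Par} (h : cd g ∈ ([64 * 273 + 1, 64 * 273 + 8, 64 * 273 + 11, 64 * 266, 64 * 277] : List ℕ)) :
    Commute (D.P.psi g) N.τ := by
  rw [← D.phi_cd]; exact N.act_fix h

theorem psi_sq {g : Par} (h : g * g = 1) : D.P.psi g * D.P.psi g = 1 := by rw [← map_mul, h, map_one]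

theorem cj_E {g : Par} {e : ℕ} (he : e ∈ Ecod) :
    D.P.psi g * D.φ e * (D.P.psi g)⁻¹ = D.φ (cjP (cd g) e) := by
  rw [← D.phi_cd, D.phi_cj (okP_cd g) (Crd.Ecod_spec he).1]

theorem br4 [Finite G] : Br (D.P.psi (tp 4)) N.τ := by
  set a := D.P.psi (tp 4) with ha
  have ha2 : a * a = 1 := psi_sq (tp_sq 4)
  have hai : a⁻¹ = a := inv_eq_of_mul_eq_one_right ha2
  have hcd : cd (tp 4) = aC := cd_vals.1.2.2.2
  set w := a * N.τ * (a * N.τ) * (a * N.τ) with hw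
  have hcj : ∀ e ∈ Ecod, a * D.φ e * a⁻¹ = D.φ (cjP aC e) ∧ cjP aC e ∈ Ecod := fun e he => by
    have h := List.all_eq_true.1 chk_Enorm e he
    simp only [Bool.and_eq_true, List.contains_iff_mem] at h
    exact ⟨by rw [ha, cj_E he, hcd], h.1.1.1.2⟩
  have hwE : w ∈ D.Eg := by
    refine D.cent_Eg fun x hx => ?_
    obtain ⟨e, he, rfl⟩ := hx
    obtain ⟨t1, m1⟩ := N.act_E he
    obtain ⟨u1, n1⟩ := hcj _ m1
    obtain ⟨t2, m2⟩ := N.act_E n1
    obtain ⟨u2, n2⟩ := hcj _ m2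
    obtain ⟨t3, m3⟩ := N.act_E n2
    obtain ⟨u3, -⟩ := hcj _ m3
    have h := List.all_eq_true.1 chk_words e he
    simp only [Bool.and_eq_true, Nat.beq_eq] at h
    refine mul_inv_eq_iff_eq_mul.1 ?_
    calc w * D.φ e * w⁻¹
        = a * (N.τ * (a * (N.τ * (a * (N.τ * D.φ e * N.τ⁻¹) * a⁻¹) * N.τ⁻¹) * a⁻¹) * N.τ⁻¹) * a⁻¹ := by
          rw [hw]; group
      _ = D.φ e := by rw [t1, u1, t2, u2, t3, u3, h.1.1.1]
  have hwi : w⁻¹ = w := inv_eq_of_mul_eq_one_right (D.Eg_sq hwE)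
  have hwrev : N.τ * a * (N.τ * a) * (N.τ * a) = w := by
    rw [← hwi, hw]
    simp only [mul_inv_rev, hai, N.τ_inv, mul_assoc]
  have fa : a * w * a⁻¹ = w := by
    conv_rhs => rw [← hwrev]
    rw [hai, hw, show a * (a * N.τ * (a * N.τ) * (a * N.τ)) * a =
      a * a * (N.τ * a * (N.τ * a) * (N.τ * a)) by group, ha2, one_mul]
  have ft : N.τ * w * N.τ⁻¹ = w := by
    conv_rhs => rw [← hwrev]
    rw [hw]; group
  have hs : Commute (D.P.psi sE) N.τ := N.comm_psi (by rw [cd_vals.2.1]; simp [sC])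
  have hsa : Commute (D.P.psi sE) a := by
    rw [ha]
    refine Commute.map ?_ _
    exact mul_inv_eq_iff_eq_mul.1 (tp_conj sE (a := 4) (b := 4) (by norm_num) (by norm_num) (by decide +kernel))
  have fs : D.P.psi sE * w * (D.P.psi sE)⁻¹ = w := by
    rw [((hsa.mul_right hs).mul_right (hsa.mul_right hs)).mul_right (hsa.mul_right hs) |>.eq,
      mul_inv_cancel_right]
  obtain ⟨e, he, hew⟩ := hwE
  have h := List.all_eq_true.1 chk_words e he
  simp only [Bool.and_eq_true, Bool.or_eq_true, Bool.not_eq_true', Bool.eq_false_iff, Nat.beq_eq] at h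
  have fix : ∀ {x : ℕ}, x ∈ Ecod → D.φ x = w → x = e := fun {x} hx hxw =>
    D.P.φ_inj (Crd.Ecod_spec hx).1 (Crd.Ecod_spec he).1 (hxw.trans hew.symm)
  have e1 : actX e = e := fix (N.act_E he).2 (by rw [← (N.act_E he).1, hew, ft])
  have e2 : cjP aC e = e := fix (hcj e he).2 (by rw [← (hcj e he).1, hew, fa])
  have e3 : cjP sC e = e := by
    refine D.P.φ_inj (x := cjP sC e) ?_ (Crd.Ecod_spec he).1 ?_
    · exact Spl.okP_pP (Spl.okP_pP (by decide +kernel) (Crd.Ecod_spec he).1) (Spl.okP_iP (by decide +kernel))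
    · show D.φ (cjP sC e) = D.φ e
      rw [← cd_vals.2.1, ← cj_E he, hew, fs]
  have hw1 : w = 1 := by
    rcases h.1.2 with (hf | h1) | h2
    · exact absurd (by simp only [Bool.and_eq_true, Nat.beq_eq]; exact ⟨⟨e1, e2⟩, e3⟩) hf
    · rw [← hew, h1, D.phi_one]
    · exfalso
      have e34 : a * w = D.P.N.θ 34 := by
        rw [← hew, h2, ha, ← D.phi_cd, hcd,
          D.phi_mul (x := aC) (y := 64 * 273 + 2) (Spl.okP_code chk_glL.2.2.2.1 (show 32 < 64 by norm_num))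
            (Spl.okP_code chk_glL.2.2.2.1 (show 2 < 64 by norm_num)), Nat.eq_of_beq_eq_true chk_fixX.2.2.1]
        exact D.P.φ_th (by norm_num)
      have ec : a * w = N.τ * a * N.τ * (N.τ * a)⁻¹ := by
        rw [hw, mul_inv_rev, hai, N.τ_inv,
          show a * (a * N.τ * (a * N.τ) * (a * N.τ)) = a * a * (N.τ * a * N.τ * (a * N.τ)) by group,
          ha2, one_mul]
      have hq := S.qx_conj (N.τ * a) N.τ
      rw [← ec, e34, N.τ_q, D.P.N.q_eq 34 (by norm_num), chk_fixX.2.2.2] at hq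
      exact Bool.noConfusion hq
  show a * N.τ * a = N.τ * a * N.τ
  calc a * N.τ * a = w * (N.τ⁻¹ * a⁻¹ * N.τ⁻¹) := by rw [hw]; group
    _ = N.τ * a * N.τ := by rw [hw1, one_mul, N.τ_inv, hai]

theorem cu [Finite G] : Commute (D.P.psi uE * N.τ * (D.P.psi uE)⁻¹) N.τ := by
  set U := D.P.psi uE with hU
  have hU2 : U * U = 1 := psi_sq perm_eqs.2.1
  have hUi : U⁻¹ = U := inv_eq_of_mul_eq_one_right hU2
  set τ2 := U * N.τ * U⁻¹ with hτ2
  have hτ22 : τ2 * τ2 = 1 := by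
    rw [hτ2, show U * N.τ * U⁻¹ * (U * N.τ * U⁻¹) = U * (N.τ * N.τ) * U⁻¹ by group, N.τ_sq, mul_one,
      mul_inv_cancel]
  have hτ2i : τ2⁻¹ = τ2 := inv_eq_of_mul_eq_one_right hτ22
  have hcdu : cd uE = uC := cd_vals.2.2.1
  have hcj : ∀ e ∈ Ecod, U * D.φ e * U⁻¹ = D.φ (cjP uC e) ∧ cjP uC e ∈ Ecod := fun e he => by
    have h := List.all_eq_true.1 chk_Enorm e he
    simp only [Bool.and_eq_true, List.contains_iff_mem] at h
    exact ⟨by rw [hU, cj_E he, hcdu], h.1.1.2⟩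
  set t := D.P.psi (tp 2) with ht
  have ht2 : t * t = 1 := psi_sq (tp_sq 2)
  have hti : t⁻¹ = t := inv_eq_of_mul_eq_one_right ht2
  have hcjt : ∀ e ∈ Ecod, t * D.φ e * t⁻¹ = D.φ (cjP tC e) ∧ cjP tC e ∈ Ecod := fun e he => by
    have h := List.all_eq_true.1 chk_Enorm e he
    simp only [Bool.and_eq_true, List.contains_iff_mem] at h
    exact ⟨by rw [ht, cj_E he, cd_vals.1.2.1], h.1.2⟩
  set u := τ2 * N.τ * (τ2 * N.τ) with hu
  have huE : u ∈ D.Eg := by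
    refine D.cent_Eg fun x hx => ?_
    obtain ⟨e, he, rfl⟩ := hx
    obtain ⟨t1, m1⟩ := N.act_E he
    obtain ⟨u1, n1⟩ := hcj _ m1
    obtain ⟨t2, m2⟩ := N.act_E n1
    obtain ⟨u2, n2⟩ := hcj _ m2
    obtain ⟨t3, m3⟩ := N.act_E n2
    obtain ⟨u3, n3⟩ := hcj _ m3
    obtain ⟨t4, m4⟩ := N.act_E n3
    obtain ⟨u4, -⟩ := hcj _ m4
    have h := List.all_eq_true.1 chk_words e he
    simp only [Bool.and_eq_true, Nat.beq_eq] at h
    refine mul_inv_eq_iff_eq_mul.1 ?_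
    have e4 : u = U * N.τ * (U * N.τ) * (U * N.τ * (U * N.τ)) := by
      rw [hu, hτ2, hUi]; simp only [mul_assoc]
    calc u * D.φ e * u⁻¹
        = U * (N.τ * (U * (N.τ * (U * (N.τ * (U * (N.τ * D.φ e * N.τ⁻¹) * U⁻¹) * N.τ⁻¹) * U⁻¹) *
            N.τ⁻¹) * U⁻¹) * N.τ⁻¹) * U⁻¹ := by rw [e4]; group
      _ = D.φ e := by rw [t1, u1, t2, u2, t3, u3, t4, u4, h.1.1.2]
  have hui : u⁻¹ = u := inv_eq_of_mul_eq_one_right (D.Eg_sq huE)
  have hurev : N.τ * τ2 * (N.τ * τ2) = u := by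
    rw [← hui, hu]
    simp only [mul_inv_rev, hτ2i, N.τ_inv, mul_assoc]
  have ft : N.τ * u * N.τ⁻¹ = u := by
    conv_rhs => rw [← hurev]
    rw [hu]; group
  have fU : U * u * U⁻¹ = u := by
    have e1 : U * τ2 * U⁻¹ = N.τ := by
      rw [hτ2, show U * (U * N.τ * U⁻¹) * U⁻¹ = U * U * N.τ * (U * U)⁻¹ by group, hU2, one_mul, inv_one,
        mul_one]
    conv_rhs => rw [← hurev, ← e1]
    rw [hu, hτ2]; group
  -- the braid with the transvection of the second coordinate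
  have hbr : Br t τ2 := by
    have h := N.br4.conj U
    rwa [hU, ← map_inv, ← map_mul, ← map_mul,
      tp_conj uE (a := 4) (b := 2) (by norm_num) (by norm_num) uE_act.2.1.1, map_inv, ← hU, ← hτ2] at h
  have hct : Commute t N.τ := N.comm_psi (by rw [cd_vals.1.2.1]; simp [tC])
  set m := t * τ2 * t with hm
  have hm2 : m * m = 1 := by
    rw [hm, show t * τ2 * t * (t * τ2 * t) = t * τ2 * (t * t) * τ2 * t by group, ht2, mul_one,
      mul_assoc t τ2, hτ22, mul_one, ht2]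
  have hcm : Commute (τ2 * N.τ * τ2) m := by
    have h : Commute (τ2 * N.τ * τ2⁻¹) (τ2 * t * τ2⁻¹) := (Commute.conj_iff τ2).2 hct.symm
    rwa [hτ2i, ← hbr] at h
  have hutau : u * N.τ = τ2 * N.τ * τ2 := by
    rw [hu, mul_assoc, mul_assoc τ2 N.τ N.τ, N.τ_sq, mul_one]
  have htt : N.τ * τ2 * N.τ = u * τ2 := by
    conv_rhs => rw [← hurev]
    rw [mul_assoc _ (N.τ * τ2) τ2, mul_assoc N.τ τ2 τ2, hτ22, mul_one]
  have hm' : N.τ * m * N.τ = t * u * t * m := by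
    calc N.τ * m * N.τ = (N.τ * t) * τ2 * (t * N.τ) := by rw [hm]; group
      _ = (t * N.τ) * τ2 * (N.τ * t) := by rw [hct.eq]
      _ = t * (N.τ * τ2 * N.τ) * t := by group
      _ = t * u * (t * t) * τ2 * t := by rw [htt, ht2]; group
      _ = t * u * t * m := by rw [hm]; group
  have heq : u * (t * u * t⁻¹) * (t * (τ2 * (t * u * t⁻¹) * τ2⁻¹) * t⁻¹) = 1 := by
    have h1 : u * (t * u * t * m) = m * u := by
      rw [← hm', show u * (N.τ * m * N.τ) = u * N.τ * m * N.τ by group, hutau, hcm.eq, ← hutau,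
        show m * (u * N.τ) * N.τ = m * u * (N.τ * N.τ) by group, N.τ_sq, mul_one]
    rw [hti, hτ2i]
    calc u * (t * u * t) * (t * (τ2 * (t * u * t) * τ2) * t)
        = u * (t * u * t * m) * u * m := by rw [hm]; group
      _ = m * (u * u) * m := by rw [h1]; group
      _ = 1 := by rw [D.Eg_sq huE, mul_one, hm2]
  obtain ⟨e, he, hew⟩ := huE
  have h := List.all_eq_true.1 chk_words e he
  simp only [Bool.and_eq_true, Bool.or_eq_true, Bool.not_eq_true', Bool.eq_false_iff, Nat.beq_eq] at h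
  have fix : ∀ {x : ℕ}, x ∈ Ecod → D.φ x = u → x = e := fun {x} hx hxu =>
    D.P.φ_inj (Crd.Ecod_spec hx).1 (Crd.Ecod_spec he).1 (hxu.trans hew.symm)
  have e1 : actX e = e := fix (N.act_E he).2 (by rw [← (N.act_E he).1, hew, ft])
  have e2 : cjP uC e = e := fix (hcj e he).2 (by rw [← (hcj e he).1, hew, fU])
  obtain ⟨T1, M1⟩ := hcjt e he
  obtain ⟨U1, N1⟩ := hcj _ M1
  obtain ⟨A1, B1⟩ := N.act_E N1
  obtain ⟨U2, N2⟩ := hcj _ B1
  obtain ⟨T2, M2⟩ := hcjt _ N2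
  have hconjτ2 : τ2 * D.φ (cjP tC e) * τ2⁻¹ = D.φ (cjP uC (actX (cjP uC (cjP tC e)))) := by
    rw [← U2, ← A1, ← U1, hτ2, hUi]; simp only [mul_inv_rev, hUi, mul_assoc]
  rw [← hew, T1, hconjτ2, T2, D.phi_mul (Crd.Ecod_spec he).1 (Crd.Ecod_spec M1).1,
    D.phi_mul (Crd.Ecod_spec ((Crd.Ecod_spec he).2.2.2 _ M1).1).1 (Crd.Ecod_spec M2).1] at heq
  have e3 := D.P.φ_inj (Spl.okP_pP (Crd.Ecod_spec ((Crd.Ecod_spec he).2.2.2 _ M1).1).1
    (Crd.Ecod_spec M2).1) (Crd.Ecod_spec Crd.oneP_mem).1 (heq.trans D.phi_one.symm)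
  have hu1 : u = 1 := by
    rcases h.2 with hf | h1
    · exact absurd (by simp only [Bool.and_eq_true, Nat.beq_eq]; exact ⟨⟨e1, e2⟩, e3⟩) hf
    · rw [← hew, h1, D.phi_one]
  show τ2 * N.τ = N.τ * τ2
  calc τ2 * N.τ = u * (N.τ⁻¹ * τ2⁻¹) := by rw [hu]; group
    _ = N.τ * τ2 := by rw [hu1, one_mul, N.τ_inv, hτ2i]

/-- The data of the embedding. -/
noncomputable def dat [Finite G] : Sp62Dat S.X where
  ψ := D.P.psi
  τ := N.τ
  τ_sq := N.τ_sq
  c1 := N.comm_psi (by rw [cd_vals.1.1]; simp)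
  c2 := N.comm_psi (by rw [cd_vals.1.2.1]; simp [tC])
  c3 := N.comm_psi (by rw [cd_vals.1.2.2.1]; simp)
  cs := N.comm_psi (by rw [cd_vals.2.1]; simp [sC])
  ch := N.comm_psi (by rw [cd_vals.2.2.2]; simp)
  br4 := N.br4
  cu := N.cu
  inj := D.P.psi_inj
  cR := D.P.cR

/-- The symplectic group embeds in the quotient of the centralizer, with the centralizer of the image of
`e` in its image. -/
theorem exists_sp62 [Finite G] (N : Nbr D) : ∃ η : Sp62 →* S.X, Function.Injective η ∧ η e₀ = S.ebar ∧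
    ∀ g, g * S.ebar = S.ebar * g → g ∈ η.range := by
  obtain ⟨η, hinj, -, -, he, hle⟩ := N.dat.exists_hom
  exact ⟨η, hinj, he.trans D.P.psi_ep, fun g hg => hle (D.P.cent_le_range g hg)⟩

end Nbr

end Cfsg.Agent.Co3Inv
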