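import Cfsg.Agent.Lib.Co3Inv.Nbr

/-!
Recognition of the third Conway group: the checks on the radical of the stabilizer of the first point, an
elementary abelian group of order 32 inside both normalizers.
-/

set_option autoImplicit false
set_option maxRecDepth 100000

namespace Cfsg.Agent.Co3Inv

open Cfsg.Agent.PermCert

/-- The codes of the radical of the point. -/
def Ecod : List ℕ :=
  ([273, 275, 277, 279] : List ℕ).flatMap fun M => (List.range 8).map fun s => 64 * M + s

/-- Generators of it. -/
def Egen : List ℕ := [64 * 273 + 1, 64 * 273 + 2, 64 * 273 + 4, 64 * 275, 64 * 277]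

/-- The conjugate of a code. -/
def cjP (g x : ℕ) : ℕ := pP (pP g x) (iP g)

/-- The exchange of the last two coordinates. -/
def uC : ℕ := 64 * 161

/-- The exchange of the first two coordinates. -/
def sC : ℕ := 64 * 266

/-- The code of the transvection of the third coordinate. -/
def aC : ℕ := 64 * 273 + 32

/-- The code of the transvection of the second coordinate. -/
def tC : ℕ := 64 * 273 + 8

theorem chk_Ecod : Ecod.all (fun x => okP x && inB x && Nat.beq (pP x x) oneP &&
    Ecod.all fun y => Ecod.contains (pP x y) && cP x y) = true ∧
    (okP uC && okP sC && okP aC && okP tC) = true ∧ Ecod.contains oneP = true ∧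
    Egen.all (fun g => Ecod.contains g) = true := by decide +kernel

theorem chk_Ecent : glL.all (fun M => allBelow (fun s =>
    !(Egen.all fun g => cP (64 * M + s) g) || Ecod.contains (64 * M + s)) 64) = true := by decide +kernel

theorem chk_Enorm : Ecod.all (fun x => Ecod.contains (actX x) && Ecod.contains (cjP aC x) &&
    Ecod.contains (cjP uC x) && Ecod.contains (cjP tC x) &&
    ([25, 44, 53] : List ℕ).all (fun c => Ecod.contains (cjP (64 * 273 + c) x) &&
      (!cP x (64 * 273 + c) || Nat.beq (x / 64) 273))) = true := by decide +kernel

theorem chk_K41 : allBelow (fun c => !kS c || glL.any fun M => Nat.beq (aS M 41) c) 64 = true := by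
  decide +kernel

/-- The action of the braid element and of the commutation element on the point radical is trivial, and the
only fixed elements that survive. -/
theorem chk_words : Ecod.all (fun x =>
    Nat.beq (cjP aC (actX (cjP aC (actX (cjP aC (actX x)))))) x &&
    Nat.beq (cjP uC (actX (cjP uC (actX (cjP uC (actX (cjP uC (actX x)))))))) x &&
    (!(Nat.beq (actX x) x && Nat.beq (cjP aC x) x && Nat.beq (cjP sC x) x) ||
      Nat.beq x oneP || Nat.beq x (64 * 273 + 2)) &&
    (!(Nat.beq (actX x) x && Nat.beq (cjP uC x) x &&
        Nat.beq (pP (pP x (cjP tC x)) (cjP tC (cjP uC (actX (cjP uC (cjP tC x)))))) oneP) ||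
      Nat.beq x oneP)) = true := by decide +kernel

theorem chk_fixX : (([64 * 273 + 1, 64 * 273 + 8, 64 * 273 + 11, 64 * 266, 64 * 277] : List ℕ).all fun x =>
    inB x && okP x && Nat.beq (actX x) x) = true ∧ Nat.beq (pP aC aC) oneP = true ∧
    Nat.beq (pP aC (64 * 273 + 2)) (64 * 273 + 34) = true ∧ qS 34 = false := by decide +kernel

end Cfsg.Agent.Co3Inv
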