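import Cfsg.Agent.Lib.Co3Inv.GL
import Cfsg.Agent.Lib.Solvable.Gaschutz

/-!
Recognition of the third Conway group: the normalizer of the radical splits over it.
-/

set_option autoImplicit false

namespace Cfsg.Agent.Co3Inv

open Cfsg.Agent.PermCert

/-- A complement in the normalizer of the radical. -/
structure Spl {G : Type*} [Group G] (S : Setup G) where
  N : Nrm S
  L : ℕ → S.X
  L_maps : ∀ M, glB M = true → Maps N.θ (L M) (aS M)
  L_mul : ∀ M K, glB M = true → glB K = true → L M * L K = L (mm M K)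
  L_one : L 273 = 1
  full : ∀ x : S.X, (∀ a < 64, ∃ b < 64, x * N.θ a * x⁻¹ = N.θ b) →
    ∃ M, glB M = true ∧ ∃ a < 64, x = N.θ a * L M

theorem theta_zero {G : Type*} [Group G] {S : Setup G} (N : Nrm S) : N.θ 0 = 1 := by
  have := N.hom 0 (by norm_num) 0 (by norm_num)
  rwa [Nat.xor_self, mul_eq_left] at this

namespace Nrm

variable {G : Type*} [Group G] {S : Setup G} (N : Nrm S)

theorem th_eq {a b : ℕ} (ha : a < 64) (hb : b < 64) (h : N.θ a = N.θ b) : a = b :=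
  eq_of_theta N.hom N.inj ha hb h

theorem th_sq {a : ℕ} (ha : a < 64) : N.θ a * N.θ a = 1 := by
  rw [N.hom a ha a ha, Nat.xor_self, theta_zero]

theorem th_inv {a : ℕ} (ha : a < 64) : (N.θ a)⁻¹ = N.θ a := inv_eq_of_mul_eq_one_right (N.th_sq ha)

theorem th_comm {a b : ℕ} (ha : a < 64) (hb : b < 64) : N.θ a * N.θ b = N.θ b * N.θ a := by
  rw [N.hom a ha b hb, N.hom b hb a ha, Nat.xor_comm]

/-- `x` acts as the matrix `M`. -/
def Mp (x : S.X) (M : ℕ) : Prop := Maps N.θ x (aS M)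

theorem mp_mul {x y : S.X} {M K : ℕ} (hM : glB M = true) (hK : glB K = true) (hx : N.Mp x M)
    (hy : N.Mp y K) : N.Mp (x * y) (mm M K) := fun a ha => by
  rw [Maps.mul hx hy (fun a _ => aS_lt K) a ha]
  dsimp only
  rw [(mm_gl hM hK).2 a ha]

theorem mp_th {a : ℕ} (ha : a < 64) : N.Mp (N.θ a) 273 := fun b hb => by
  rw [aS_one hb, N.th_comm ha hb, mul_inv_cancel_right]

theorem mp_one : N.Mp 1 273 := by
  have := N.mp_th (a := 0) (by norm_num)
  rwa [theta_zero] at this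

theorem mp_unique {x : S.X} {M K : ℕ} (hM : glB M = true) (hK : glB K = true) (h : N.Mp x M)
    (h' : N.Mp x K) : M = K :=
  aS_inj hM hK fun a ha => N.th_eq (aS_lt M) (aS_lt K) (by rw [← h a ha, h' a ha])

theorem mp_inv {x : S.X} {M : ℕ} (hM : glB M = true) (h : N.Mp x M) : N.Mp x⁻¹ (gInv M) := fun a ha => by
  have h1 := h (aS (gInv M) a) (aS_lt _)
  rw [(mm_gl hM (gInv_spec hM).1).2 a ha, (gInv_spec hM).2.1, aS_one ha] at h1
  rw [← h1]; group

theorem mp_conj {x y : S.X} {M K : ℕ} (hM : glB M = true) (hK : glB K = true) (hx : N.Mp x M)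
    (hy : N.Mp y K) : N.Mp (x * y * x⁻¹) (mm (mm M K) (gInv M)) :=
  N.mp_mul (mm_gl hM hK).1 (gInv_spec hM).1 (N.mp_mul hM hK hx hy) (N.mp_inv hM hx)

theorem exists_mp_of_inN {x : S.X} (hx : ∀ a < 64, ∃ b < 64, x * N.θ a * x⁻¹ = N.θ b) :
    ∃ M, glB M = true ∧ N.Mp x M := by
  obtain ⟨y, p, hp, hy, hc⟩ := N.act x hx
  obtain ⟨i, hi, hi'⟩ := N.stab _ hc
  have hp' := (gl_spec (glWord_mem hp)).1
  refine ⟨mm p.1 (s6.getD i 0), (mm_gl hp' (s6_gl i hi)).1, ?_⟩
  have hy' : N.Mp y p.1 := fun a ha => by rw [hy a ha, aS_eq hp' ha]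
  have hc' : N.Mp (y⁻¹ * x) (s6.getD i 0) := fun a ha => by rw [hi' a ha, aS_eq (s6_gl i hi) ha]
  have := N.mp_mul hp' (s6_gl i hi) hy' hc'
  rwa [mul_inv_cancel_left] at this

theorem exists_lift {M : ℕ} (hM : glB M = true) : ∃ x, N.Mp x M := by
  have hm := mem_glL hM
  rw [← chk_glL.2.2.1, List.mem_map] at hm
  obtain ⟨p, hp, rfl⟩ := hm
  obtain ⟨x, hx⟩ := N.lift p hp
  exact ⟨x, fun a ha => by rw [hx a ha, aS_eq hM ha]⟩

theorem mem_of_trivial {x : S.X} (h : N.Mp x 273) : ∃ a < 64, N.θ a = x := by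
  refine N.cent x ?_ fun a ha _ => ?_
  · have h1 := h 41 (by norm_num)
    rwa [aS_one (by norm_num), N.e_eq, mul_inv_eq_iff_eq_mul] at h1
  · have h1 := h a ha
    rwa [aS_one ha, mul_inv_eq_iff_eq_mul] at h1

theorem eq_mul_of_mp {x y : S.X} {M : ℕ} (hM : glB M = true) (hx : N.Mp x M) (hy : N.Mp y M) :
    ∃ a < 64, x = N.θ a * y := by
  have h := N.mp_mul hM (gInv_spec hM).1 hx (N.mp_inv hM hy)
  rw [(gInv_spec hM).2.1] at h
  obtain ⟨a, ha, hax⟩ := N.mem_of_trivial h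
  exact ⟨a, ha, by rw [hax, inv_mul_cancel_right]⟩

/-- The normalizer of the radical. -/
def Pg : Subgroup S.X where
  carrier := {x | ∃ M, glB M = true ∧ N.Mp x M}
  one_mem' := ⟨273, chk_glL.2.2.2.1, N.mp_one⟩
  mul_mem' := fun {x y} hx hy => by
    obtain ⟨M, hM, hx⟩ := hx
    obtain ⟨K, hK, hy⟩ := hy
    exact ⟨mm M K, (mm_gl hM hK).1, N.mp_mul hM hK hx hy⟩
  inv_mem' := fun {x} hx => by
    obtain ⟨M, hM, hx⟩ := hx
    exact ⟨gInv M, (gInv_spec hM).1, N.mp_inv hM hx⟩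

theorem mem_Pg {x : S.X} : x ∈ N.Pg ↔ ∃ M, glB M = true ∧ N.Mp x M := Iff.rfl

/-- The radical. -/
def Rg : Subgroup S.X where
  carrier := {x | ∃ a < 64, N.θ a = x}
  one_mem' := ⟨0, by norm_num, theta_zero N⟩
  mul_mem' := fun {x y} hx hy => by
    obtain ⟨a, ha, rfl⟩ := hx
    obtain ⟨b, hb, rfl⟩ := hy
    exact ⟨a ^^^ b, xor_lt_64 ha hb, (N.hom a ha b hb).symm⟩
  inv_mem' := fun {x} hx => by
    obtain ⟨a, ha, rfl⟩ := hx
    exact ⟨a, ha, (N.th_inv ha).symm⟩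

theorem mem_Rg {x : S.X} : x ∈ N.Rg ↔ ∃ a < 64, N.θ a = x := Iff.rfl

theorem exists_involution_lift : ∃ u : S.X, u * u = 1 ∧ N.Mp u 266 := by
  obtain ⟨g, hg⟩ := N.exists_lift (M := 266) (by decide +kernel)
  -- an involution of the stabilizer acting as a transposition
  have key : ∀ n < 384, Nat.beq n 195 = true → S.hb n * S.hb n = 1 := fun n _ hn => by
    rw [Nat.beq_eq] at hn
    subst hn
    rw [S.hb_mul, ← S.hb_zero, S.hb_eq_iff (hT_lt _ _) (by norm_num)]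
    decide +kernel
  have h1 := key 195 (by norm_num) rfl
  obtain ⟨i, hi, hi'⟩ := N.stab (S.hb 195) (Rad.hb_ebar 195)
  have hM := s6_gl i hi
  have hm : N.Mp (S.hb 195) (s6.getD i 0) := fun a ha => by rw [hi' a ha, aS_eq hM ha]
  -- it is not trivial on the radical
  have hne : s6.getD i 0 ≠ 273 := by
    intro he
    rw [he] at hm
    obtain ⟨a, ha, hax⟩ := N.mem_of_trivial hm
    have hn : S.hb 64 * S.hb 195 * (S.hb 64)⁻¹ = S.hb 263 := by
      rw [mul_inv_eq_iff_eq_mul, S.hb_mul, S.hb_mul, S.hb_eq_iff (hT_lt _ _) (hT_lt _ _)]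
      decide +kernel
    obtain ⟨j, hj, hj'⟩ := N.stab (S.hb 64) (Rad.hb_ebar 64)
    have h2 := hj' a ha
    rw [hax, hn] at h2
    have h3 := N.th_comm (actS_lt (s6.getD j 0) (S := a)) ha
    rw [← h2, hax, S.hb_comm_iff] at h3
    revert h3
    decide +kernel
  have ord : mm (s6.getD i 0) (s6.getD i 0) = 273 := N.mp_unique (mm_gl hM hM).1 chk_glL.2.2.2.1
    (N.mp_mul hM hM hm hm) (by rw [h1]; exact N.mp_one)
  obtain ⟨c, hc, hce⟩ := trans_conj i hi ord hne
  obtain ⟨x, hx⟩ := N.exists_lift hc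
  refine ⟨x * S.hb 195 * x⁻¹, ?_, ?_⟩
  · calc x * S.hb 195 * x⁻¹ * (x * S.hb 195 * x⁻¹) = x * (S.hb 195 * S.hb 195) * x⁻¹ := by group
      _ = 1 := by rw [h1, mul_one, mul_inv_cancel]
  · have h2 := N.mp_conj hc hM hx hm
    rwa [hce] at h2
where
  trans_conj : ∀ i < 6, mm (s6.getD i 0) (s6.getD i 0) = 273 → s6.getD i 0 ≠ 273 →
      ∃ c, glB c = true ∧ mm (mm c (s6.getD i 0)) (gInv c) = 266 := by
    intro i hi
    have h : ∀ i : Fin 6, mm (s6.getD i 0) (s6.getD i 0) = 273 → s6.getD i 0 ≠ 273 →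
        glL.any (fun c => glB c && Nat.beq (mm (mm c (s6.getD i 0)) (gInv c)) 266) = true := by decide +kernel
    intro h1 h2
    have h3 := h ⟨i, hi⟩ h1 h2
    simp only [List.any_eq_true, Bool.and_eq_true, Nat.beq_eq] at h3
    obtain ⟨c, -, hc⟩ := h3
    exact ⟨c, hc⟩

theorem exists_conj_lift {c : ℕ} (hc : glB c = true) {u : S.X} (hu : u * u = 1) (hm : N.Mp u 266) :
    ∃ v : S.X, v * v = 1 ∧ N.Mp v (mm (mm c 266) (gInv c)) := by
  obtain ⟨x, hx⟩ := N.exists_lift hc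
  refine ⟨x * u * x⁻¹, ?_, N.mp_conj hc (by decide +kernel) hx hm⟩
  calc x * u * x⁻¹ * (x * u * x⁻¹) = x * (u * u) * x⁻¹ := by group
    _ = 1 := by rw [hu, mul_one, mul_inv_cancel]

/-- A dihedral group of lifts. -/
theorem exists_dihedral : ∃ u v : S.X, u * u = 1 ∧ v * v = 1 ∧ N.Mp u 266 ∧ N.Mp v 124 ∧
    (u * v) * (u * v) * ((u * v) * (u * v)) = 1 := by
  obtain ⟨u, hu, hmu⟩ := N.exists_involution_lift
  obtain ⟨v, hv, hmv'⟩ := N.exists_conj_lift (chk_d8.2.2.2.2.2.2.2.2.1) hu hmu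
  obtain ⟨t, ht, hmt'⟩ := N.exists_conj_lift (chk_d8.2.2.2.2.2.2.2.2.2) hu hmu
  have hmv : N.Mp v 124 := by rwa [chk_d8.2.2.2.2.2.2.1] at hmv'
  have hmt : N.Mp t 458 := by rwa [chk_d8.2.2.2.2.2.2.2.1] at hmt'
  have g266 : glB 266 = true := by decide +kernel
  have g124 : glB 124 = true := by decide +kernel
  have g103 : glB 103 = true := by decide +kernel
  have g458 : glB 458 = true := by decide +kernel
  have hmuv : N.Mp (u * v) 103 := by
    have := N.mp_mul g266 g124 hmu hmv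
    rwa [chk_d8.2.2.2.1] at this
  have hmT : N.Mp (u * v * (u * v)) 458 := by
    have := N.mp_mul g103 g103 hmuv hmuv
    rwa [chk_d8.2.2.2.2.1] at this
  obtain ⟨s, hs, hTs⟩ := N.eq_mul_of_mp g458 hmT hmt
  have hmove : ∀ {x : S.X} {M : ℕ}, N.Mp x M → ∀ a < 64, x * N.θ a = N.θ (aS M a) * x :=
    fun h a ha => by rw [← h a ha, inv_mul_cancel_right]
  set r := s ^^^ aS 458 s with hr
  have hrlt : r < 64 := xor_lt_64 hs (aS_lt _)
  have hTT : u * v * (u * v) * (u * v * (u * v)) = N.θ r := by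
    rw [hTs, mul_assoc, ← mul_assoc t, hmove hmt s hs, mul_assoc (N.θ (aS 458 s)), ht, mul_one,
      N.hom s hs _ (aS_lt _)]
  -- it is fixed by the generators
  have hfix : ∀ {w : S.X} {M : ℕ}, N.Mp w M → w * w = 1 →
      w * (u * v * (u * v) * (u * v * (u * v))) * w = (u * v * (u * v) * (u * v * (u * v)))⁻¹ →
      aS M r = r := fun {w M} hw hw2 he => by
    have hwi : w⁻¹ = w := inv_eq_of_mul_eq_one_right hw2
    have h1 := hw r hrlt
    rw [← hTT, hwi, he, hTT, N.th_inv hrlt] at h1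
    exact (N.th_eq hrlt (aS_lt _) h1).symm
  have hui : u⁻¹ = u := inv_eq_of_mul_eq_one_right hu
  have hvi : v⁻¹ = v := inv_eq_of_mul_eq_one_right hv
  have h266 := hfix hmu hu (by
    simp only [mul_inv_rev, hui, hvi, ← mul_assoc, hu, one_mul]
    )
  have h124 := hfix hmv hv (by
    simp only [mul_inv_rev, hui, hvi, mul_assoc, hv, mul_one]
    )
  have h := allBelow_spec _ _ chk_shift s hs
  rw [← hr, h266, h124] at h
  simp only [Nat.beq_eq, Bool.or_eq_true, Bool.not_eq_true', Bool.and_eq_true,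
    List.any_eq_true, List.mem_range] at h
  rcases h with h | ⟨a, ha, hafix, b, hb, hbfix, hab⟩
  · exact absurd h (by simp)
  set w := aS 124 a ^^^ b with hw
  have hwlt : w < 64 := xor_lt_64 (aS_lt _) hb
  have hinvol : ∀ {x : S.X} {M a : ℕ}, N.Mp x M → x * x = 1 → a < 64 → aS M a = a →
      x * N.θ a * (x * N.θ a) = 1 := fun {x M a} hx hx2 ha he => by
    rw [mul_assoc, ← mul_assoc (N.θ a), ← he, ← hmove hx a ha, he, mul_assoc x (N.θ a), N.th_sq ha, mul_one,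
      hx2]
  have hact : ∀ {x : S.X} {M a : ℕ}, glB M = true → N.Mp x M → a < 64 → N.Mp (x * N.θ a) M :=
    fun {x M a} hM hx ha b hb => by
      rw [Maps.mul hx (N.mp_th ha) (fun c _ => aS_lt _) b hb]
      dsimp only
      rw [aS_one hb]
  refine ⟨u * N.θ a, v * N.θ b, hinvol hmu hu ha hafix, hinvol hmv hv hb hbfix, hact g266 hmu ha,
    hact g124 hmv hb, ?_⟩
  have e1 : u * N.θ a * (v * N.θ b) = u * v * N.θ w := by
    have h2 := hmv a ha
    rw [hvi] at h2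
    rw [hw, ← N.hom _ (aS_lt _) b hb, ← h2]
    calc u * N.θ a * (v * N.θ b) = u * (v * v) * N.θ a * v * N.θ b := by rw [hv]; group
      _ = _ := by group
  have sq : ∀ {x : S.X} {M a : ℕ}, glB M = true → N.Mp x M → a < 64 →
      x * N.θ a * (x * N.θ a) = x * x * N.θ (aS (gInv M) a ^^^ a) := fun {x M a} hM hx ha => by
    have h2 := N.mp_inv hM hx a ha
    rw [← N.hom _ (aS_lt _) a ha, ← h2]
    group
  rw [e1, sq g103 hmuv hwlt]
  set w' := aS (gInv 103) w ^^^ w with hw'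
  have hinv458 : gInv 458 = 458 := by decide +kernel
  rw [sq g458 hmT (xor_lt_64 (aS_lt _) hwlt), hinv458, hTT, N.hom r hrlt _ (xor_lt_64 (aS_lt _)
    (xor_lt_64 (aS_lt _) hwlt))]
  have : r = aS 458 w' ^^^ w' := by
    rw [hab, hw', Nat.xor_comm (aS (gInv 103) w) w]
    exact Nat.xor_comm _ _
  rw [← this, Nat.xor_self, theta_zero]

theorem card_gl : Nat.card {M : Fin 512 // glB M = true} = 168 := by
  rw [Nat.card_eq_fintype_card]
  decide +kernel

theorem card_d8 : Nat.card {M : Fin 512 // (d8.any fun D => Nat.beq D M) = true} = 8 := by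
  rw [Nat.card_eq_fintype_card]
  decide +kernel

theorem d8_spec {M : ℕ} (h : (d8.any fun D => Nat.beq D M) = true) : glB M = true ∧ M < 512 := by
  simp only [List.any_eq_true, Nat.beq_eq] at h
  obtain ⟨D, hD, rfl⟩ := h
  have h1 := List.all_eq_true.1 chk_d8.1 D hD
  simp only [Bool.and_eq_true] at h1
  exact ⟨h1.1, lt_512_of_glB h1.1⟩

theorem d8_mul {M K : ℕ} (hM : (d8.any fun D => Nat.beq D M) = true) (hK : (d8.any fun D => Nat.beq D K) = true) :
    (d8.any fun D => Nat.beq D (mm M K)) = true := by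
  simp only [List.any_eq_true, Nat.beq_eq] at hM hK
  obtain ⟨D, hD, rfl⟩ := hM
  obtain ⟨E, hE, rfl⟩ := hK
  have h1 := List.all_eq_true.1 chk_d8.1 D hD
  simp only [Bool.and_eq_true, List.all_eq_true] at h1
  exact h1.2 E hE

/-- A set of matrices gives as many cosets of the radical. -/
theorem card_of_set (p : ℕ → Bool) (hp : ∀ M, p M = true → glB M = true) (H : Subgroup S.X)
    (hH : ∀ x, x ∈ H ↔ ∃ M, p M = true ∧ N.Mp x M) :
    Nat.card H = Nat.card {M : Fin 512 // p M = true} * 64 := by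
  classical
  choose l hl using fun (M : {M : Fin 512 // p M = true}) => N.exists_lift (hp _ M.2)
  let f : {M : Fin 512 // p M = true} × Fin 64 → H := fun c =>
    ⟨N.θ c.2 * l c.1, (hH _).2 ⟨_, c.1.2, fun a ha => by
      rw [Maps.mul (N.mp_th c.2.2) (hl c.1) (fun b _ => aS_lt _) a ha]
      dsimp only
      rw [aS_one (aS_lt _)]⟩⟩
  rw [show 64 = Nat.card (Fin 64) by simp, ← Nat.card_prod]
  refine (Nat.card_congr (Equiv.ofBijective f ⟨fun c d h => ?_, fun x => ?_⟩)).symm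
  · have h' : N.θ c.2 * l c.1 = N.θ d.2 * l d.1 := congrArg Subtype.val h
    have e : (c.1.1 : ℕ) = d.1.1 := by
      refine N.mp_unique (x := N.θ c.2 * l c.1) (hp _ c.1.2) (hp _ d.1.2) ?_ ?_
      · intro a ha
        rw [Maps.mul (N.mp_th c.2.2) (hl c.1) (fun b _ => aS_lt _) a ha]
        dsimp only
        rw [aS_one (aS_lt _)]
      · rw [h']
        intro a ha
        rw [Maps.mul (N.mp_th d.2.2) (hl d.1) (fun b _ => aS_lt _) a ha]
        dsimp only
        rw [aS_one (aS_lt _)]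
    have e' : c.1 = d.1 := Subtype.ext (Fin.ext e)
    rw [e', mul_left_inj] at h'
    exact Prod.ext e' (Fin.ext (N.th_eq c.2.2 d.2.2 h'))
  · obtain ⟨M, hM, hx⟩ := (hH _).1 x.2
    have hM' := lt_512_of_glB (hp _ hM)
    obtain ⟨a, ha, hax⟩ := N.eq_mul_of_mp (hp _ hM) hx (hl ⟨⟨M, hM'⟩, hM⟩)
    exact ⟨(⟨⟨M, hM'⟩, hM⟩, ⟨a, ha⟩), Subtype.ext hax.symm⟩

/-- The preimage of the dihedral group. -/
def Ug : Subgroup S.X where
  carrier := {x | ∃ M, (d8.any fun D => Nat.beq D M) = true ∧ N.Mp x M}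
  one_mem' := ⟨273, by decide +kernel, N.mp_one⟩
  mul_mem' := fun {x y} hx hy => by
    obtain ⟨M, hM, hx⟩ := hx
    obtain ⟨K, hK, hy⟩ := hy
    exact ⟨mm M K, d8_mul hM hK, N.mp_mul (d8_spec hM).1 (d8_spec hK).1 hx hy⟩
  inv_mem' := fun {x} hx => by
    obtain ⟨M, hM, hx⟩ := hx
    have : ∀ D ∈ d8, (d8.any fun E => Nat.beq E (gInv D)) = true := by decide +kernel
    simp only [List.any_eq_true, Nat.beq_eq] at hM
    obtain ⟨D, hD, rfl⟩ := hM
    exact ⟨gInv D, this D hD, N.mp_inv (d8_spec (by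
      simp only [List.any_eq_true, Nat.beq_eq]; exact ⟨D, hD, rfl⟩)).1 hx⟩

theorem exists_complement [Finite G] : ∃ H : Subgroup S.X, (∀ x ∈ H, x ∈ N.Pg) ∧ (∀ x ∈ H, x ∈ N.Rg → x = 1) ∧
    ∀ x ∈ N.Pg, ∃ h ∈ H, x * h⁻¹ ∈ N.Rg := by
  classical
  obtain ⟨u, v, hu, hv, hmu, hmv, h4⟩ := N.exists_dihedral
  have g266 : glB 266 = true := by decide +kernel
  have g124 : glB 124 = true := by decide +kernel
  set w := u * v with hw
  have hmw : N.Mp w 103 := by
    have := N.mp_mul g266 g124 hmu hmv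
    rwa [chk_d8.2.2.2.1] at this
  have hw4 : w ^ 4 = 1 := by simpa only [show (4 : ℕ) = 2 + 2 from rfl, pow_add, sq] using h4
  have huw : u * w = w⁻¹ * u := by
    rw [hw, mul_inv_rev, inv_eq_of_mul_eq_one_right hu, inv_eq_of_mul_eq_one_right hv, ← mul_assoc, hu, one_mul,
      mul_assoc, hu, mul_one]
  let A : Subgroup S.X :=
    { carrier := {x | ∃ i < 4, x = w ^ i ∨ x = w ^ i * u}
      one_mem' := ⟨0, by norm_num, Or.inl (pow_zero w).symm⟩
      mul_mem' := by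
        have hpow : ∀ n : ℕ, w ^ n = w ^ (n % 4) := fun n => by
          conv_lhs => rw [← Nat.div_add_mod n 4, pow_add, pow_mul, hw4, one_pow, one_mul]
        have hconj : ∀ j : ℕ, u * w ^ j = w ^ (3 * j) * u := fun j => by
          have h3 : w⁻¹ = w ^ 3 := by
            refine inv_eq_of_mul_eq_one_right ?_
            rw [← pow_succ', hw4]
          induction j with
          | zero => simp
          | succ j ih => rw [pow_succ, ← mul_assoc, ih, mul_assoc, huw, h3, ← mul_assoc, ← pow_add, Nat.mul_succ]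
        rintro x y ⟨i, -, rfl | rfl⟩ ⟨j, -, rfl | rfl⟩
        · exact ⟨(i + j) % 4, Nat.mod_lt _ (by norm_num), Or.inl (by rw [← pow_add, ← hpow])⟩
        · exact ⟨(i + j) % 4, Nat.mod_lt _ (by norm_num), Or.inr (by rw [← mul_assoc, ← pow_add, ← hpow])⟩
        · exact ⟨(i + 3 * j) % 4, Nat.mod_lt _ (by norm_num), Or.inr (by
            rw [mul_assoc, hconj, ← mul_assoc, ← pow_add, ← hpow])⟩
        · exact ⟨(i + 3 * j) % 4, Nat.mod_lt _ (by norm_num), Or.inl (by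
            rw [mul_assoc, ← mul_assoc u, hconj, mul_assoc (w ^ (3 * j)), hu, mul_one, ← pow_add, ← hpow])⟩
      inv_mem' := by
        rintro x ⟨i, hi, rfl | rfl⟩
        · refine ⟨(4 - i) % 4, Nat.mod_lt _ (by norm_num), Or.inl (inv_eq_of_mul_eq_one_right ?_)⟩
          rw [← pow_add]
          rcases (show i + (4 - i) % 4 = 0 ∨ i + (4 - i) % 4 = 4 by omega) with e | e <;> rw [e]
          · exact pow_zero w
          · exact hw4
        · refine ⟨i, hi, Or.inr (inv_eq_of_mul_eq_one_right ?_)⟩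
          have h3 : w⁻¹ = w ^ 3 := by
            refine inv_eq_of_mul_eq_one_right ?_
            rw [← pow_succ', hw4]
          have hc : u * w ^ i = (w ^ i)⁻¹ * u := by
            have hu' : u * w * u⁻¹ = w⁻¹ := by rw [huw, mul_inv_cancel_right]
            have h5 : (u * w * u⁻¹) ^ i = u * w ^ i * u⁻¹ := conj_pow
            rw [hu', inv_pow] at h5
            rw [h5, inv_mul_cancel_right]
          rw [mul_assoc, ← mul_assoc u, hc, mul_assoc (w ^ i)⁻¹, hu, mul_one, mul_inv_cancel] }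
  -- their matrices
  have hmats : ∀ x ∈ A, ∃ M, (d8.any fun D => Nat.beq D M) = true ∧ N.Mp x M ∧ (M = 273 → x = 1) := by
    have g103 : glB 103 = true := by decide +kernel
    have hp : ∀ i, ∃ M, glB M = true ∧ N.Mp (w ^ i) M ∧ M = (Nat.rec 273 (fun _ r => mm r 103) i) := by
      intro i
      induction i with
      | zero => exact ⟨273, chk_glL.2.2.2.1, by rw [pow_zero]; exact N.mp_one, rfl⟩
      | succ i ih =>
        obtain ⟨M, hM, hMm, he⟩ := ih
        exact ⟨mm M 103, (mm_gl hM g103).1, by rw [pow_succ]; exact N.mp_mul hM g103 hMm hmw, by rw [he]⟩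
    rintro x ⟨i, hi, rfl | rfl⟩
    · obtain ⟨M, hM, hMm, he⟩ := hp i
      refine ⟨M, ?_, hMm, fun h => ?_⟩
      · rw [he]; interval_cases i <;> decide +kernel
      · rw [he] at h
        interval_cases i
        · exact pow_zero w
        all_goals exact absurd h (by decide +kernel)
    · obtain ⟨M, hM, hMm, he⟩ := hp i
      refine ⟨mm M 266, ?_, N.mp_mul hM g266 hMm hmu, fun h => ?_⟩
      · rw [he]; interval_cases i <;> decide +kernel
      · rw [he] at h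
        interval_cases i <;> exact absurd h (by decide +kernel)
  haveI : Finite S.X := inferInstance
  set P := N.Pg
  set K : Subgroup P := N.Rg.subgroupOf P with hK
  set U : Subgroup P := N.Ug.subgroupOf P with hU
  have hUP : N.Ug ≤ P := fun x hx => by
    obtain ⟨M, hM, hx⟩ := hx; exact ⟨M, (d8_spec hM).1, hx⟩
  have hRU : N.Rg ≤ N.Ug := fun x hx => by
    obtain ⟨a, ha, rfl⟩ := hx; exact ⟨273, by decide +kernel, N.mp_th ha⟩
  haveI : K.Normal := ⟨fun r hr g => by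
    obtain ⟨a, ha, hax⟩ := N.mem_Rg.1 (Subgroup.mem_subgroupOf.1 hr)
    obtain ⟨M, hM, hg⟩ := g.2
    refine Subgroup.mem_subgroupOf.2 (N.mem_Rg.2 ⟨aS M a, aS_lt _, ?_⟩)
    show N.θ (aS M a) = (g : S.X) * r * (g : S.X)⁻¹
    rw [← hax, hg a ha]⟩
  haveI : IsMulCommutative K := ⟨⟨fun x y => by
    obtain ⟨a, ha, hax⟩ := N.mem_Rg.1 (Subgroup.mem_subgroupOf.1 x.2)
    obtain ⟨b, hb, hby⟩ := N.mem_Rg.1 (Subgroup.mem_subgroupOf.1 y.2)
    apply Subtype.ext; apply Subtype.ext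
    show ((x : P) : S.X) * (y : P) = (y : P) * (x : P)
    rw [← hax, ← hby, N.th_comm ha hb]⟩⟩
  have hcardP : Nat.card P = 168 * 64 := by rw [N.card_of_set glB (fun _ h => h) P (fun _ => Iff.rfl), card_gl]
  have hcardU : Nat.card N.Ug = 8 * 64 := by
    rw [N.card_of_set _ (fun M h => (d8_spec h).1) N.Ug (fun _ => Iff.rfl), card_d8]
  have hidx : U.index = 21 := by
    have h1 := U.card_mul_index
    rw [hcardP, hU, Nat.card_congr (Subgroup.subgroupOfEquivOfLe hUP).toEquiv, hcardU] at h1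
    rw [hU]
    omega
  have hcardK : Nat.card K = 64 := by
    rw [hK, Nat.card_congr (Subgroup.subgroupOfEquivOfLe (hRU.trans hUP)).toEquiv]
    rw [show 64 = Nat.card (Fin 64) by simp]
    refine (Nat.card_congr (Equiv.ofBijective (fun a : Fin 64 => (⟨N.θ a, a, a.2, rfl⟩ : N.Rg))
      ⟨fun a b h => Fin.ext (N.th_eq a.2 b.2 (congrArg Subtype.val h)), fun x => ?_⟩)).symm
    obtain ⟨a, ha, hax⟩ := N.mem_Rg.1 x.2
    exact ⟨⟨a, ha⟩, Subtype.ext hax⟩
  have hAU : A ≤ N.Ug := fun x hx => by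
    obtain ⟨M, hM, hMm, -⟩ := hmats x hx; exact ⟨M, hM, hMm⟩
  obtain ⟨H, hH⟩ := SolvGaschutz.existence (K := K) (U := U) (A := A.subgroupOf P)
    (fun x hx => Subgroup.mem_subgroupOf.2 (hRU (Subgroup.mem_subgroupOf.1 hx)))
    (by rw [hcardK, hidx]; decide +kernel)
    (fun x hx => Subgroup.mem_subgroupOf.2 (hAU (Subgroup.mem_subgroupOf.1 hx)))
    (by
      rw [eq_bot_iff]
      intro x hx
      obtain ⟨hxA, hxR⟩ := Subgroup.mem_inf.1 hx
      obtain ⟨M, hM, hMm, h1⟩ := hmats _ (Subgroup.mem_subgroupOf.1 hxA)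
      obtain ⟨a, ha, hax⟩ := N.mem_Rg.1 (Subgroup.mem_subgroupOf.1 hxR)
      exact Subgroup.mem_bot.2 (Subtype.ext (h1 (N.mp_unique (d8_spec hM).1 chk_glL.2.2.2.1 hMm
        (hax ▸ N.mp_th ha)))))
    (by
      refine le_antisymm (sup_le (fun x hx => Subgroup.mem_subgroupOf.2 (hRU (Subgroup.mem_subgroupOf.1 hx)))
        (fun x hx => Subgroup.mem_subgroupOf.2 (hAU (Subgroup.mem_subgroupOf.1 hx)))) fun x hx => ?_
      obtain ⟨M, hM, hx'⟩ := Subgroup.mem_subgroupOf.1 hx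
      obtain ⟨i, hi, b, hMe⟩ : ∃ i < 4, ∃ b : Bool, M = mm (Nat.rec 273 (fun _ r => mm r 103) i)
          (bif b then 266 else 273) := by
        simp only [List.any_eq_true, Nat.beq_eq] at hM
        obtain ⟨D, hD, rfl⟩ := hM
        have : ∀ D ∈ d8, ∃ i : Fin 4, ∃ b : Bool, D = mm (Nat.rec 273 (fun _ r => mm r 103) (i : ℕ))
            (bif b then 266 else 273) := by decide +kernel
        obtain ⟨i, b, h⟩ := this D hD
        exact ⟨i, i.2, b, h⟩
      have g103 : glB 103 = true := by decide +kernel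
      have hp : ∀ n, N.Mp (w ^ n) (Nat.rec 273 (fun _ r => mm r 103) n) ∧
          glB (Nat.rec 273 (fun _ r => mm r 103) n) = true := fun n => by
        induction n with
        | zero => exact ⟨by rw [pow_zero]; exact N.mp_one, chk_glL.2.2.2.1⟩
        | succ n ih => exact ⟨by rw [pow_succ]; exact N.mp_mul ih.2 g103 ih.1 hmw, (mm_gl ih.2 g103).1⟩
      obtain ⟨y, hyA, hy⟩ : ∃ y ∈ A, N.Mp y M := by
        cases b
        · refine ⟨w ^ i, ⟨i, hi, Or.inl rfl⟩, ?_⟩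
          rw [hMe, ← mul_one (w ^ i)]
          exact N.mp_mul (hp i).2 chk_glL.2.2.2.1 (hp i).1 N.mp_one
        · refine ⟨w ^ i * u, ⟨i, hi, Or.inr rfl⟩, ?_⟩
          rw [hMe]
          exact N.mp_mul (hp i).2 g266 (hp i).1 hmu
      obtain ⟨a, ha, hax⟩ := N.eq_mul_of_mp (d8_spec hM).1 hx' hy
      have hyP : y ∈ P := hUP (hAU hyA)
      have hRP : N.θ a ∈ P := hUP (hRU ⟨a, ha, rfl⟩)
      rw [show x = (⟨N.θ a, hRP⟩ : P) * ⟨y, hyP⟩ from Subtype.ext hax]
      exact mul_mem (Subgroup.mem_sup_left (Subgroup.mem_subgroupOf.2 ⟨a, ha, rfl⟩))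
        (Subgroup.mem_sup_right (Subgroup.mem_subgroupOf.2 hyA)))
  refine ⟨H.map P.subtype, ?_, ?_, ?_⟩
  · rintro x ⟨y, -, rfl⟩; exact y.2
  · rintro x ⟨y, hy, rfl⟩ hR
    have : y ∈ K ⊓ H := ⟨Subgroup.mem_subgroupOf.2 hR, hy⟩
    rw [hH.disjoint.eq_bot, Subgroup.mem_bot] at this
    rw [this]; rfl
  · intro x hx
    obtain ⟨⟨⟨k, hk⟩, ⟨h, hh⟩⟩, hkh⟩ := hH.2 ⟨x, hx⟩
    refine ⟨h, ⟨h, hh, rfl⟩, ?_⟩
    have e : (k : S.X) * h = x := congrArg Subtype.val hkh
    rw [← e, mul_inv_cancel_right]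
    exact Subgroup.mem_subgroupOf.1 hk

theorem exists_spl [Finite G] (N : Nrm S) : Nonempty (Spl S) := by
  classical
  obtain ⟨H, hHP, hHR, hdec⟩ := N.exists_complement
  have key : ∀ M, glB M = true → ∃ h ∈ H, N.Mp h M := by
    intro M hM
    obtain ⟨x, hx⟩ := N.exists_lift hM
    obtain ⟨h, hh, hR⟩ := hdec x ⟨M, hM, hx⟩
    obtain ⟨a, ha, hax⟩ := N.mem_Rg.1 hR
    refine ⟨h, hh, ?_⟩
    have : h = N.θ a * x := by rw [← N.th_inv ha, hax]; group
    rw [this]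
    intro b hb
    rw [Maps.mul (N.mp_th ha) hx (fun c _ => aS_lt _) b hb]
    dsimp only
    rw [aS_one (aS_lt _)]
  have uniq : ∀ {h k : S.X} {M : ℕ}, glB M = true → h ∈ H → k ∈ H → N.Mp h M → N.Mp k M → h = k := by
    intro h k M hM hh hk h1 h2
    obtain ⟨a, ha, hax⟩ := N.eq_mul_of_mp hM h1 h2
    have h3 : h * k⁻¹ = 1 := hHR _ (mul_mem hh (inv_mem hk)) ⟨a, ha, by rw [hax, mul_inv_cancel_right]⟩
    exact mul_inv_eq_one.1 h3
  let L : ℕ → S.X := fun M => if h : glB M = true then (key M h).choose else 1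
  have hL : ∀ M, glB M = true → L M ∈ H ∧ N.Mp (L M) M := fun M hM => by
    simp only [L, dif_pos hM]; exact (key M hM).choose_spec
  refine ⟨⟨N, L, fun M hM => (hL M hM).2, fun M K hM hK => ?_, ?_, fun x hx => ?_⟩⟩
  · exact uniq (mm_gl hM hK).1 (mul_mem (hL M hM).1 (hL K hK).1) (hL _ (mm_gl hM hK).1).1
      (N.mp_mul hM hK (hL M hM).2 (hL K hK).2) (hL _ (mm_gl hM hK).1).2
  · exact uniq chk_glL.2.2.2.1 (hL _ chk_glL.2.2.2.1).1 (one_mem H) (hL _ chk_glL.2.2.2.1).2 N.mp_one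
  · obtain ⟨M, hM, hMx⟩ := N.exists_mp_of_inN hx
    exact ⟨M, hM, N.eq_mul_of_mp hM hMx (hL M hM).2⟩

end Nrm

end Cfsg.Agent.Co3Inv
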