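import Cfsg.Agent.Lib.Co3Inv.Local

/-!
Recognition of the third Conway group: an element moving `e` to `e z` that centralizes the image of `R₀`.
-/

set_option autoImplicit false
set_option maxRecDepth 100000

namespace Cfsg.Agent.Co3Inv

open Cfsg.Agent.PermCert

theorem in0_spec {a b : ℕ} (ha : a < 384) (hb : b < 384) (a0 : in0 a = true) (b0 : in0 b = true) :
    in0 (hT a b) = true ∧ hcm' a b = true ∧ hT a a ≤ 1 := by
  have h := allBelow_spec _ _ (allBelow_spec _ _ chk_in0.1 a ha) b hb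
  have h' := allBelow_spec _ _ (allBelow_spec _ _ chk_in0.1 a ha) a ha
  simp only [a0, b0, Bool.and_self, Bool.not_true, Bool.false_or, Bool.and_eq_true, Nat.ble_eq] at h h'
  exact ⟨h.1.1, h.1.2, h'.2⟩

theorem in0_mul_one {a : ℕ} (ha : a < 384) (a0 : in0 a = true) : in0 (hT a 1) = true :=
  (in0_spec ha (by norm_num) a0 chk_in0.2.1).1

namespace Setup

variable {G : Type*} [Group G] (S : Setup G)

theorem h_word : ∀ (l : List ℕ) (H : Subgroup G), (∀ x ∈ l, S.h x ∈ H) → ∀ m, S.h (wordAt l m) ∈ H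
  | [], H, _, m => by rw [wordAt, h_zero]; exact one_mem H
  | a :: l, H, hl, m => by
    have ih := h_word l H (fun x hx => hl x (List.mem_cons_of_mem _ hx)) (m / 2)
    rw [wordAt]
    cases m.testBit 0
    · exact ih
    · rw [cond_true, ← h_mul]
      exact mul_mem (hl a List.mem_cons_self) ih

/-- The elements of `R₀`. -/
def R0g : Subgroup G where
  carrier := {x | ∃ n < 384, in0 n = true ∧ S.h n = x}
  one_mem' := ⟨0, by norm_num, by decide +kernel, S.h_zero⟩
  mul_mem' := fun {x y} hx hy => by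
    obtain ⟨a, ha, a0, rfl⟩ := hx
    obtain ⟨b, hb, b0, rfl⟩ := hy
    exact ⟨hT a b, hT_lt a b, (in0_spec ha hb a0 b0).1, (S.h_mul a b).symm⟩
  inv_mem' := fun {x} hx => by
    obtain ⟨a, ha, a0, rfl⟩ := hx
    obtain ⟨-, -, h2⟩ := in0_spec ha ha a0 a0
    rcases Nat.le_one_iff_eq_zero_or_eq_one.1 h2 with h0 | h1
    · exact ⟨a, ha, a0, eq_inv_of_mul_eq_one_left (by rw [h_mul, h0, h_zero])⟩
    · exact ⟨hT a 1, hT_lt a 1, in0_mul_one ha a0, eq_inv_of_mul_eq_one_left (by
        rw [← S.h_mul a 1, mul_assoc, h_one, ← (S.h_comm a).2, ← mul_assoc, h_mul, h1, h_one, S.z_sq])⟩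

theorem mem_R0g {x : G} : x ∈ S.R0g ↔ ∃ n < 384, in0 n = true ∧ S.h n = x := Iff.rfl

/-- A conjugate of `e` commuting with `e` whose product with `e` is one is a neighbour. -/
theorem nb_of_conj {x : G} (h1 : IsConj S.e x) (h2 : x * S.e = S.e * x) (h3 : x * S.z = S.z * x)
    (h4 : IsConj S.e (x * S.e)) (h5 : x ≠ S.e) : ∃ n < 384, nb n = true ∧ S.h n = x := by
  obtain ⟨n, hn, rfl⟩ := S.exists_h h2 h3
  refine ⟨n, hn, ?_, rfl⟩
  replace h4 : hE (hT n 192) = true := (S.conj_h _).1 (by rw [← h_mul, h_e]; exact h4)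
  rw [nb, (S.conj_h n).1 h1, h4, Bool.true_and, Bool.true_and, Bool.not_eq_true', Bool.eq_false_iff]
  intro he
  rw [Nat.beq_eq] at he
  exact h5 (by rw [he, h_e])

/-- Conjugation carrying a neighbour to `e` carries its centralizer in `R₀` into `R₀`. -/
theorem nb_map {c : G} {g n : ℕ} (hg : g < 384) (hgn : nb g = true) (hcz : c * S.z = S.z * c)
    (hcg : c * S.h g * c⁻¹ = S.e) (hce : ∃ m < 384, nb m = true ∧ c * S.e * c⁻¹ = S.h m)
    (hn : n < 384) (n0 : in0 n = true) (hng : hcm n g = true) :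
    ∃ k < 384, in0 k = true ∧ c * S.h n * c⁻¹ = S.h k := by
  obtain ⟨m, hm, hmn, hme⟩ := hce
  have hcomm : c * S.z * c⁻¹ = S.z := by rw [hcz, mul_inv_cancel_right]
  suffices hs : S.h n ∈ S.R0g.comap (MulAut.conj c).toMonoidHom by
    obtain ⟨k, hk, k0, hk'⟩ := S.mem_R0g.1 (Subgroup.mem_comap.1 hs)
    exact ⟨k, hk, k0, by rw [hk']; rfl⟩
  have hnb := allBelow_spec _ _ chk_nb_in0 g hg
  simp only [hgn, Bool.not_true, Bool.false_or, Bool.and_eq_true] at hnb
  obtain ⟨p, hp, hpg⟩ := List.any_eq_true.1 hnb.1.2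
  obtain rfl : p.1 = g := Nat.eq_of_beq_eq_true hpg
  have hc := List.all_eq_true.1 chk_nbGens p hp
  simp only [Bool.and_eq_true, List.all_eq_true] at hc
  obtain ⟨⟨-, hgen⟩, hcov⟩ := hc
  have hw := allBelow_spec _ _ hcov n hn
  rw [n0, hng] at hw
  simp only [Bool.and_self, Bool.not_true, Bool.false_or, List.any_eq_true, Nat.beq_eq] at hw
  obtain ⟨w, -, hw⟩ := hw
  rw [← hw]
  refine S.h_word _ _ (fun f hf => Subgroup.mem_comap.2 ?_) _
  show c * S.h f * c⁻¹ ∈ S.R0g
  have hf' := hgen f hf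
  simp only [Bool.or_eq_true, Bool.and_eq_true, Bool.not_eq_true'] at hf'
  rcases hf' with (h1 | h1) | ⟨⟨⟨h1, h2⟩, h3⟩, h4⟩
  · rw [Nat.eq_of_beq_eq_true h1, h_one, hcomm]
    exact ⟨1, by norm_num, chk_in0.2.1, S.h_one⟩
  · rw [Nat.eq_of_beq_eq_true h1, hcg]
    exact ⟨192, by norm_num, chk_in0.2.2, S.h_e⟩
  · have hfg : S.h f * S.h p.1 = S.h p.1 * S.h f := by
      rw [h_mul, h_mul, Nat.eq_of_beq_eq_true h2]
    obtain ⟨k, hk, hkn, hk'⟩ := S.nb_of_conj (x := c * S.h f * c⁻¹)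
      (((S.conj_h f).2 h1).trans (isConj_iff.2 ⟨c, rfl⟩))
      (by rw [← hcg, show c * S.h f * c⁻¹ * (c * S.h p.1 * c⁻¹) = c * (S.h f * S.h p.1) * c⁻¹ by group, hfg]
          group)
      (by nth_rewrite 1 [← hcomm]
          nth_rewrite 2 [← hcomm]
          rw [show c * S.h f * c⁻¹ * (c * S.z * c⁻¹) = c * (S.h f * S.z) * c⁻¹ by group, (S.h_comm f).2]
          group)
      (by rw [show c * S.h f * c⁻¹ * S.e = c * S.h (hT f p.1) * c⁻¹ by
            rw [← hcg, ← h_mul]; group]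
          exact (((S.conj_h _).2 h3).trans (isConj_iff.2 ⟨c, rfl⟩)))
      (fun he => by
        rw [← hcg, mul_left_inj, mul_right_inj] at he
        have := congrArg (fun k => Nat.beq k p.1) (S.h_inj (lt_of_nbGens hp hf) hg he)
        simp [h4] at this)
    have hk0 := allBelow_spec _ _ chk_nb_in0 k hk
    simp only [hkn, Bool.not_true, Bool.false_or, Bool.and_eq_true] at hk0
    exact ⟨k, hk, hk0.1.1, hk'⟩
where
  lt_of_nbGens {p : ℕ × List ℕ} {f : ℕ} (hp : p ∈ nbGens) (hf : f ∈ p.2) : f < 384 :=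
    (by decide +kernel : ∀ q ∈ nbGens, ∀ x ∈ q.2, x < 384) p hp f hf

/-- An element moving `e` to `e z` and centralizing the image of `R₀`, and a conjugator to a neighbour. -/
theorem exists_swap : ∃ (a y : S.Cz), (a : G) * S.e = S.e * a * S.z ∧
    (QuotientGroup.mk a : S.X) * QuotientGroup.mk a = 1 ∧
    (∀ n < 384, in0 n = true → (QuotientGroup.mk a : S.X) * S.hb n = S.hb n * QuotientGroup.mk a) ∧
    (QuotientGroup.mk y : S.X) * S.ebar * (QuotientGroup.mk y)⁻¹ = S.hb 16 ∧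
    (∀ n < 384, in0 n = true → ∃ m < 384, in0 m = true ∧
      ((QuotientGroup.mk y : S.X) * S.hb n * (QuotientGroup.mk y)⁻¹ = S.hb m ∨
       (QuotientGroup.mk y : S.X) * S.hb n * (QuotientGroup.mk y)⁻¹ = QuotientGroup.mk a * S.hb m)) := by
  obtain ⟨y, hyz, hy⟩ := S.trans (S.h 16) ((S.conj_h 16).2 chk_hT.2.2.2.2.1) (S.h_comm 16).2
  have hyz' : y⁻¹ * S.z = S.z * y⁻¹ := by
    rw [eq_mul_inv_iff_mul_eq, mul_assoc, ← hyz, inv_mul_cancel_left]
  have hcomm : y * S.z * y⁻¹ = S.z := by rw [hyz, mul_inv_cancel_right]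
  -- the preimage of `e`
  obtain ⟨g, hg, hgn, hge⟩ : ∃ g < 384, nb g = true ∧ S.h g = y⁻¹ * S.e * y := by
    have h16 : IsConj S.e (S.h 16 * S.e) := by
      rw [← S.h_e, h_mul, S.h_e, conj_h]; decide +kernel
    refine S.nb_of_conj (isConj_iff.2 ⟨y⁻¹, by rw [inv_inv]⟩) ?_ ?_ ?_ ?_
    · apply mul_left_cancel (a := y)
      apply mul_right_cancel (b := y⁻¹)
      calc y * (y⁻¹ * S.e * y * S.e) * y⁻¹ = S.e * (y * S.e * y⁻¹) := by group
        _ = y * S.e * y⁻¹ * S.e := by rw [hy, (S.h_comm 16).1]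
        _ = y * (S.e * (y⁻¹ * S.e * y)) * y⁻¹ := by group
    · calc y⁻¹ * S.e * y * S.z = y⁻¹ * S.e * (y * S.z) := by group
        _ = y⁻¹ * (S.e * S.z) * y := by rw [hyz]; group
        _ = y⁻¹ * (S.z * S.e) * y := by rw [S.mem_Cz.1 S.e_mem]
        _ = (y⁻¹ * S.z) * (S.e * y) := by group
        _ = S.z * (y⁻¹ * S.e * y) := by rw [hyz']; group
    · refine IsConj.trans h16 (isConj_iff.2 ⟨y⁻¹, ?_⟩)
      rw [← hy, inv_inv]
      calc y⁻¹ * (y * S.e * y⁻¹ * S.e) * y = S.e * (y⁻¹ * S.e * y) := by group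
        _ = _ := by
          apply mul_left_cancel (a := y)
          apply mul_right_cancel (b := y⁻¹)
          calc y * (S.e * (y⁻¹ * S.e * y)) * y⁻¹ = y * S.e * y⁻¹ * S.e := by group
            _ = S.e * (y * S.e * y⁻¹) := by rw [hy, (S.h_comm 16).1]
            _ = _ := by group
    · intro he
      have : S.h 16 = S.h 192 := by
        rw [h_e, ← hy]
        calc y * S.e * y⁻¹ = y * (y⁻¹ * S.e * y) * y⁻¹ := by rw [he]
          _ = S.e := by group
      exact absurd (S.h_inj (by norm_num) (by norm_num) this) (by norm_num)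
  have hyg : y * S.h g * y⁻¹ = S.e := by rw [hge]; group
  obtain ⟨⟨-, -⟩, s, hs, hs'⟩ : (in0 g = true ∧ _) ∧ ∃ s < 384,
      (in0 s = true ∧ hT s g = hT 1 (hT g s)) := by
    have h1 := allBelow_spec _ _ chk_nb_in0 g hg
    simp only [hgn, Bool.not_true, Bool.false_or, Bool.and_eq_true, List.any_eq_true, List.mem_range,
      Nat.beq_eq] at h1
    exact h1
  obtain ⟨hs0, hsg⟩ := hs'
  have hsg' : S.h s * S.h g = S.h g * S.h s * S.z := by
    rw [h_mul, hsg, ← S.h_mul 1, h_one, ← S.h_mul g, mul_assoc _ _ S.z, (S.h_comm s).2, ← mul_assoc,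
      ← mul_assoc (S.h g), (S.h_comm g).2]
  let Y : S.Cz := ⟨y, S.mem_Cz.2 hyz⟩
  let a : S.Cz := Y * ⟨S.h s, S.mem_Cz.2 (S.h_comm s).2⟩ * Y⁻¹
  have hae : (a : G) * S.e = S.e * a * S.z := by
    show y * S.h s * y⁻¹ * S.e = S.e * (y * S.h s * y⁻¹) * S.z
    nth_rewrite 1 [← hyg]
    calc y * S.h s * y⁻¹ * (y * S.h g * y⁻¹) = y * (S.h s * S.h g) * y⁻¹ := by group
      _ = y * (S.h g * S.h s) * (S.z * y⁻¹) := by rw [hsg']; group
      _ = y * S.h g * y⁻¹ * (y * S.h s * y⁻¹) * S.z := by rw [← hyz']; group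
      _ = _ := by rw [hyg]
  have hmk : ∀ n, (QuotientGroup.mk Y : S.X) * S.hb n * (QuotientGroup.mk Y)⁻¹ =
      QuotientGroup.mk (Y * ⟨S.h n, S.mem_Cz.2 (S.h_comm n).2⟩ * Y⁻¹) := fun n => by
    rw [QuotientGroup.mk_mul, QuotientGroup.mk_mul, QuotientGroup.mk_inv]; rfl
  -- the centralizer of `g` in `R₀` is carried into `R₀`
  have hfix : ∀ n < 384, in0 n = true → hcm n g = true → ∃ m < 384, in0 m = true ∧
      (QuotientGroup.mk Y : S.X) * S.hb n * (QuotientGroup.mk Y)⁻¹ = S.hb m := fun n hn n0 hng => by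
    obtain ⟨m, hm, m0, hnm⟩ := S.nb_map hg hgn hyz hyg
      ⟨16, by norm_num, chk_hT.2.2.2.2.2, hy⟩ hn n0 hng
    exact ⟨m, hm, m0, (hmk n).trans (congrArg _ (Subtype.ext hnm))⟩
  -- and the centralizer of `16` comes from it
  have hback : ∀ n < 384, in0 n = true → hcm n 16 = true → ∃ m < 384, in0 m = true ∧
      (QuotientGroup.mk Y : S.X) * S.hb m * (QuotientGroup.mk Y)⁻¹ = S.hb n := fun n hn n0 hng => by
    obtain ⟨m, hm, m0, hnm⟩ := S.nb_map (c := y⁻¹) (g := 16) (by norm_num) chk_hT.2.2.2.2.2 hyz'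
      (by rw [← hy]; group) ⟨g, hg, hgn, by rw [hge, inv_inv]⟩ hn n0 hng
    refine ⟨m, hm, m0, (hmk m).trans (congrArg _ (Subtype.ext ?_))⟩
    show y * S.h m * y⁻¹ = S.h n
    rw [← hnm]; group
  have hr : ∀ n < 384, in0 n = true → (QuotientGroup.mk Y : S.X) * S.hb n * (QuotientGroup.mk Y)⁻¹ *
      QuotientGroup.mk a = QuotientGroup.mk a *
        ((QuotientGroup.mk Y : S.X) * S.hb n * (QuotientGroup.mk Y)⁻¹) := fun n hn n0 => by
    rw [← hmk s, show ∀ p q w : S.X, w * p * w⁻¹ * (w * q * w⁻¹) = w * (p * q) * w⁻¹ from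
      fun p q w => by group, (S.hb_comm_iff n s).2 (in0_spec hn hs n0 hs0).2.1]
    group
  have ha2 : (QuotientGroup.mk a : S.X) * QuotientGroup.mk a = 1 := by
    rw [← hmk s, show ∀ p q w : S.X, w * p * w⁻¹ * (w * q * w⁻¹) = w * (p * q) * w⁻¹ from
      fun p q w => by group, hb_mul]
    have hb1 : S.hb (hT s s) = 1 := by
      rw [← hb_zero, S.hb_eq_iff (hT_lt _ _) (by norm_num)]
      rcases Nat.le_one_iff_eq_zero_or_eq_one.1 (in0_spec hs hs hs0 hs0).2.2 with h0 | h0 <;> rw [h0]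
      · exact Or.inl rfl
      · exact Or.inr (by decide +kernel)
    rw [hb1, mul_one, mul_inv_cancel]
  have ha16 : ∀ n < 384, in0 n = true → hcm n 16 = true →
      (QuotientGroup.mk a : S.X) * S.hb n = S.hb n * QuotientGroup.mk a := fun n hn n0 hng => by
    obtain ⟨m, hm, m0, hmn⟩ := hback n hn n0 hng
    rw [← hmn]
    exact (hr m hm m0).symm
  have hall : ∀ n < 384, in0 n = true →
      (QuotientGroup.mk a : S.X) * S.hb n = S.hb n * QuotientGroup.mk a := by
    intro n hn n0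
    by_cases hng : hcm n 16 = true
    · exact ha16 n hn n0 hng
    set A : S.X := QuotientGroup.mk a
    have hAi : A⁻¹ = A := inv_eq_of_mul_eq_one_left ha2
    -- the conjugate by the swap lies in `R₀`
    have hin : ∀ k < 384, in0 k = true → ∃ l < 384, in0 l = true ∧ (a : G) * S.h k * (a : G)⁻¹ = S.h l := by
      intro k hk k0
      suffices hs : S.h k ∈ S.R0g.comap (MulAut.conj (a : G)).toMonoidHom by
        obtain ⟨l, hl, l0, hl'⟩ := S.mem_R0g.1 (Subgroup.mem_comap.1 hs)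
        exact ⟨l, hl, l0, hl'.symm⟩
      have hw := allBelow_spec _ _ chk_gens0.1 k hk
      simp only [k0, Bool.not_true, Bool.false_or, List.any_eq_true, Nat.beq_eq] at hw
      obtain ⟨w, -, hw⟩ := hw
      rw [← hw]
      refine S.h_word _ _ (fun f hf => Subgroup.mem_comap.2 ?_) _
      show (a : G) * S.h f * (a : G)⁻¹ ∈ S.R0g
      have hf' := List.all_eq_true.1 chk_gens0.2 f hf
      simp only [Bool.or_eq_true] at hf'
      have hflt : f < 384 := (by decide +kernel : ∀ x ∈ gens0, x < 384) f hf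
      have hez : (a : G) * S.e * (a : G)⁻¹ = S.e * S.z := by
        rw [mul_inv_eq_iff_eq_mul, hae, mul_assoc, mul_assoc, S.z_comm a]
      have haz : (a : G) * S.z * (a : G)⁻¹ = S.z := by rw [S.z_comm a, mul_inv_cancel_right]
      rcases hf' with (h1 | h1) | h1
      · rw [Nat.eq_of_beq_eq_true h1, h_one, haz]
        exact ⟨1, by norm_num, chk_in0.2.1, S.h_one⟩
      · rw [Nat.eq_of_beq_eq_true h1, h_e, hez]
        exact ⟨hT 192 1, hT_lt _ _, in0_mul_one (by norm_num) chk_in0.2.2, by rw [← h_mul, h_e, h_one]⟩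
      · simp only [nb, Bool.and_eq_true] at h1
        set x := (a : G) * S.h f * (a : G)⁻¹ with hx
        have hxe : x * S.e = S.e * x := by
          have hfe : S.h f * S.e = S.e * S.h f := (S.h_comm f).1
          have : x * (S.e * S.z) = S.e * S.z * x := by
            rw [hx, ← hez, show (a : G) * S.h f * (a : G)⁻¹ * ((a : G) * S.e * (a : G)⁻¹) =
              a * (S.h f * S.e) * (a : G)⁻¹ by group, hfe]
            group
          have hzx : x * S.z = S.z * x := by
            rw [hx, ← haz, show (a : G) * S.h f * (a : G)⁻¹ * ((a : G) * S.z * (a : G)⁻¹) =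
              a * (S.h f * S.z) * (a : G)⁻¹ by group, (S.h_comm f).2]
            group
          rw [← mul_assoc, mul_assoc S.e, ← hzx, ← mul_assoc, mul_left_inj] at this
          exact this
        have hxz : x * S.z = S.z * x := S.mem_Cz.1 (a * ⟨S.h f, S.mem_Cz.2 (S.h_comm f).2⟩ * a⁻¹).2
        obtain ⟨l, hl, hlx⟩ := S.exists_h hxe hxz
        refine ⟨l, hl, ?_, hlx⟩
        have e1 : hE l = true := (S.conj_h l).1 (by
          rw [hlx]; exact ((S.conj_h f).2 h1.1.1).trans (isConj_iff.2 ⟨a, rfl⟩))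
        have e2 : hE (hT l 193) = true := (S.conj_h _).1 (by
          rw [← h_mul, hlx, show S.h 193 = S.e * S.z by
            rw [← S.h_e, ← h_one, h_mul]; exact congrArg _ (by decide +kernel), ← hez, hx,
            show (a : G) * S.h f * (a : G)⁻¹ * ((a : G) * S.e * (a : G)⁻¹) =
              a * (S.h f * S.e) * (a : G)⁻¹ by group,
            show S.h f * S.e = S.h (hT f 192) by rw [← h_mul, h_e]]
          exact ((S.conj_h _).2 h1.1.2).trans (isConj_iff.2 ⟨a, rfl⟩))
        have h3 := allBelow_spec _ _ chk_ez l hl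
        rw [e1, e2] at h3
        have h4 := allBelow_spec _ _ chk_nb_in0 l hl
        rw [show nb l = true by simpa using h3] at h4
        simp only [Bool.not_true, Bool.false_or, Bool.and_eq_true] at h4
        exact h4.1.1
    obtain ⟨n', hn', n0', hnn⟩ := hin n hn n0
    have hAn : ∀ k k', (a : G) * S.h k * (a : G)⁻¹ = S.h k' → A * S.hb k * A⁻¹ = S.hb k' := fun k k' hk => by
      show QuotientGroup.mk a * QuotientGroup.mk _ * (QuotientGroup.mk a)⁻¹ = QuotientGroup.mk _
      rw [← QuotientGroup.mk_inv, ← QuotientGroup.mk_mul, ← QuotientGroup.mk_mul]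
      exact congrArg _ (Subtype.ext hk)
    have hAn' := hAn n n' hnn
    have hng' : hcm n' 16 = false := by
      rw [Bool.eq_false_iff]
      intro h1
      have h2 := ha16 n' hn' n0' h1
      have h3 : S.hb n = S.hb n' := by
        calc S.hb n = A⁻¹ * (A * S.hb n * A⁻¹) * A := by group
          _ = A⁻¹ * (S.hb n' * A) := by rw [hAn', mul_assoc]
          _ = A⁻¹ * (A * S.hb n') := by rw [h2]
          _ = _ := inv_mul_cancel_left _ _
      rcases (S.hb_eq_iff hn hn').1 h3 with rfl | rfl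
      · exact hng h1
      · apply hng
        rw [hcm, Nat.beq_eq] at h1 ⊢
        apply S.h_inj (hT_lt _ _) (hT_lt _ _)
        have h5 := congrArg S.h h1
        rw [← S.h_mul (hT n 1) 16, ← S.h_mul n 1, ← S.h_mul 16, ← S.h_mul n 1, h_one, mul_assoc (S.h n),
          ← (S.h_comm 16).2, ← mul_assoc, ← mul_assoc, mul_left_inj] at h5
        rw [← h_mul, ← h_mul]
        exact h5
    have hp := allBelow_spec _ _ (allBelow_spec _ _ chk_profile n hn) n' hn'
    rw [n0, n0', Bool.eq_false_iff.2 hng, hng'] at hp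
    simp only [Bool.not_false, Bool.and_self, Bool.not_true, Bool.false_or, Bool.or_eq_true, Nat.beq_eq,
      List.any_eq_true, Bool.and_eq_true, Bool.not_eq_true', beq_eq_false_iff_ne] at hp
    have hconj : A * S.hb n * A⁻¹ = S.hb n := by
      rcases hp with (rfl | rfl) | ⟨u, hu, ⟨u0, hu16⟩, hdiff⟩
      · exact hAn'
      · rw [hAn']
        exact ((S.hb_eq_iff hn (hT_lt _ _)).2 (Or.inr rfl)).symm
      · exfalso
        have hu' := List.mem_range.1 hu
        have he : A * S.hb (hT n u) * A⁻¹ = S.hb (hT n' u) := by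
          rw [← hb_mul, ← hb_mul, show A * (S.hb n * S.hb u) * A⁻¹ = A * S.hb n * A⁻¹ * (A * S.hb u * A⁻¹) by
            group, hAn', ha16 u hu' u0 hu16, mul_inv_cancel_right]
        rcases hdiff with hd | hd
        · exact hd (by
            refine Bool.eq_iff_iff.2 ((S.Kx_hb (hT n u)).symm.trans (Iff.trans ?_ (S.Kx_hb (hT n' u))))
            rw [← he]
            exact (S.Kx_conj A (S.hb (hT n u))).symm)
        · exact hd (by rw [← S.qx_hb, ← S.qx_hb, ← he, S.qx_conj])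
    exact mul_inv_eq_iff_eq_mul.1 hconj
  refine ⟨a, Y, hae, ha2, hall, ?_, fun n hn n0 => ?_⟩
  · rw [← hb_e, hmk]
    exact congrArg _ (Subtype.ext (show y * S.h 192 * y⁻¹ = S.h 16 by rw [h_e, hy]))
  by_cases hng : hcm n g = true
  · obtain ⟨m, hm, m0, hnm⟩ := hfix n hn n0 hng
    exact ⟨m, hm, m0, Or.inl hnm⟩
  · have hns := in0_spec hn hs n0 hs0
    have hsn : hcm (hT s n) g = true := by
      rw [hcm, Nat.beq_eq]
      apply S.h_inj (hT_lt _ _) (hT_lt _ _)
      rw [← S.h_mul (hT s n) g, ← S.h_mul g, ← S.h_mul s n]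
      have hgg : S.h n * S.h g = S.h g * S.h n * S.z := by
        have hgin : in0 g = true := by
          have h1 := allBelow_spec _ _ chk_nb_in0 g hg
          simp only [hgn, Bool.not_true, Bool.false_or, Bool.and_eq_true] at h1
          exact h1.1.1
        have h2 := (in0_spec hn hg n0 hgin).2.1
        simp only [hcm', Bool.or_eq_true, Nat.beq_eq] at h2
        rcases h2 with h2 | h2
        · exact absurd h2 hng
        · rw [h_mul, h2, ← S.h_mul 1, h_one, ← (S.h_comm _).2, ← h_mul]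
      calc S.h s * S.h n * S.h g = S.h s * (S.h g * S.h n * S.z) := by rw [mul_assoc, hgg]
        _ = S.h s * S.h g * (S.h n * S.z) := by group
        _ = S.h g * S.h s * (S.z * S.h n * S.z) := by rw [hsg']; group
        _ = S.h g * (S.h s * S.h n) := by
          rw [← (S.h_comm n).2, mul_assoc (S.h n), S.z_sq, mul_one, mul_assoc]
    obtain ⟨m, hm, m0, hnm⟩ := hfix (hT s n) (hT_lt _ _) (in0_spec hs hn hs0 n0).1 hsn
    refine ⟨m, hm, m0, Or.inr ?_⟩
    rw [← hnm, ← hb_mul, ← hmk s]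
    have hb1 : S.hb s * S.hb s = 1 := by
      have := ha2
      rw [← hmk s, show ∀ p q w : S.X, w * p * w⁻¹ * (w * q * w⁻¹) = w * (p * q) * w⁻¹ from
        fun p q w => by group, mul_inv_eq_one, mul_eq_left] at this
      exact this
    calc (QuotientGroup.mk Y : S.X) * S.hb n * (QuotientGroup.mk Y)⁻¹
        = QuotientGroup.mk Y * (S.hb s * S.hb s * S.hb n) * (QuotientGroup.mk Y)⁻¹ := by rw [hb1, one_mul]
      _ = _ := by group

end Setup

end Cfsg.Agent.Co3Inv
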