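import Cfsg.Agent.Lib.Co3Inv.Setup

/-!
Recognition of the third Conway group: the centralizer of `e` and `z` as 384 codes, the radical `R₀` of the
neighbours of `e`, and the checked facts on both.
-/

set_option autoImplicit false
set_option maxRecDepth 100000

namespace Cfsg.Agent.Co3Inv

open Cfsg.Agent.M12Cent (T isR)
open Cfsg.Agent.PermCert

/-- The product of two codes; the code of `el s i` is `i + 192 s`. -/
def hT (a b : ℕ) : ℕ :=
  (bif xor (Nat.ble 192 a) (Nat.ble 192 b) then 192 else 0) + T (a % 192) (b % 192)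

/-- The code is a conjugate of `e`. -/
def hE (a : ℕ) : Bool := isE (Nat.ble 192 a) (a % 192)

/-- The code, up to `z`, is a conjugate of `e`. -/
def hK (a : ℕ) : Bool := hE a || hE (hT a 1)

/-- The square of the code is `z`. -/
def hQ (a : ℕ) : Bool := Nat.beq (hT a a) 1

/-- The two codes commute. -/
def hcm (a b : ℕ) : Bool := Nat.beq (hT a b) (hT b a)

/-- The two codes commute up to `z`. -/
def hcm' (a b : ℕ) : Bool := hcm a b || Nat.beq (hT a b) (hT 1 (hT b a))

/-- The code is in `R₀`. -/
def in0 (a : ℕ) : Bool := Nat.testBit 17298269874326283879 (a % 192)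

/-- The code is a neighbour of `e`. -/
def nb (a : ℕ) : Bool := hE a && hE (hT a 192) && !Nat.beq a 192

/-- Generators of `R₀`. -/
def gens0 : List ℕ := [1, 192, 16, 17, 28, 30]

/-- Generators of the centralizer of a neighbour in `R₀`. -/
def nbGens : List (ℕ × List ℕ) := [(16, [1, 16, 28, 192, 194]), (17, [1, 17, 30, 192, 194]),
  (28, [1, 28, 16, 192, 197]), (30, [1, 30, 17, 192, 197]), (34, [1, 34, 16, 192, 198]),
  (39, [1, 39, 17, 192, 198]), (42, [1, 42, 17, 192, 198]), (47, [1, 47, 16, 192, 198]),
  (50, [1, 50, 30, 192, 194]), (51, [1, 51, 28, 192, 194]), (61, [1, 61, 17, 192, 197]),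
  (63, [1, 63, 16, 192, 197]), (208, [1, 208, 16, 17, 28]), (209, [1, 209, 16, 17, 30]),
  (220, [1, 220, 16, 28, 30]), (222, [1, 222, 17, 28, 30]), (226, [1, 226, 16, 28, 39]),
  (231, [1, 231, 17, 30, 34]), (234, [1, 234, 17, 30, 34]), (239, [1, 239, 16, 28, 39]),
  (242, [1, 242, 16, 17, 30]), (243, [1, 243, 16, 17, 28]), (253, [1, 253, 17, 28, 30]),
  (255, [1, 255, 16, 28, 30])]

/-- A product of some of the codes of a list. -/
def wordAt : List ℕ → ℕ → ℕ
  | [], _ => 0
  | a :: l, m => bif m.testBit 0 then hT a (wordAt l (m / 2)) else wordAt l (m / 2)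

theorem chk_in0 : allBelow (fun a => allBelow (fun b => !(in0 a && in0 b) ||
    (in0 (hT a b) && hcm' a b && Nat.ble (hT a a) 1)) 384) 384 = true ∧
    in0 1 = true ∧ in0 192 = true := by decide +kernel

theorem chk_nb_in0 : allBelow (fun a => !nb a ||
    (in0 a && (nbGens.any fun p => Nat.beq p.1 a) &&
      (List.range 384).any fun s => in0 s && Nat.beq (hT s a) (hT 1 (hT a s)))) 384 = true := by
  decide +kernel

theorem chk_gens0 : allBelow (fun a => !in0 a ||
    (List.range 64).any fun m => Nat.beq (wordAt gens0 m) a) 384 = true ∧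
    gens0.all (fun x => Nat.beq x 1 || Nat.beq x 192 || nb x) = true := by decide +kernel

theorem chk_nbGens : nbGens.all (fun p => nb p.1 &&
    p.2.all (fun f => Nat.beq f 1 || Nat.beq f p.1 ||
      (hE f && hcm f p.1 && hE (hT f p.1) && !Nat.beq f p.1)) &&
    allBelow (fun a => !(in0 a && hcm a p.1) ||
      (List.range 32).any fun m => Nat.beq (wordAt p.2 m) a) 384) = true := by decide +kernel

theorem chk_ez : allBelow (fun a => !(hE a && hE (hT a 193)) || nb a) 384 = true := by decide +kernel

theorem chk_cent : allBelow (fun a => !(gens0.all fun x => hcm' a x) || in0 a) 384 = true := by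
  decide +kernel

theorem chk_profile : allBelow (fun a => allBelow (fun b => !(in0 a && in0 b && !hcm a 16 && !hcm b 16) ||
    Nat.beq a b || Nat.beq b (hT a 1) ||
    (List.range 384).any fun u => in0 u && hcm u 16 &&
      (!(hK (hT a u) == hK (hT b u)) || !(hQ (hT a u) == hQ (hT b u)))) 384) 384 = true := by
  decide +kernel

theorem chk_hT : allBelow (fun a => allBelow (fun b => Nat.blt (hT a b) 384) 2) 384 = true ∧
    hT 1 1 = 0 ∧ hT 192 192 = 0 ∧ hE 193 = true ∧ hE 16 = true ∧ nb 16 = true := by decide +kernel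

end Cfsg.Agent.Co3Inv
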