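import Cfsg.Agent.Lib.Co3Inv.CentZ
import Cfsg.Agent.S1678

/-!
Recognition of the third Conway group: the group of a configuration.
-/

set_option autoImplicit false

namespace Cfsg.Agent.Co3Inv

/-- A group with the configuration, without core and without centre, is the third Conway group. -/
theorem Setup.isoCo3 {G : Type*} [Group G] [Finite G] (S : Setup G) (hO : Cfsg.oddCore G = ⊥)
    (hZ : Subgroup.center G = ⊥) : Cfsg.Spor.IsoCo3 G :=
  S1678.result hO hZ S.z (orderOf_eq_prime (by rw [pow_two, S.z_sq]) S.z_ne) S.cent_z

end Cfsg.Agent.Co3Inv
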